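import Cfsg.Agent.H53.OCLocA
import Cfsg.Agent.H85.Minimal

/-! Interfaces for the project FPF: coprime operator groups whose fixed point subgroup is the
direct product of a `2`-group and a group of odd order. -/

set_option autoImplicit false

namespace Cfsg.Agent.H85.FP

open Subgroup Cfsg Cfsg.Agent.H83 Cfsg.Agent.H53.OC
open scoped commutatorElement

universe u

section Defs

variable {Γ : Type u} [Group Γ]

/-- In `C_G(A)` elements of odd order commute with `2`-elements. -/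
def Fx (G A : Subgroup Γ) : Prop :=
  ∀ x ∈ G ⊓ centralizer (A : Set Γ), ∀ t ∈ G ⊓ centralizer (A : Set Γ), Odd (orderOf x) →
    (∃ k : ℕ, t ^ 2 ^ k = 1) → x * t = t * x

/-- The global hypothesis. -/
structure Hyp (G A : Subgroup Γ) : Prop where
  cop : (Nat.card A).Coprime (Nat.card G)
  AG : A ≤ normalizer (G : Set Γ)
  fx : Fx G A

/-- `b` induces on `R` an automorphism of order at most two with `|R : C_R(b)| ≤ 4`. -/
structure Small (R : Subgroup Γ) (b : Γ) : Prop where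
  nrm : b ∈ normalizer (R : Set Γ)
  sq : b * b ∈ centralizer (R : Set Γ)
  card : Nat.card R ≤ 4 * Nat.card ↥(R ⊓ centralizer ({b} : Set Γ))

/-- `b` lies in `O₂(H mod C(R))`. -/
def Rad (H R : Subgroup Γ) (b : Γ) : Prop :=
  ∃ K : Subgroup Γ, b ∈ K ∧ K ≤ H ∧ H ≤ normalizer (K : Set Γ) ∧ PMod 2 K (centralizer (R : Set Γ))

/-- `O₂(H mod C(R))` centralizes `R`. -/
def Red (H R : Subgroup Γ) : Prop :=
  ∀ K : Subgroup Γ, K ≤ H → H ≤ normalizer (K : Set Γ) → PMod 2 K (centralizer (R : Set Γ)) →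
    K ≤ centralizer (R : Set Γ)

/-- What the construction of `Y` uses about the operator group. -/
structure Env (G A S : Subgroup Γ) : Prop where
  AG : A ≤ normalizer (G : Set Γ)
  syl : IsSylowIn 2 S G
  AS : A ≤ normalizer (S : Set Γ)
  sol : ∀ U : Subgroup Γ, U ≤ S → U ≠ ⊥ → S ≤ normalizer (U : Set Γ) →
    A ≤ normalizer (U : Set Γ) → Group.IsSolvable ↥(G ⊓ normalizer (U : Set Γ))
  ns : ∀ R : Subgroup Γ, R ≤ S → IsElementaryAbelian 2 R → S ≤ normalizer (R : Set Γ) →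
    A ≤ normalizer (R : Set Γ) → ∀ b ∈ G, Small R b → Rad (G ⊓ normalizer (R : Set Γ)) R b

/-- What the final contradictions use about the operator group. -/
structure EnvF (G A S : Subgroup Γ) : Prop where
  odd : Odd (Nat.card A)
  AG : A ≤ normalizer (G : Set Γ)
  AS : A ≤ normalizer (S : Set Γ)
  sol : ∀ U : Subgroup Γ, U ≤ S → U ≠ ⊥ → A ≤ normalizer (U : Set Γ) →
    Group.IsSolvable ↥(G ⊓ normalizer (U : Set Γ))
  ns : ∀ R : Subgroup Γ, R ≤ S → IsElementaryAbelian 2 R → A ≤ normalizer (R : Set Γ) →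
    ∀ b ∈ G, Small R b → Rad (G ⊓ normalizer (R : Set Γ)) R b

/-- `H ≤ O · N(Y)` with `O` a normal subgroup of odd order of `H`. -/
def OFac (H Y : Subgroup Γ) : Prop :=
  ∃ O : Subgroup Γ, O ≤ H ∧ H ≤ normalizer (O : Set Γ) ∧ Odd (Nat.card O) ∧
    ∀ n ∈ H, ∃ o ∈ O, o⁻¹ * n ∈ normalizer (Y : Set Γ)

/-- The largest invariant reduced elementary abelian normal subgroup of `S`. -/
structure YA (G A S Y : Subgroup Γ) : Prop where
  le : Y ≤ S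
  ne : Y ≠ ⊥
  ea : IsElementaryAbelian 2 Y
  AY : A ≤ normalizer (Y : Set Γ)
  nJ : G ⊓ normalizer (thompsonSubgroupOf 2 S : Set Γ) ≤ normalizer (Y : Set Γ)
  red : Red (G ⊓ normalizer (Y : Set Γ)) Y

/-- `Y` is normal modulo the core in all invariant `2`-local subgroups over `S`. -/
structure YD (G A S Y : Subgroup Γ) : Prop where
  le : Y ≤ S
  ne : Y ≠ ⊥
  ea : IsElementaryAbelian 2 Y
  nS : G ⊓ normalizer (S : Set Γ) ≤ normalizer (Y : Set Γ)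
  loc : ∀ U : Subgroup Γ, U ≤ S → U ≠ ⊥ → S ≤ normalizer (U : Set Γ) →
    A ≤ normalizer (U : Set Γ) → OFac (G ⊓ normalizer (U : Set Γ)) Y

/-- A minimal invariant overgroup `P` of `S` which does not normalize `Y O`;
`M` is the unique maximal invariant overgroup of `S` in `P`. -/
structure MP (G A S Y P O M : Subgroup Γ) : Prop where
  PG : P ≤ G
  SP : S ≤ P
  AP : A ≤ normalizer (P : Set Γ)
  sol : Group.IsSolvable P
  OP : O ≤ P
  PO : P ≤ normalizer (O : Set Γ)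
  AO : A ≤ normalizer (O : Set Γ)
  odd : Odd (Nat.card O)
  cen : P ⊓ centralizer (pCoreOf 2 P : Set Γ) ≤ pCoreOf 2 P ⊔ O
  core : ∀ D : Subgroup Γ, D ≤ S → P ≤ normalizer ((D ⊔ O : Subgroup Γ) : Set Γ) → D ≤ pCoreOf 2 P
  hM : M = P ⊓ normalizer ((Y ⊔ O : Subgroup Γ) : Set Γ)
  nn : ¬ P ≤ M
  min : ∀ K : Subgroup Γ, S ≤ K → K < P → A ≤ normalizer (K : Set Γ) → K ≤ M

/-- The dihedral configuration: `B₀` is a hyperplane of `B` over `B ⊓ Q`, and `y ∉ M` has odd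
order, normalizes `Q₁ = B₀ Q` and lies in `⟨c, c^y⟩ Q₁ O` for all `c ∈ B \ B₀`. -/
structure Dih (P O M B B₀ : Subgroup Γ) (y : Γ) : Prop where
  le : B₀ ≤ B
  ge : B ⊓ pCoreOf 2 P ≤ B₀
  card : Nat.card B = 2 * Nat.card B₀
  yP : y ∈ P
  yM : y ∉ M
  odd : Odd (orderOf y)
  nrm : y ∈ normalizer ((B₀ ⊔ pCoreOf 2 P : Subgroup Γ) : Set Γ)
  ti : ∀ c ∈ B, c ∉ B₀ → ∃ δ ∈ closure ({c, y * c * y⁻¹} : Set Γ),
    ∃ m ∈ B₀ ⊔ pCoreOf 2 P, ∃ o ∈ O ⊓ centralizer ((B₀ ⊔ pCoreOf 2 P : Subgroup Γ) : Set Γ),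
      δ = y * m * o

/-- A natural module `U` over a field with more than two elements inside the `2`-group `S`. -/
structure OrbB (S T T₀ E U I : Subgroup Γ) : Prop where
  two : IsPGroup 2 S
  TS : T < S
  ET : E ≤ T
  TE : T ≤ normalizer (E : Set Γ)
  UV : U ≤ OZ 2 E
  IU : I ≤ U
  q2 : ∃ v ∈ U, ∃ w ∈ U, v ∉ I ∧ w ∉ I ∧ v * w ∉ I
  ge : T ⊓ centralizer (U : Set Γ) ≤ T₀
  le : T₀ ≤ T ⊓ normalizer (U : Set Γ)
  card : Nat.card T₀ * Nat.card I = Nat.card U * Nat.card ↥(T ⊓ centralizer (U : Set Γ))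
  quad : ∀ t ∈ T₀, t ∉ centralizer (U : Set Γ) → ∀ v ∈ U,
    ⁅v, t⁆ ∈ sq (T ⊓ centralizer (U : Set Γ)) → v ∈ I
  a1 : ∀ g ∈ T, g ∉ normalizer (U : Set Γ) →
    ∃ t ∈ T₀, t ∉ centralizer (U : Set Γ) ∧ t ∈ centralizer (cj g U : Set Γ)
  a2 : ∀ g ∈ T ⊓ normalizer (U : Set Γ), (∀ t ∈ T, ⁅t, g⁆ ∈ centralizer (U : Set Γ)) → g ∈ T₀
  a3 : ∀ n ∈ T₀, n ∉ centralizer (U : Set Γ) → ∀ y ∈ T, (∀ v ∈ U, y * ⁅v, n⁆ = ⁅v, n⁆ * y) →
    y ∈ T₀
  cT : ∀ s ∈ T, (∀ g ∈ T, s ∈ centralizer (cj g U : Set Γ)) → s ∈ E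
  m1 : ∀ X : Subgroup Γ, U ≤ X → X ≤ E → T ≤ normalizer (X : Set Γ) →
    S ⊓ normalizer (X : Set Γ) ≤ T

/-- The linear configuration inside the group `G`. -/
structure LocB (G S T T₀ E U I : Subgroup Γ) : Prop extends OrbB S T T₀ E U I where
  ns : ∀ D : Subgroup Γ, U ≤ D → D ≤ T ⊓ centralizer (U : Set Γ) →
    ¬ Group.IsSolvable ↥(G ⊓ normalizer (D : Set Γ))

/-- `Y` is strongly closed in `S` with respect to `G`. -/
def SC (G S Y : Subgroup Γ) : Prop := ∀ g ∈ G, ∀ y ∈ Y, g * y * g⁻¹ ∈ S → g * y * g⁻¹ ∈ Y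

end Defs

section Local

variable {P : Type u} [Group P]

/-- A minimal parabolic group of characteristic `2`. -/
structure Min (T M : Subgroup P) : Prop where
  syl : IsSylowIn 2 T ⊤
  chr : centralizer (pCore 2 P : Set P) ≤ pCore 2 P
  nn : ¬ T.Normal
  um : H85.UniqMax T M ⊤

/-- `Min` after pushing up. -/
structure Pushed (T M : Subgroup P) : Prop extends Min T M where
  push : ⁅pCore 2 P, resOf 2 (⊤ : Subgroup P)⁆ ≤ OZ 2 (pCore 2 P)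
  nz : centralizer (OZ 2 T : Set P) ≠ ⊤
  nJ : ¬ (thompsonSubgroupOf 2 T).Normal

/-- One factor `X` of the decomposition, `Y` being the product of the other factors. -/
structure Fac (T X Y : Subgroup P) : Prop where
  le : pCore 2 P ≤ X
  nrm : (X ⊔ Y).Normal
  gen : X ⊔ Y ⊔ T = ⊤
  comm : ⁅X, Y⁆ ≤ pCore 2 P
  inf : X ⊓ Y ≤ pCore 2 P
  dec : OZ 2 (pCore 2 P) ≤ OZ 2 (pCore 2 P) ⊓ centralizer (X : Set P) ⊔ ⁅OZ 2 (pCore 2 P), X⁆
  cy : ⁅OZ 2 (pCore 2 P), X⁆ ≤ centralizer (Y : Set P)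
  yle : Y ≤ orb T X

/-- The structure of `P` when the factors are linear over a field with `q > 2` elements. -/
structure HatB (T T₀ U I K : Subgroup P) : Prop where
  UV : U ≤ OZ 2 (pCore 2 P)
  IU : I ≤ U
  q2 : ∃ v ∈ U, ∃ w ∈ U, v ∉ I ∧ w ∉ I ∧ v * w ∉ I
  ge : T ⊓ centralizer (U : Set P) ≤ T₀
  le : T₀ ≤ T ⊓ normalizer (U : Set P)
  card : Nat.card T₀ * Nat.card I = Nat.card U * Nat.card ↥(T ⊓ centralizer (U : Set P))
  quad : ∀ t ∈ T₀, t ∉ centralizer (U : Set P) → ∀ v ∈ U,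
    ⁅v, t⁆ ∈ sq (T ⊓ centralizer (U : Set P)) → v ∈ I
  a1 : ∀ g ∈ T, g ∉ normalizer (U : Set P) →
    ∃ t ∈ T₀, t ∉ centralizer (U : Set P) ∧ t ∈ centralizer (cj g U : Set P)
  a2 : ∀ g ∈ T ⊓ normalizer (U : Set P), (∀ t ∈ T, ⁅t, g⁆ ∈ centralizer (U : Set P)) → g ∈ T₀
  a3 : ∀ n ∈ T₀, n ∉ centralizer (U : Set P) → ∀ y ∈ T, (∀ v ∈ U, y * ⁅v, n⁆ = ⁅v, n⁆ * y) →
    y ∈ T₀
  cT : ∀ s ∈ T, (∀ g ∈ T, s ∈ centralizer (cj g U : Set P)) → s ∈ pCore 2 P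
  nrm : ∀ X : Subgroup P, U ≤ X → X ≤ pCore 2 P → T ≤ normalizer (X : Set P) → X.Normal
  nc : ¬ resOf 2 (⊤ : Subgroup P) ≤ centralizer (U : Set P)
  kc : ⁅T ⊓ centralizer (U : Set P), K⁆ ≤ U
  ks : ¬ Group.IsSolvable K

end Local

/-! ### The module lemma -/

/-- The data of the core case: `P` is a faithful `p`-group on `R`. -/
structure Core {Γ : Type u} [Group Γ] (p : ℕ) (A R P N : Subgroup Γ) : Prop where
  pp : p.Prime
  p2 : p ≠ 2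
  ea : IsElementaryAbelian 2 R
  pP : IsPGroup p P
  pN : IsPGroup 2 N
  cop : (Nat.card A).Coprime (2 * p)
  AR : A ≤ normalizer (R : Set Γ)
  AP : A ≤ normalizer (P : Set Γ)
  AN : A ≤ normalizer (N : Set Γ)
  NR : N ≤ normalizer (R : Set Γ)
  NP : N ≤ normalizer (P : Set Γ)
  PR : P ≤ normalizer (R : Set Γ)
  faith : P ⊓ centralizer (R : Set Γ) = ⊥
  fxR : ∀ x ∈ P ⊓ centralizer (A : Set Γ), ∀ t ∈ R ⊓ centralizer (A : Set Γ), x * t = t * x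
  fxN : ∀ x ∈ P ⊓ centralizer (A : Set Γ), ∀ t ∈ N ⊓ centralizer (A : Set Γ), x * t = t * x

/-- Elementary abelian `P`. -/
def CoreAbStmt : Prop :=
  ∀ (Γ : Type u) [Group Γ] [Finite Γ] (p : ℕ) (A R P N : Subgroup Γ), Core p A R P N →
    IsElementaryAbelian p P → ∀ b ∈ N, Small R b → b ∈ centralizer (P : Set Γ)

/-- `P` of exponent `p` and class two, small elements centralize the centre. -/
def CoreSpStmt : Prop :=
  ∀ (Γ : Type u) [Group Γ] [Finite Γ] (p : ℕ) (A R P N : Subgroup Γ), Core p A R P N →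
    (∀ x ∈ P, x ^ p = 1) → ⁅P, P⁆ ≤ centralizer (P : Set Γ) →
    ∀ b ∈ N, Small R b → b ∈ centralizer ((P ⊓ centralizer (P : Set Γ) : Subgroup Γ) : Set Γ) →
      b ∈ centralizer (P : Set Γ)

def NSStmt : Prop :=
  ∀ (Γ : Type u) [Group Γ] [Finite Γ] (H A R : Subgroup Γ), Hyp H A → Group.IsSolvable H →
    R ≤ H → IsElementaryAbelian 2 R → H ≤ normalizer (R : Set Γ) → A ≤ normalizer (R : Set Γ) →
    ∀ b ∈ H, Small R b → Rad H R b

/-- `Hyp` passes to invariant subgroups and to quotients. -/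
def QuoStmt : Prop :=
  ∀ (Γ : Type u) [Group Γ] [Finite Γ] (G A N : Subgroup Γ), Hyp G A → N ≤ G →
    G ≤ normalizer (N : Set Γ) → A ≤ normalizer (N : Set Γ) → Hyp (H63.quo G N) (H63.quo A N)

/-! ### The subgroup `Y` -/

/-- No `2F`-offenders. -/
def N2Stmt : Prop :=
  ∀ (Γ : Type u) [Group Γ] [Finite Γ] (H V B : Subgroup Γ), Group.IsSolvable H →
    IsElementaryAbelian 2 V → H ≤ normalizer (V : Set Γ) → Red H V →
    (∀ b ∈ H, Small V b → b ∈ centralizer (V : Set Γ)) → B ≤ H → IsElementaryAbelian 2 B →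
    Nat.card V * Nat.card ↥(B ⊓ centralizer (V : Set Γ)) ≤
      2 * Nat.card B * Nat.card ↥(V ⊓ centralizer (B : Set Γ)) → B ≤ centralizer (V : Set Γ)

def YAStmt : Prop :=
  ∀ (Γ : Type u) [Group Γ] [Finite Γ] (G A S : Subgroup Γ), Env G A S → S ≠ ⊥ → ∃ Y, YA G A S Y

def DihStmt : Prop :=
  ∀ (Γ : Type u) [Group Γ] [Finite Γ] (G A S Y P O M J : Subgroup Γ), Env G A S → YA G A S Y →
    MP G A S Y P O M → ∀ 𝓑 : Set (Subgroup Γ), (∀ B ∈ 𝓑, IsElementaryAbelian 2 B) → sSup 𝓑 = J →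
    J ≤ S → S ≤ normalizer (J : Set Γ) → A ≤ normalizer (J : Set Γ) → ¬ J ≤ pCoreOf 2 P →
    ∃ B ∈ 𝓑, ∃ B₀ y, Dih P O M B B₀ y

def MPStmt : Prop :=
  ∀ (Γ : Type u) [Group Γ] [Finite Γ] (G A S Y P O M : Subgroup Γ), Env G A S → YA G A S Y →
    MP G A S Y P O M → False

def YStmt : Prop :=
  ∀ (Γ : Type u) [Group Γ] [Finite Γ] (G A S : Subgroup Γ), Env G A S → S ≠ ⊥ → ∃ Y, YD G A S Y

/-! ### The local analysis -/

def InvStmt : Prop :=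
  ∀ (P : Type u) [Group P] [Finite P] (T M : Subgroup P), Min T M →
    ∀ A : Subgroup (MulAut T), Odd (Nat.card A) → ∃ U : Subgroup P, U ≠ ⊥ ∧ U.Normal ∧ U ≤ T ∧
      ∀ a ∈ A, ∀ x : T, (x : P) ∈ U → ((a x : T) : P) ∈ U

def PushStmt : Prop :=
  ∀ (P : Type u) [Group P] [Finite P] (T M D : Subgroup P), Min T M → D.Normal → D ≤ T →
    resOf 2 (⊤ : Subgroup P) ≤ centralizer (D : Set P) →
    (∀ C : Subgroup P, C.Normal → C ≤ T →
      (∀ φ : MulAut T, (∀ d : T, (d : P) ∈ D ↔ (φ d : P) ∈ D) → ∀ c : T, (c : P) ∈ C → (φ c : P) ∈ C) →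
      C ≤ D) →
    ¬ resOf 2 (⊤ : Subgroup P) ≤ centralizer (OZ 2 (pCore 2 P) : Set P) →
    ⁅pCore 2 P, resOf 2 (⊤ : Subgroup P)⁆ ≤ OZ 2 (pCore 2 P)

def SixStmt : Prop :=
  ∀ (P : Type u) [Group P] [Finite P] (T M X Y : Subgroup P), Pushed T M → Fac T X Y →
    Nat.card X = 6 * Nat.card (pCore 2 P) →
    Nat.card ↥⁅OZ 2 (pCore 2 P), X⁆ =
      4 * Nat.card ↥(⁅OZ 2 (pCore 2 P), X⁆ ⊓ centralizer (X : Set P)) →
    ∃ U u x t, HatA T U u x t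

def SymStmt : Prop :=
  ∀ (P : Type u) [Group P] [Finite P] (T M X Y : Subgroup P) (n : ℕ), Pushed T M → Fac T X Y →
    Odd n → 5 ≤ n → ActsAsOddPermModuleOnSection n ⊤ X ⁅OZ 2 (pCore 2 P), X⁆
      (⁅OZ 2 (pCore 2 P), X⁆ ⊓ centralizer (X : Set P)) → ∃ U u x t, HatA T U u x t

def LinStmt : Prop :=
  ∀ (P : Type u) [Group P] [Finite P] (T M X Y : Subgroup P) (F : Type) [Field F] [Fintype F]
    (n : ℕ), Pushed T M → Fac T X Y → Fintype.card F = 2 ^ n → 2 ≤ n →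
    ActsAsSL2OnSection F ⊤ X ⁅OZ 2 (pCore 2 P), X⁆
      (⁅OZ 2 (pCore 2 P), X⁆ ⊓ centralizer (X : Set P)) →
    ∃ T₀ U I K, HatB T T₀ U I K

def HatStmt : Prop :=
  ∀ (P : Type u) [Group P] [Finite P] (T M : Subgroup P), Pushed T M →
    (∃ U u x t, HatA T U u x t) ∨ ∃ T₀ U I K, HatB T T₀ U I K

def PBStmt : Prop :=
  ∀ (Γ : Type u) [Group Γ] [Finite Γ] (S T T₀ E U I L : Subgroup Γ), OrbB S T T₀ E U I → S ≤ L →
    L ≤ normalizer (S : Set Γ) →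
    (∀ g ∈ L, cj g U ≤ T₀) ∧ ∀ a ∈ L, Odd (orderOf a) → cj a U ≤ centralizer (U : Set Γ)

def PAStmt : Prop :=
  ∀ (Γ : Type u) [Group Γ] [Finite Γ] (S L U : Subgroup Γ) (u : Γ), OrbA S L U u →
    (∀ a ∈ L, Odd (orderOf a) → cj a U ≤ centralizer (U : Set Γ)) ∧
      ∃ t ∈ S, t * t = 1 ∧ t ∈ normalizer (U : Set Γ) ∧ t ∉ centralizer (U : Set Γ) ∧
        ∀ a ∈ L, Odd (orderOf a) → cj a U = U ∨ t ∈ centralizer (cj a U : Set Γ)

def FinAStmt : Prop :=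
  ∀ (Γ : Type u) [Group Γ] [Finite Γ] (G A S E U : Subgroup Γ) (u x t : Γ), EnvF G A S →
    LocA G S E U u x t → False

def FinBStmt : Prop :=
  ∀ (Γ : Type u) [Group Γ] [Finite Γ] (G A S T T₀ E U I : Subgroup Γ), EnvF G A S →
    LocB G S T T₀ E U I → False

def LocStmt : Prop :=
  ∀ (Γ : Type u) [Group Γ] [Finite Γ] (G A S Y : Subgroup Γ), Odd (Nat.card A) →
    A ≤ normalizer (G : Set Γ) → IsSylowIn 2 S G → A ≤ normalizer (S : Set Γ) → YD G A S Y →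
    SC G S Y ∨ (∃ E U u x t, LocA G S E U u x t) ∨ ∃ T T₀ E U I, LocB G S T T₀ E U I

def EndStmt : Prop :=
  ∀ (Γ : Type u) [Group Γ] [Finite Γ] (G A S Y : Subgroup Γ), Hyp G A → IsSimpleGroup G →
    IsSylowIn 2 S G → A ≤ normalizer (S : Set Γ) → Y ≤ S → Y ≠ ⊥ → IsElementaryAbelian 2 Y →
    SC G S Y → Group.IsSolvable G

def MainStmt : Prop :=
  ∀ (Γ : Type u) [Group Γ] [Finite Γ] (G A : Subgroup Γ), Hyp G A → Group.IsSolvable G

end Cfsg.Agent.H85.FP
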