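import Cfsg.Agent.H2.FXDefs
import Cfsg.Agent.S1163
import Cfsg.Agent.S2238
import Cfsg.Agent.H39.SzOvoid

/-! The order, the Sylow 2-number and the partition of `Sz(8)`. -/

set_option autoImplicit false

namespace Cfsg.Agent.H85.FXSz

open Cfsg.Agent.H2FX

universe u

theorem iff_card {Γ : Type u} [Group Γ] (hc : Nat.card Γ = 29120) (U : Subgroup Γ) :
    ((∃ P : Sylow 2 Γ, U = (P : Subgroup Γ)) ∨
      (IsCyclic U ∧ Nat.card U ∈ ({7, 13, 5} : Set ℕ))) ↔ Nat.card U ∈ ({64, 5, 7, 13} : Set ℕ) := by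
  have : Finite Γ := Nat.finite_of_card_ne_zero (by rw [hc]; decide)
  have : Fact (Nat.Prime 2) := ⟨Nat.prime_two⟩
  have hf : (Nat.card Γ).factorization 2 = 6 := by
    rw [hc, show 29120 = 2 ^ 6 * 455 by norm_num, Nat.factorization_mul (by decide) (by decide),
      Nat.Prime.factorization_pow Nat.prime_two, Finsupp.add_apply, Finsupp.single_eq_same,
      Nat.factorization_eq_zero_of_not_dvd (by decide)]
  simp only [Set.mem_insert_iff, Set.mem_singleton_iff]
  constructor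
  · rintro (⟨P, rfl⟩ | ⟨-, h⟩)
    · left; rw [P.card_eq_multiplicity, hf]; rfl
    · omega
  · rintro (h | h | h | h)
    · exact .inl ⟨Sylow.ofCard U (by rw [hf, h]; rfl), rfl⟩
    · have : Fact (Nat.Prime 5) := ⟨by norm_num⟩
      exact .inr ⟨isCyclic_of_prime_card h, by omega⟩
    · have : Fact (Nat.Prime 7) := ⟨by norm_num⟩
      exact .inr ⟨isCyclic_of_prime_card h, by omega⟩
    · have : Fact (Nat.Prime 13) := ⟨by norm_num⟩
      exact .inr ⟨isCyclic_of_prime_card h, by omega⟩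

theorem szCfg : SzCfgStmt.{u} := by
  intro F _ _ hF
  have hF' : Fintype.card F = 2 ^ (2 * 1 + 1) := hF
  obtain ⟨hc, S, -, hi, -⟩ := S1163.result (m := 1) le_rfl hF'
  have hc' : Nat.card (Cfsg.Lie.Sz F 4) = 29120 := hc
  have : Finite (Cfsg.Lie.Sz F 4) := Nat.finite_of_card_ne_zero (by rw [hc']; decide)
  have : Fact (Nat.Prime 2) := ⟨Nat.prime_two⟩
  refine ⟨hc', ?_, fun g hg => ?_⟩
  · exact (Sylow.card_eq_index_normalizer (G := Cfsg.Lie.Sz F 4) S).trans hi
  · let e : Cfsg.Sz F 1 ≃* Cfsg.Lie.Sz F 4 := H39.szEquivLieSz (m := 1) le_rfl hF'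
    have hc1 : Nat.card (Cfsg.Sz F 1) = 29120 := (Nat.card_congr e.toEquiv).trans hc'
    obtain ⟨U, ⟨h1, h2⟩, hu⟩ := S2238.result (m := 1) le_rfl hF' (e.symm g)
      ((map_ne_one_iff _ e.symm.injective).2 hg)
    have h3 := (iff_card hc1 U).1 h1
    refine ⟨U.map e.toMonoidHom, ⟨?_, ⟨_, h2, by simp⟩⟩, fun W ⟨w1, w2⟩ => ?_⟩
    · rwa [Subgroup.card_map_of_injective (f := e.toMonoidHom) e.injective]
    · have := hu (W.map e.symm.toMonoidHom) ⟨(iff_card hc1 _).2
        (by rwa [Subgroup.card_map_of_injective (f := e.symm.toMonoidHom) e.symm.injective]), ⟨g, w2, rfl⟩⟩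
      rw [← this, Subgroup.map_map]
      ext x
      simp

end Cfsg.Agent.H85.FXSz
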