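import Cfsg.Agent.H85.UStc4

/-!
# Unitary standard subgroups over the field of two elements: U-STC
-/

set_option autoImplicit false
set_option linter.unusedSectionVars false

namespace Cfsg.Agent.H85.UStc

open Cfsg Cfsg.Agent.H63 Cfsg.Agent.H63.SL Cfsg.Agent.H34 Cfsg.Agent.H34.TW Cfsg.Agent.H34.UM
  Cfsg.Agent.H31 Subgroup Module
open Cfsg.Agent.H27.End (mem_C comm_of_C conj_mem is2_of_sq mem_C1)

universe u v

variable {F E V : Type v} [Field F] [Field E] [AddCommGroup V] [Module E V] {i : F →+* E}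
  {σ : E ≃+* E} {B : V →ₛₗ[(σ : E →+* E)] V →ₗ[E] E} {G : Type u} [Group G] {φ : sisom B →* G}
  {L : Subgroup G} {v v' x y u u' : V}

variable (i φ) in
/-- The transvections with centre on the line through `x` and `v`. -/
noncomputable def τ (x v : V) (a d : E) : G := TT i φ (a • x + d • v) 1

variable (B) in
/-- A third hyperbolic pair. -/
structure Fr3 (v x u u' : V) : Prop where
  uu : B u u = 0
  uu' : B u' u' = 0
  h : B u u' = 1
  o1 : B v u = 0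
  o2 : B v u' = 0
  o3 : B x u = 0
  o4 : B x u' = 0

variable [FiniteDimensional E V] [Finite E] (c : UCtx i φ L)
include c

theorem exists_fr3 (h6 : 6 ≤ finrank E V) (fr : Fr2 B v v' x y) : ∃ u u', Fr3 B v x u u' := by
  obtain ⟨h1, h2⟩ := c.perp_pair fr.ee fr.ef
  have g := c.herm.toIsHermSymm.gram_hyperbolic fr.ee' fr.ef'
  have h3 := c.herm.toIsHermSymm.nondegOn_span_pair g
  have h4 : Submodule.span E {x, y} ≤ perp B (Submodule.span E {v, v'}) :=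
    span_pair_le (UCtx.mem_perp_pair.2 ⟨fr.o1, fr.o3⟩) (UCtx.mem_perp_pair.2 ⟨fr.o2, fr.o4⟩)
  have h5 := c.herm.nondegOn_inf_perp h3 h1 h4
  have h7 := c.herm.finrank_inf_perp h3 h4
  rw [finrank_span_pair_of_gram g] at h7
  obtain ⟨u, k1, k2, k3⟩ := c.herm.exists_isotropic h5 (by omega)
  obtain ⟨u', k4, k5, k6⟩ := c.herm.toIsHermSymm.exists_hyperbolic_of_nondegOn h5 k3 k2 k1
  exact ⟨u, u', k3, k5, k6, (UCtx.mem_perp_pair.1 k1.1).1, (UCtx.mem_perp_pair.1 k4.1).1,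
    (UCtx.mem_perp_pair.1 k1.2).1, (UCtx.mem_perp_pair.1 k4.2).1⟩

theorem exists_an (f3 : Fr3 B v x u u') : ∃ d, B d d = 1 ∧ B v d = 0 ∧ B x d = 0 := by
  obtain ⟨ω, hω⟩ := c.qf.tr
  refine ⟨u + ω • u', ?_, by simp [f3.o1, f3.o2], by simp [f3.o3, f3.o4]⟩
  simp only [map_add, LinearMap.add_apply, sm_left, sm_right, f3.uu, f3.uu', f3.h, c.flip1 f3.h, hω]
  linear_combination ω * c.qf.two

theorem li2 {p q r : V} (hp : p ≠ 0) (h1 : B r p = 0) (h2 : B r q = 1) :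
    LinearIndependent E ![p, q] := LinearIndependent.pair_iff.2 fun s t h => by
  have k := congrArg (fun z => B r z) h
  simp only [map_add, sm_right, h1, h2, mul_zero, mul_one, zero_add, map_zero] at k
  rw [k, zero_smul, add_zero] at h
  exact ⟨(smul_eq_zero.1 h).resolve_right hp, k⟩

theorem conj_t {g t r : G} (ht : t ∈ C[L]) (e : g * t * g⁻¹ = t * r) (s : sisom B) :
    φ s * g * (φ s)⁻¹ * t * (φ s * g * (φ s)⁻¹)⁻¹ = t * (φ s * r * (φ s)⁻¹) := by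
  have k := (comm_of_C ht (c.mem s)).eq
  have k' : (φ s)⁻¹ * t * φ s = t := by rw [mul_assoc, k, inv_mul_cancel_left]
  calc _ = φ s * (g * ((φ s)⁻¹ * t * φ s) * g⁻¹) * (φ s)⁻¹ := by group
    _ = (φ s * t) * r * (φ s)⁻¹ := by rw [k', e]; group
    _ = _ := by rw [← k]; group

variable (fr : Fr2 B v v' x y)
include fr

theorem pt : Pt B v := ⟨fr.ee, fun h => by simpa [h] using fr.ef⟩

theorem iso_l (a d : E) : B (a • x + d • v) (a • x + d • v) = 0 := by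
  simp [fr.ee, fr.ee', fr.o1, c.flip fr.o1]

theorem τ_conj {s : sisom B} {a b a' b' : E} (h1 : s.1 v = a • x + b • v)
    (h2 : s.1 x = a' • x + b' • v) (p q : E) :
    φ s * τ i φ x v p q * (φ s)⁻¹ = τ i φ x v (p * a' + q * a) (p * b' + q * b) := by
  rw [τ, τ, c.TT_conj s (iso_l c fr p q), map_add, map_smul, map_smul, h1, h2]
  congr 1
  module

theorem exists_mv (f3 : Fr3 B v x u u') {a b a' b' : E} (h : a * b' - b * a' ≠ 0) :
    ∃ s : sisom B, s.1 v = a • x + b • v ∧ s.1 x = a' • x + b' • v := by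
  obtain ⟨d, h1, h2, h3⟩ := exists_an c f3
  have l1 := li2 c (pt c fr).2 (c.flip fr.o2) (c.flip1 fr.ef')
  obtain ⟨s, hs⟩ := c.wit (u := ![v, x]) (w := ![a • x + b • v, a' • x + b' • v]) l1
    (LinearIndependent.pair_iff.2 fun s t e => by
      obtain ⟨k1, k2⟩ := LinearIndependent.pair_iff.1 l1 (s * b + t * b') (s * a + t * a')
        (by rw [← e]; module)
      exact ⟨(mul_eq_zero.1 (by linear_combination b' * k2 - a' * k1)).resolve_right h,
        (mul_eq_zero.1 (by linear_combination a * k1 - b * k2)).resolve_right h⟩)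
    (by simp [Fin.forall_fin_two, fr.ee, fr.ee', fr.o1, c.flip fr.o1]) (d := d)
    (by rw [h1]; exact one_ne_zero) (by simp [Fin.forall_fin_two, c.flip h2, c.flip h3])
  exact ⟨s, hs 0, hs 1⟩

theorem move (f3 : Fr3 B v x u u') {t p : G} (ht : t ∈ C[L])
    (h1 : ∀ a d, p * τ i φ x v a d * p⁻¹ = τ i φ x v a d)
    (h2 : p * t * p⁻¹ = t * (τ i φ x v 0 1 * τ i φ x v 1 0)) {a b a' b' : E}
    (h : a * b' - b * a' ≠ 0) : ∃ p' : G, (∀ a d, p' * τ i φ x v a d * p'⁻¹ = τ i φ x v a d) ∧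
      p' * t * p'⁻¹ = t * (τ i φ x v a b * τ i φ x v a' b') := by
  obtain ⟨s, k1, k2⟩ := exists_mv c fr f3 h
  refine ⟨φ s * p * (φ s)⁻¹, fun q r => ?_, ?_⟩
  · have e := τ_conj c fr k1 k2 ((a * r - b * q) / (a * b' - b * a'))
      ((b' * q - a' * r) / (a * b' - b * a'))
    rw [show (a * r - b * q) / (a * b' - b * a') * a' + (b' * q - a' * r) / (a * b' - b * a') * a = q by
        field_simp; ring,
      show (a * r - b * q) / (a * b' - b * a') * b' + (b' * q - a' * r) / (a * b' - b * a') * b = r by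
        field_simp; ring] at e
    rw [← e]
    conv_rhs => rw [← h1]
    group
  · have e1 := τ_conj c fr k1 k2 0 1
    have e2 := τ_conj c fr k1 k2 1 0
    simp only [zero_mul, one_mul, zero_add, add_zero] at e1 e2
    rw [conj_t c ht h2, ← e1, ← e2]
    group

theorem τ_four {ω : E} (hω : σ ω = ω + 1) :
    τ i φ x v 1 ω * τ i φ x v 1 (ω + 1) * (τ i φ x v 1 0 * τ i φ x v 1 1) = τ i φ x v 0 1 := by
  obtain ⟨s1, h1, e1⟩ := c.tt (iso_l c fr 1 ω) 1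
  obtain ⟨s2, h2, e2⟩ := c.tt (iso_l c fr 1 (ω + 1)) 1
  obtain ⟨s3, h3, e3⟩ := c.tt (iso_l c fr 1 0) 1
  obtain ⟨s4, h4, e4⟩ := c.tt (iso_l c fr 1 1) 1
  obtain ⟨s5, h5, e5⟩ := c.tt (iso_l c fr 0 1) 1
  simp only [τ]
  rw [← e1, ← e2, ← e3, ← e4, ← e5, ← map_mul, ← map_mul, ← map_mul]
  refine congrArg φ (s_ext fun w => ?_)
  simp only [mul_app, h1, h2, h3, h4, h5, map_add, LinearMap.add_apply, sm_left, sm_right, fr.ee,
    fr.ee', fr.o1, c.flip fr.o1, hω, map_one, map_zero, mul_zero, add_zero]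
  match_scalars
  · rfl
  · linear_combination (2 * B x w + B v w * (ω + 2)) * c.qf.two
  · linear_combination (B x w * (ω + 1) + B v w * (ω * ω + 2 * ω + 1)) * c.qf.two

theorem act_τ (f3 : Fr3 B v x u u') (ka : KitA i φ L) (kb : KitB i φ L) {n : G}
    (hn : n ∈ N[YZ L (ZV i φ v)]) {θ : E →+* E} {f : V → V} (a : Act0 φ v n θ f) (p q : E) :
    n * τ i φ x v p q * n⁻¹ = TT i φ (θ p • f x + θ q • v) 1 := by
  rw [τ, act_tt c (pt c fr) ka kb hn a (iso_l c fr p q) (by simp [fr.o1, fr.ee]) f3.uu f3.uu' f3.h f3.o1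
    f3.o2 (by simp [f3.o1, f3.o3]) (by simp [f3.o2, f3.o4]),
    a.add _ _ (by simp [fr.o1]) (by simp [fr.ee]), a.smul _ _ fr.o1, a.smul _ _ fr.ee, a.fv]

/-- The semilinear case gives an element centralizing the transvections on a line. -/
theorem semi (f3 : Fr3 B v x u u') (ka : KitA i φ L) (kb : KitB i φ L) {n t : G}
    (hn : n ∈ N[YZ L (ZV i φ v)]) {θ : E →+* E} {f : V → V} (a : Act0 φ v n θ f)
    (hθ : ∀ e, θ e = σ e) (ht : t ∈ C[L]) (e : n * t * n⁻¹ = t * TT i φ v 1) :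
    ∃ p : G, (∀ a d, p * τ i φ x v a d * p⁻¹ = τ i φ x v a d) ∧ p * t * p⁻¹ = t * TT i φ v 1 := by
  have hv := pt c fr
  have z : τ i φ x v 0 1 = TT i φ v 1 := by simp [τ]
  obtain ⟨d, h1, h2, h3⟩ := exists_an c f3
  have k1 : B (f x) (f x) = 0 := by rw [a.form _ _ fr.o1 fr.o1, fr.ee', map_zero]
  obtain ⟨s, hs⟩ := c.wit (u := ![v, f x]) (w := ![v, x])
    (li2 c hv.2 (c.flip (a.perp y fr.o2)) (by rw [a.form _ _ fr.o2 fr.o1, c.flip1 fr.ef', map_one]))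
    (li2 c hv.2 (c.flip fr.o2) (c.flip1 fr.ef'))
    (by simp [Fin.forall_fin_two, fr.ee', fr.o1, c.flip fr.o1, k1, a.perp x fr.o1,
      c.flip (a.perp x fr.o1)]) (d := f d) (by rw [a.form _ _ h2 h2, h1, map_one]; exact one_ne_zero)
    (by simp [Fin.forall_fin_two, c.flip (a.perp d h2), a.form _ _ h2 fr.o1, c.flip h3])
  have s1 : s.1 v = v := hs 0
  have s2 : s.1 (f x) = x := hs 1
  obtain ⟨ρ, hρ⟩ : ∃ ρ, ρ = φ s * n := ⟨_, rfl⟩
  have r1 : ∀ p q, ρ * τ i φ x v p q * ρ⁻¹ = τ i φ x v (σ p) (σ q) := fun p q => by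
    have e1 := act_τ c fr f3 ka kb hn a p q
    have e2 := c.TT_conj s (v := θ p • f x + θ q • v)
      (by simp [k1, fr.ee, a.perp x fr.o1, c.flip (a.perp x fr.o1)]) 1
    rw [map_add, map_smul, map_smul, s1, s2, ← e1, hθ, hθ] at e2
    rw [hρ, τ, τ, ← e2, τ]
    group
  have r2 : ρ * t * ρ⁻¹ = t * τ i φ x v 0 1 := by
    have e2 := c.TT_conj s hv.1 1
    rw [s1] at e2
    have k := (comm_of_C ht (c.mem s)).eq
    calc _ = φ s * (n * t * n⁻¹) * (φ s)⁻¹ := by rw [hρ]; group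
      _ = (φ s * t) * (φ s)⁻¹ * (φ s * TT i φ v 1 * (φ s)⁻¹) := by rw [e]; group
      _ = _ := by rw [← k, e2, z]; group
  obtain ⟨s0, m1, m2⟩ := exists_mv c fr f3 (a := 1) (b := 0) (a' := 0) (b' := 1) (by simp)
  have sw : ∀ p q, φ s0 * τ i φ x v p q * (φ s0)⁻¹ = τ i φ x v q p := fun p q => by
    simpa using τ_conj c fr m1 m2 p q
  have p1 : ∀ p q, ρ * (φ s0 * ρ * (φ s0)⁻¹) * τ i φ x v p q * (ρ * (φ s0 * ρ * (φ s0)⁻¹))⁻¹ =
      τ i φ x v p q := fun p q => by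
    calc _ = ρ * (φ s0 * (ρ * τ i φ x v q p * ρ⁻¹) * (φ s0)⁻¹) * ρ⁻¹ := by rw [← sw q p]; group
      _ = _ := by rw [r1, sw, r1, c.qf.sq, c.qf.sq]
  have p2 : ρ * (φ s0 * ρ * (φ s0)⁻¹) * t * (ρ * (φ s0 * ρ * (φ s0)⁻¹))⁻¹ =
      t * (τ i φ x v 0 1 * τ i φ x v 1 0) := by
    have e1 := conj_t c ht r2 s0
    rw [sw] at e1
    have e2 := r1 1 0
    rw [map_one, map_zero] at e2
    calc _ = ρ * (φ s0 * ρ * (φ s0)⁻¹ * t * (φ s0 * ρ * (φ s0)⁻¹)⁻¹) * ρ⁻¹ := by group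
      _ = (ρ * t * ρ⁻¹) * (ρ * τ i φ x v 1 0 * ρ⁻¹) := by rw [e1]; group
      _ = _ := by rw [r2, e2, mul_assoc]
  obtain ⟨ω, hω⟩ := c.qf.tr
  obtain ⟨g1, a1, a2⟩ := move c fr f3 ht p1 p2 (a := 1) (b := ω) (a' := 1) (b' := ω + 1) (by simp)
  obtain ⟨g2, b1, b2⟩ := move c fr f3 ht p1 p2 (a := 1) (b := 0) (a' := 1) (b' := 1) (by simp)
  refine ⟨g1 * g2, fun p q => ?_, ?_⟩
  · calc _ = g1 * (g2 * τ i φ x v p q * g2⁻¹) * g1⁻¹ := by group
      _ = _ := by rw [b1, a1]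
  · calc _ = g1 * (g2 * t * g2⁻¹) * g1⁻¹ := by group
      _ = (g1 * t * g1⁻¹) * ((g1 * τ i φ x v 1 0 * g1⁻¹) * (g1 * τ i φ x v 1 1 * g1⁻¹)) := by
        rw [b2]; group
      _ = _ := by rw [a2, a1, a1, mul_assoc, τ_four c fr hω, z]

/-- An element centralizing the transvections on a line acts linearly. -/
theorem not_semi (f3 : Fr3 B v x u u') (ka : KitA i φ L) (kb : KitB i φ L) {n : G}
    (hn : n ∈ N[YZ L (ZV i φ v)]) {θ : E →+* E} {f : V → V} (a : Act0 φ v n θ f)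
    (hθ : ∀ e, θ e = σ e) (h : ∀ a d, n * τ i φ x v a d * n⁻¹ = τ i φ x v a d) : False := by
  have hv := pt c fr
  have k1 : B (f x) (f x) = 0 := by rw [a.form _ _ fr.o1 fr.o1, fr.ee', map_zero]
  have k : ∀ d, d = B (f x) y * (B v' (f x) + σ d) := fun d => by
    have e := (h 1 d).symm.trans (act_τ c fr f3 ka kb hn a 1 d)
    obtain ⟨s, hs, e1⟩ := c.tt (iso_l c fr 1 d) 1
    obtain ⟨s', hs', e2⟩ := c.tt (v := θ 1 • f x + θ d • v)
      (by simp [k1, fr.ee, a.perp x fr.o1, c.flip (a.perp x fr.o1)]) 1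
    have e3 : s = s' := fix_inj c hv (by simp [hs, fr.ee, c.flip fr.o1])
      (by simp [hs', fr.ee, c.flip (a.perp x fr.o1)]) (by rw [e1, e2, ← e, τ])
    have e4 := congrArg (fun z => B v' z) ((hs y).symm.trans (e3 ▸ hs' y))
    simpa [fr.ef', fr.o2, fr.o3, fr.o4, c.flip1 fr.ef, hθ, mul_add] using e4
  obtain ⟨ω, hω⟩ := c.qf.tr
  have k0 := k 0
  have k2 := k 1
  have k3 := k ω
  rw [map_zero] at k0
  rw [map_one] at k2
  rw [hω] at k3
  exact one_ne_zero (α := E) (by linear_combination -k3 + (ω + 1) * k2 - ω * k0)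

omit c fr in
/-- **U-STC** -/
theorem stc : UM.StcStmt.{u, v} := by
  intro F E V _ _ _ _ _ _ _ _ i σ B G _ _ φ L c ka kb h2 v hv t tc st ⟨g, hg, e⟩
  have z1 : TT i φ v 1 ≠ 1 := fun h => one_ne_zero (c.TT_eq_one hv h)
  have hz : ∀ n ∈ N[YZ L (ZV i φ v)], Commute n (TT i φ v 1) := fun n hn => by
    obtain ⟨a, ha⟩ := (c.mem_ZV hv.1).1 (conj_mem (st.s4 hn).2 (TT_mem_ZV v 1))
    rcases f2 h2 a with rfl | rfl
    · rw [UCtx.TT_zero] at ha
      exact absurd (by simpa using ha) z1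
    · exact mul_inv_eq_iff_eq_mul.1 ha
  obtain ⟨v', h3, h4⟩ := c.hyp hv
  obtain ⟨x, y, fr⟩ := c.exists_fr2 hv.1 h3 h4
  obtain ⟨u, u', f3⟩ := exists_fr3 c (by rcases c.dim with h | h <;> omega) fr
  obtain ⟨θ, f, a⟩ := exists_act c hv h2 (hz g hg) kb hg (st.s4 hg).1
  rcases a.th with hθ | hθ
  · exact lin c hv h2 a hθ tc.tc (hz g hg) e
  obtain ⟨p, p1, p2⟩ := semi c fr f3 ka kb hg a hθ tc.tc e
  have hp := st.s3 _ (TT_mem_ZV v 1) z1 p (mem_C1.2 (mul_inv_eq_iff_eq_mul.1 (by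
    simpa [τ] using p1 0 1))) p2
  obtain ⟨θ', f', a'⟩ := exists_act c hv h2 (hz p hp) kb hp (st.s4 hp).1
  rcases a'.th with hθ' | hθ'
  · exact lin c hv h2 a' hθ' tc.tc (hz p hp) p2
  · exact (not_semi c fr f3 ka kb hp a' hθ' p1).elim

end Cfsg.Agent.H85.UStc
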