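import Cfsg.Agent.H85.L3K1

/-! The model of `L₃(q)`, `q` even: the structure of the normalizer. -/

set_option autoImplicit false
set_option linter.unusedSectionVars false

namespace Cfsg.Agent.H85.L3K

open Cfsg Cfsg.Agent.H63 Cfsg.Agent.H63.SL Cfsg.Agent.H35.L3 Subgroup
open Cfsg.Agent.H8 (IsSylowIn)
open scoped commutatorElement

universe u v

section Gen

variable {G : Type u} [Group G] [Finite G]

theorem pow_mem_of {M : Subgroup G} {f g : G} (hf : f ∈ N[M]) (hg : g * f⁻¹ ∈ M) (n : ℕ) :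
    g ^ n * (f ^ n)⁻¹ ∈ M := by
  induction n with
  | zero => simpa using one_mem M
  | succ n ih =>
    rw [show g ^ (n + 1) * (f ^ (n + 1))⁻¹ = g * f⁻¹ * (f * (g ^ n * (f ^ n)⁻¹) * f⁻¹) by group]
    exact mul_mem hg ((mem_normalizer_iff.1 hf _).1 ih)

theorem mem_of_odd_pow {M : Subgroup G} {g : G} (h2 : Is2 g) {n : ℕ} (hn : Odd n)
    (h : g ^ n ∈ M) : g ∈ M := by
  obtain ⟨k, hk⟩ := h2
  refine zpowers_le.2 h (mem_zpowers_pow_iff.2 ?_)
  exact Nat.Coprime.coprime_dvd_right (orderOf_dvd_of_pow_eq_one hk)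
    (Nat.Coprime.pow_right k (Nat.coprime_two_right.2 hn))

theorem mem_of_frame {M : Subgroup G} {f g : G} (hf : f ∈ N[M]) (hg : g * f⁻¹ ∈ M) (h2 : Is2 g)
    {n : ℕ} (hn : Odd n) (h : f ^ n ∈ M) : g ∈ M :=
  mem_of_odd_pow h2 hn ((mul_mem_cancel_right (inv_mem h)).1 (pow_mem_of hf hg n))

theorem eq_one_of_odd {g : G} (h2 : Is2 g) (h : Odd (orderOf g)) : g = 1 :=
  mem_bot.1 (mem_of_odd_pow h2 h (mem_bot.2 (pow_orderOf_eq_one g)))

theorem dec_cent {H K : Subgroup G} (h : H ≤ K) {g : G} (hg : g ∈ H ⊔ C[K]) :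
    ∃ a ∈ H, ∃ k ∈ C[K], g = a * k := by
  obtain ⟨a, ha, k, hk, e⟩ := (mem_sup_of_le_normalizer
    ((centralizer_le h).trans (centralizer_le_normalizer _))).1 hg
  exact ⟨a, ha, k, hk, e.symm⟩

end Gen

variable {F : Type v} [Field F] [Finite F] {G : Type u} [Group G] [Finite G] {L : Subgroup G}
  {x : Fin 3 → Fin 3 → F → G}

/-- Coordinates on the unitriangular group. -/
def ww (x : Fin 3 → Fin 3 → F → G) (r s e : F) : G := x 0 1 r * x 1 2 s * x 0 2 e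

section Coord

variable (P : Pin3 x) (S : St3 x)

include P in
theorem mem_U {g : G} : g ∈ U3 x ↔ ∃ r s e, g = ww x r s e :=
  P.memY 0 1 2 (by decide) (by decide) (by decide) g

include P in
theorem ww_inj {r s e r' s' e' : F} (h : ww x r s e = ww x r' s' e') : r = r' ∧ s = s' ∧ e = e' :=
  P.uniq 0 1 2 (by decide) (by decide) (by decide) _ _ _ _ _ _ h

include P in
theorem ww_mul (r s e r' s' e' : F) :
    ww x r s e * ww x r' s' e' = ww x (r + r') (s + s') (e + e' + r' * s) :=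
  P.mul 0 1 2 (by decide) (by decide) (by decide) _ _ _ _ _ _

include S

theorem ww_a (r : F) : x 0 1 r = ww x r 0 0 := by
  rw [ww, x_zero S (by decide), x_zero S (by decide), mul_one, mul_one]

theorem ww_b (s : F) : x 1 2 s = ww x 0 s 0 := by
  rw [ww, x_zero S (by decide), x_zero S (by decide), mul_one, one_mul]

theorem ww_c (e : F) : x 0 2 e = ww x 0 0 e := by
  rw [ww, x_zero S (by decide), x_zero S (by decide), mul_one, one_mul]

theorem ww_zero : ww x 0 0 0 = 1 := by rw [← ww_c S, x_zero S (by decide)]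

include P

theorem ww_conj (r s e r' s' e' : F) :
    ww x r s e * ww x r' s' e' * (ww x r s e)⁻¹ = ww x r' s' (e' + r' * s + r * s') := by
  rw [mul_inv_eq_iff_eq_mul, ww_mul P, ww_mul P]
  congr 1
  · ring
  · ring
  · linear_combination (-(r * s')) * S.two

theorem fu {f : G} {ε : Bool} {φ : F ≃+* F} (hf : Fr3 x f ε φ)
    (ha : ∀ r, ∃ e, f * x 0 1 r * f⁻¹ = ww x r 0 e)
    (hb : (∃ e, f * x 1 2 1 * f⁻¹ = ww x 0 1 e) ∨ f * x 0 2 1 * f⁻¹ = x 0 2 1) :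
    f ∈ C[All x] ∧ ε = false ∧ φ = 1 := by
  obtain ⟨d, hd⟩ := hf
  cases ε
  · have h1 : ∀ r, (d 0 : F) * ((d 1)⁻¹ : Fˣ) * φ r = r := fun r => by
      obtain ⟨e, he⟩ := ha r
      rw [hd 0 1 (by decide), fl_false, ww_a S] at he
      exact (ww_inj P he).1
    have h2 := h1 1
    rw [map_one, mul_one] at h2
    have h3 : φ = 1 := RingEquiv.ext fun r => by have := h1 r; rwa [h2, one_mul] at this
    subst h3
    have d1 : d 0 = d 1 := mul_inv_eq_one.1 (Units.ext h2)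
    have d2 : d 1 = d 2 := by
      refine mul_inv_eq_one.1 (Units.ext ?_)
      rcases hb with ⟨e, he⟩ | he
      · rw [hd 1 2 (by decide), fl_false, ww_b S] at he
        simpa using (ww_inj P he).2.1
      · rw [hd 0 2 (by decide), fl_false, ww_c S, ww_c S, d1] at he
        simpa using (ww_inj P he).2.2
    have dd : ∀ i, d i = d 1 := fun i => by
      fin_cases i
      · exact d1
      · rfl
      · exact d2.symm
    refine ⟨cent_of _ fun i j hij a => ?_, rfl, rfl⟩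
    rw [hd i j hij, fl_false, dd i, dd j, Units.mul_inv, one_mul, RingAut.one_apply]
  · obtain ⟨e, he⟩ := ha 1
    rw [hd 0 1 (by decide)] at he
    change x 1 2 _ = _ at he
    rw [ww_b S] at he
    exact absurd (ww_inj P he).1 zero_ne_one

theorem fu_of_U {f w : G} {ε : Bool} {φ : F ≃+* F} (hf : Fr3 x f ε φ) (hw : w ∈ U3 x)
    (h : ∀ r s, ∃ e, f * ww x r s 0 * f⁻¹ = w * ww x r s e * w⁻¹) :
    f ∈ C[All x] ∧ ε = false ∧ φ = 1 := by
  obtain ⟨r0, s0, e0, rfl⟩ := (mem_U P).1 hw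
  refine fu P S hf (fun r => ?_) (Or.inl ?_)
  · obtain ⟨e, he⟩ := h r 0
    exact ⟨_, by rw [ww_a S, he, ww_conj P S]⟩
  · obtain ⟨e, he⟩ := h 0 1
    exact ⟨_, by rw [ww_b S, he, ww_conj P S]⟩

theorem conj_c {w : G} (hw : w ∈ U3 x) (e : F) : w * x 0 2 e * w⁻¹ = x 0 2 e := by
  obtain ⟨r0, s0, e0, rfl⟩ := (mem_U P).1 hw
  rw [ww_c S, ww_conj P S]
  simp

end Coord

variable (P : Pin3 x) (m : M3 L x)

include m

theorem x_mem {i j : Fin 3} (h : i ≠ j) (a : F) : x i j a ∈ L := m.gen ▸ mem_All h a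

theorem fr_N {f : G} {ε : Bool} {φ : F ≃+* F} (h : Fr3 x f ε φ) : f ∈ N[L] := m.gen ▸ fr_NL h

theorem K_NU : C[L] ≤ N[U3 x] := (centralizer_le m.syl.le).trans (centralizer_le_normalizer _)

theorem UK : U3 x ⊓ C[L] = ⊥ := by
  rw [eq_bot_iff]
  intro w hw
  obtain ⟨k, hk⟩ := m.syl.isPGroup ⟨w, hw.1⟩
  exact eq_one_of_odd ⟨k, congrArg Subtype.val hk⟩ (m.zodd w ⟨m.syl.le hw.1, hw.2⟩)

theorem two (Q : Subgroup G) (h : Q ≤ N[L]) (hQ : IsPGroup 2 Q) :
    ∃ l ∈ L, cj l Q ≤ N[U3 x] := by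
  have : Fact (Nat.Prime 2) := ⟨Nat.prime_two⟩
  obtain ⟨T, hT, hQT⟩ := H8.exists_isSylowIn_ge hQ (le_sup_right : Q ≤ L ⊔ Q)
  have h1 := hT.inf_of_le_normalizer (sup_le le_normalizer h)
  rw [inf_eq_right.2 (le_sup_left : L ≤ L ⊔ Q)] at h1
  obtain ⟨l, hl, e⟩ := h1.exists_conj_eq m.syl
  refine ⟨l, hl, ?_⟩
  rw [← e, ← H8.map_conj_eq_smul]
  change _ ≤ N[cj l (T ⊓ L)]
  rw [← cj_normalizer]
  exact cj_mono l (le_normalizer_inf (hQT.trans le_normalizer) h)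

theorem ex_frame {g : G} (hg : g ∈ N[L]) : ∃ l ∈ L, ∃ ε φ, Fr3 x (l * g) ε φ := by
  have : Fact (Nat.Prime 2) := ⟨Nat.prime_two⟩
  obtain ⟨n, hn, k, hk, rfl⟩ := m.syl.frattini hg
  obtain ⟨w, hw, ε, φ, hf⟩ := m.nU k ((mul_mem_cancel_left (le_normalizer hn)).1 hg) hk
  exact ⟨w * n⁻¹, mul_mem (m.syl.le hw) (inv_mem hn), ε, φ, by rwa [mul_assoc, inv_mul_cancel_left]⟩

theorem ti {g : G} (hg : g ∈ N[L]) {c c' : F} (hc : c ≠ 0) (e : g * x 0 2 c * g⁻¹ = x 0 2 c') :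
    g ∈ N[U3 x] := by
  obtain ⟨l, hl, ε, φ, hf⟩ := ex_frame m hg
  have h1 := fr_NU hf
  obtain ⟨d, hd⟩ := hf
  have h2 := hd 0 2 (by decide) c
  have h3 : fl x ε 0 2 = x 0 2 := by cases ε <;> rfl
  rw [h3, show l * g * x 0 2 c * (l * g)⁻¹ = l * (g * x 0 2 c * g⁻¹) * l⁻¹ by group, e] at h2
  have hc' : c' ≠ 0 := by
    rintro rfl
    rw [x_zero m.st (by decide), conj_eq_one_iff] at e
    exact hc (m.st.inj 0 2 (by decide) c e)
  exact (mul_mem_cancel_left (m.ti l hl c' _ hc' h2)).1 h1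

theorem typ_N {g : G} {ε : Bool} {φ : F ≃+* F} (h : Typ3 x L g ε φ) : g ∈ N[L] := by
  obtain ⟨l, hl, hf⟩ := h
  exact (mul_mem_cancel_left (le_normalizer hl)).1 (fr_N m hf)

theorem typ_mul {g g' : G} {ε ε' : Bool} {φ φ' : F ≃+* F} (h : Typ3 x L g ε φ)
    (h' : Typ3 x L g' ε' φ') : Typ3 x L (g * g') (xor ε ε') (φ * φ') := by
  have hg := typ_N m h
  obtain ⟨l, hl, hf⟩ := h
  obtain ⟨l', hl', hf'⟩ := h'
  refine ⟨l * (g * l' * g⁻¹), mul_mem hl ((mem_normalizer_iff.1 hg _).1 hl'), ?_⟩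
  rw [show l * (g * l' * g⁻¹) * (g * g') = l * g * (l' * g') by group]
  exact fr_mul hf hf'

theorem typ_inv {g : G} {ε : Bool} {φ : F ≃+* F} (h : Typ3 x L g ε φ) : Typ3 x L g⁻¹ ε φ⁻¹ := by
  have hg := typ_N m h
  obtain ⟨l, hl, hf⟩ := h
  refine ⟨g⁻¹ * l⁻¹ * g⁻¹⁻¹, (mem_normalizer_iff.1 (inv_mem hg) _).1 (inv_mem hl), ?_⟩
  rw [show g⁻¹ * l⁻¹ * g⁻¹⁻¹ * g⁻¹ = (l * g)⁻¹ by group]
  exact fr_inv hf

theorem typ_inn {g : G} (hg : g ∈ L ⊔ C[L]) : Typ3 x L g false 1 := by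
  obtain ⟨l, hl, k, hk, rfl⟩ := dec_cent le_rfl hg
  exact ⟨l⁻¹, inv_mem hl, by rw [inv_mul_cancel_left]; exact fr_cent (m.gen ▸ hk)⟩

theorem ab {g : G} (hg : g ∈ ⁅N[L], N[L]⁆) : Typ3 x L g false 1 := by
  let T : Subgroup G :=
    { carrier := {g | Typ3 x L g false 1}
      mul_mem' := fun a b => by simpa using typ_mul m a b
      one_mem' := typ_inn m (one_mem _)
      inv_mem' := fun a => by simpa using typ_inv m a }
  refine (commutator_le.2 fun a ha b hb => ?_ : ⁅N[L], N[L]⁆ ≤ T) hg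
  obtain ⟨l, hl, ε, φ, h⟩ := ex_frame m ha
  obtain ⟨l', hl', ε', φ', h'⟩ := ex_frame m hb
  have := typ_mul m (typ_mul m (typ_mul m ⟨l, hl, h⟩ ⟨l', hl', h'⟩) (typ_inv m ⟨l, hl, h⟩))
    (typ_inv m ⟨l', hl', h'⟩)
  rw [H73.ringAut_mul_comm φ φ', mul_inv_cancel_right, mul_inv_cancel,
    show xor (xor (xor ε ε') ε) ε' = false by cases ε <;> cases ε' <;> rfl] at this
  exact this

theorem memU {l : G} (hl : l ∈ L) (hU : l ∈ N[U3 x]) (h2 : Is2 l) : l ∈ U3 x := by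
  have : Fact (Nat.Prime 2) := ⟨Nat.prime_two⟩
  obtain ⟨k, hk⟩ := h2
  have hp : IsPGroup 2 (zpowers l) := by
    obtain ⟨j, -, hj⟩ := (Nat.dvd_prime_pow Nat.prime_two).1 (orderOf_dvd_of_pow_eq_one hk)
    exact IsPGroup.of_card (by rw [Nat.card_zpowers, hj])
  exact m.syl.le_of_le_normalizer' hp (zpowers_le.2 hl) (zpowers_le.2 hU) (mem_zpowers l)

theorem tn {t : G} (T : Tc L t) : t ∉ L := fun h => by
  have := m.zodd t ⟨h, T.tc⟩
  rw [T.t2] at this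
  exact absurd this (by decide)

theorem dec {t : G} (T : Tc L t) {g : G} (hg : g ∈ L ⊔ C[L]) (h2 : g * g = 1) (hc : Commute g t) :
    ∃ l ∈ L, l * l = 1 ∧ (g = l ∨ g = t * l) := by
  obtain ⟨l, hl, k, hk, rfl⟩ := dec_cent le_rfl hg
  have c : Commute l k := hk l hl
  have e : l * l * (k * k) = 1 := by rw [c.mul_mul_mul_comm l k, h2]
  have z : l * l ∈ Z[L] := ⟨mul_mem hl hl, by
    rw [eq_inv_of_mul_eq_one_left e]; exact C[L].inv_mem (C[L].mul_mem hk hk)⟩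
  obtain ⟨n, hn⟩ := m.zodd _ z
  have p1 : (l * l) ^ (2 * n + 1) = 1 := by rw [← hn, pow_orderOf_eq_one]
  have g1 : l * k = l ^ (2 * n + 1) * k ^ (2 * n + 1) := by
    rw [← c.mul_pow, pow_succ, pow_mul, pow_two, h2, one_pow, one_mul]
  have l2 : l ^ (2 * n + 1) * l ^ (2 * n + 1) = 1 := by rw [← (Commute.refl l).mul_pow, p1]
  have k2 : k ^ (2 * n + 1) * k ^ (2 * n + 1) = 1 := by
    rw [← (Commute.refl k).mul_pow, eq_inv_of_mul_eq_one_right e, inv_pow, p1, inv_one]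
  have lt : Commute l t := T.tc l hl
  have kt : Commute k t := by
    have := lt.inv_left.mul_left hc
    rwa [inv_mul_cancel_left] at this
  refine ⟨_, pow_mem hl _, l2, ?_⟩
  rcases T.one _ (pow_mem hk _) (kt.pow_left _) k2 with h | h
  · left; rw [g1, h, mul_one]
  · right; rw [g1, h, (lt.pow_left _).eq]

include P

theorem cls_c {c c' : F} (hc : c ≠ 0) (hc' : c' ≠ 0) : ∃ l ∈ L, l * x 0 2 c * l⁻¹ = x 0 2 c' := by
  have : CharP F 2 := CharTwo.of_one_ne_zero_of_two_eq_zero one_ne_zero m.st.two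
  obtain ⟨k, hk⟩ := isSquare_of_charTwo' (c' / c)
  have k0 : k ≠ 0 := by
    rintro rfl
    exact div_ne_zero hc' hc (by simpa using hk)
  obtain ⟨h, hh, ht⟩ := P.tor ![Units.mk0 k k0, 1, (Units.mk0 k k0)⁻¹] (by simp)
  refine ⟨h, m.gen ▸ hh, ?_⟩
  rw [ht 0 2 (by decide)]
  congr 1
  simp only [Matrix.cons_val_zero, Matrix.cons_val, inv_inv, Units.val_mk0]
  rw [← hk, div_mul_cancel₀ _ hc]

theorem cls {j : G} (hj : j ∈ L) (h2 : j * j = 1) (h1 : j ≠ 1) {c : F} (hc : c ≠ 0) :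
    ∃ l ∈ L, l * j * l⁻¹ = x 0 2 c := by
  have : Fact (Nat.Prime 2) := ⟨Nat.prime_two⟩
  have tr : ∀ {a b : G} {l : G}, l ∈ L → l * a * l⁻¹ = b → (∃ l ∈ L, l * b * l⁻¹ = x 0 2 c) →
      ∃ l ∈ L, l * a * l⁻¹ = x 0 2 c := by
    rintro a _ l hl rfl ⟨l', hl', e⟩
    exact ⟨l' * l, mul_mem hl' hl, by rw [← e]; group⟩
  have hp : IsPGroup 2 (zpowers j) := IsPGroup.of_card (n := 1) (by
    rw [Nat.card_zpowers, pow_one]; exact orderOf_eq_prime (by rw [pow_two, h2]) h1)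
  obtain ⟨l, hl, e⟩ := m.syl.exists_conj_le hp (zpowers_le.2 hj)
  obtain ⟨r, s, e, he⟩ := (mem_U P).1 (e (H8.conj_mem_conj_smul.2 (mem_zpowers j)))
  refine tr hl he ?_
  have q1 : ww x r s e * ww x r s e = 1 := by
    rw [← he]; calc _ = l * (j * j) * l⁻¹ := by group
      _ = 1 := by rw [h2]; group
  have q2 : ww x r s e ≠ 1 := by rw [← he]; simpa using h1
  rw [ww_mul P, ← ww_zero m.st] at q1
  have q3 := (ww_inj P q1).2.2
  rw [add_self m.st, zero_add] at q3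
  by_cases hr : r = 0
  · subst hr
    by_cases hs : s = 0
    · subst hs
      rw [← ww_c m.st]
      refine cls_c P m ?_ hc
      rintro rfl
      exact q2 (ww_zero m.st)
    · obtain ⟨n, hn, h⟩ := P.wey (Equiv.swap 0 1)
      refine tr (l := ww x (e / s) 0 0) (b := x 1 2 s) (ww_a m.st _ ▸ x_mem m (by decide) _) ?_
        (tr (m.gen ▸ hn) (h 1 2 (by decide) s) (cls_c P m hs hc))
      rw [ww_conj P m.st, ww_b m.st, div_mul_cancel₀ _ hs, zero_mul, add_zero, add_self m.st]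
  · obtain rfl : s = 0 := (mul_eq_zero.1 q3).resolve_left hr
    obtain ⟨n, hn, h⟩ := P.wey (Equiv.swap 1 2)
    refine tr (l := ww x 0 (e / r) 0) (b := x 0 1 r) (ww_b m.st _ ▸ x_mem m (by decide) _) ?_
      (tr (m.gen ▸ hn) (h 0 1 (by decide) r) (cls_c P m hr hc))
    rw [ww_conj P m.st, ww_a m.st, mul_div_cancel₀ _ hr, zero_mul, add_zero, add_self m.st]

theorem c2 {g : G} (hg : g ∈ N[L]) (h : ∀ w ∈ U3 x, ⁅g, w⁆ ∈ X3 x 0 2) :
    ∃ w ∈ U3 x, ∃ k ∈ C[L], g = w * k := by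
  have h' : ∀ r s e, ∃ e', g * ww x r s e * g⁻¹ = ww x r s e' := fun r s e => by
    obtain ⟨a, ha⟩ := (P.memX 0 2 (by decide) _).1 (h _ ((mem_U P).2 ⟨r, s, e, rfl⟩))
    rw [commutatorElement_def, mul_inv_eq_iff_eq_mul, ww_c m.st, ww_mul P, zero_add, zero_add] at ha
    exact ⟨_, ha⟩
  have gU : g ∈ N[U3 x] := mem_normalizer_of_cj_le (by
    rintro _ ⟨w, hw, rfl⟩
    obtain ⟨r, s, e, rfl⟩ := (mem_U P).1 hw
    obtain ⟨e', he⟩ := h' r s e
    exact (mem_U P).2 ⟨r, s, e', he⟩)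
  obtain ⟨w, hw, ε, φ, hf⟩ := m.nU g hg gU
  refine ⟨w⁻¹, inv_mem hw, w * g, m.gen ▸ (fu_of_U P m.st hf hw fun r s => ?_).1, by group⟩
  obtain ⟨e', he⟩ := h' r s 0
  exact ⟨e', by rw [← he]; group⟩

theorem c1_zero {g : G} (hg : g ∈ N[L]) (h : g ∈ C[Row x 0]) :
    ∃ w ∈ Row x 0, ∃ k ∈ C[L], g = w * k := by
  have hc := cj_of_cent h (mem_Row (x := x) (by decide : (0 : Fin 3) ≠ 2) 1)
  obtain ⟨w, hw, ε, φ, hf⟩ := m.nU g hg (ti m hg one_ne_zero hc)
  have e : ∀ z, w * g * z * (w * g)⁻¹ = w * (g * z * g⁻¹) * w⁻¹ := fun z => by group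
  have hc' := conj_c P m.st hw 1
  obtain ⟨r0, s0, e0, rfl⟩ := (mem_U P).1 hw
  have ha : ∀ r, ww x r0 s0 e0 * g * x 0 1 r * (ww x r0 s0 e0 * g)⁻¹ = ww x r 0 (r * s0) :=
    fun r => by
      rw [e, cj_of_cent h (mem_Row (by decide) r), ww_a m.st, ww_conj P m.st]
      simp
  have hk := (fu P m.st hf (fun r => ⟨_, ha r⟩) (Or.inr (by rw [e, hc, hc']))).1
  have := ha 1
  rw [cj_of_cent hk (mem_All (by decide) 1), ww_a m.st] at this
  have s0' := (ww_inj P this).2.2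
  rw [one_mul] at s0'
  subst s0'
  refine ⟨(ww x r0 0 e0)⁻¹, inv_mem ?_, _, m.gen ▸ hk, by group⟩
  rw [ww, x_zero m.st (by decide), mul_one]
  exact mul_mem (mem_Row (by decide) _) (mem_Row (by decide) _)

theorem cY_zero {g : G} (hg : g ∈ N[L]) (h : g ∈ C[U3 x]) : ∃ c, ∃ k ∈ C[L], g = x 0 2 c * k := by
  obtain ⟨w, hw, k, hk, rfl⟩ := c2 P m hg fun w hw => by
    rw [commutatorElement_def, cj_of_cent h hw, mul_inv_cancel]; exact one_mem _
  have hw' := (mul_mem_cancel_right (centralizer_le m.syl.le hk)).1 h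
  obtain ⟨r, s, e, rfl⟩ := (mem_U P).1 hw
  have h1 := cj_of_cent hw' (a_mem (x := x) 1)
  have h2 := cj_of_cent hw' (b_mem (x := x) 1)
  rw [ww_a m.st, ww_conj P m.st] at h1
  rw [ww_b m.st, ww_conj P m.st] at h2
  have e1 := (ww_inj P h1).2.2
  have e2 := (ww_inj P h2).2.2
  simp only [zero_add, one_mul, mul_zero, add_zero, zero_mul, mul_one] at e1 e2
  subst e1 e2
  exact ⟨e, k, hk, by rw [ww_c m.st]⟩

theorem fr_L {h : G} {ε : Bool} {φ : F ≃+* F} (hl : h ∈ L) (hf : Fr3 x h ε φ) :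
    ε = false ∧ φ = 1 := by
  obtain ⟨w, hw, h1⟩ := m.bor h hl (fr_NU hf)
  have h2 := fr_mul h1 (fr_inv hf)
  rw [mul_inv_cancel_right, Bool.false_xor, one_mul] at h2
  obtain ⟨-, a, b⟩ := fu_of_U P m.st h2 hw fun r s => ⟨0, rfl⟩
  exact ⟨a, inv_eq_one.1 b⟩

theorem typ_uniq {g : G} {ε ε' : Bool} {φ φ' : F ≃+* F} (h : Typ3 x L g ε φ)
    (h' : Typ3 x L g ε' φ') : ε = ε' ∧ φ = φ' := by
  obtain ⟨l, hl, hf⟩ := h
  obtain ⟨l', hl', hf'⟩ := h'
  have h1 := fr_mul hf (fr_inv hf')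
  rw [show l * g * (l' * g)⁻¹ = l * l'⁻¹ by group] at h1
  obtain ⟨a, b⟩ := fr_L P m (mul_mem hl (inv_mem hl')) h1
  exact ⟨by simpa using a, mul_inv_eq_one.1 b⟩

theorem typ_one {g : G} (h : Typ3 x L g false 1) (h2 : Is2 g) : g ∈ L ⊔ C[L] := by
  obtain ⟨l, hl, hf⟩ := h
  have hN := fr_N m hf
  obtain ⟨d, hd⟩ := tor_of_fr hf
  obtain ⟨h, hh, ht⟩ := P.tor (fun i => d i ^ 3 * (d 0 * d 1 * d 2)⁻¹) (by
    apply Units.ext
    simp only [Units.val_mul, Units.val_pow_eq_pow_val, Units.val_inv_eq_inv_val, Units.val_one]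
    field_simp)
  have hk := cent_of_tor (tor_pow hd 3) ht fun i j => by
    apply Units.ext
    simp only [Units.val_mul, Units.val_pow_eq_pow_val, Units.val_inv_eq_inv_val, Pi.pow_apply]
    field_simp
  rw [m.gen] at hk hh
  refine mem_of_frame (f := l * g) (n := 3) (le_normalizer_sup le_rfl
    (normalizer_le_normalizer_centralizer L) hN) ?_ h2 (by decide) ?_
  · rw [show g * (l * g)⁻¹ = l⁻¹ by group]
    exact mem_sup_left (inv_mem hl)
  · exact (mul_mem_cancel_left (mem_sup_left (inv_mem hh))).1 (mem_sup_right hk)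

omit P in
theorem inn {g : G} (hg : g ∈ L ⊔ C[L]) (hU : g ∈ N[U3 x]) (h2 : Is2 g) :
    ∃ w ∈ U3 x, ∃ k ∈ C[L], g = w * k := by
  obtain ⟨l, hl, k, hk, rfl⟩ := dec_cent le_rfl hg
  obtain ⟨w, hw, hf⟩ := m.bor l hl ((mul_mem_cancel_right (K_NU m hk)).1 hU)
  have hN := fr_N m hf
  have hN' := fr_NU hf
  obtain ⟨d, hd⟩ := tor_of_fr hf
  have hC := normalizer_le_normalizer_centralizer L hN
  refine dec_cent m.syl.le (mem_of_frame (f := w * l) (n := Nat.card Fˣ) ?_ ?_ h2 ?_ ?_)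
  · exact zpowers_le.1 (le_normalizer_sup (zpowers_le.2 hN') (zpowers_le.2 hC))
  · rw [show l * k * (w * l)⁻¹ = w⁻¹ * (w * l * k * (w * l)⁻¹) by group]
    exact mul_mem (mem_sup_left (inv_mem hw)) (mem_sup_right ((mem_normalizer_iff.1 hC _).1 hk))
  · have := Fintype.ofFinite F
    have h1 := FiniteField.even_card_of_char_two (F := F)
      (ringChar.eq_iff.2 (CharTwo.of_one_ne_zero_of_two_eq_zero one_ne_zero m.st.two))
    have h3 := m.four
    rw [Nat.card_units, Nat.odd_iff]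
    rw [Nat.card_eq_fintype_card] at h3 ⊢
    omega
  · refine mem_sup_right (m.gen ▸ cent_of _ fun i j hij a => ?_)
    rw [tor_pow hd _ i j hij]
    simp [pow_card_eq_one']

omit P m in
theorem ex_perm {i j : Fin 3} (h : i ≠ j) : ∃ π : Equiv.Perm (Fin 3), π 0 = i ∧ π 2 = j := by
  revert i j
  decide

omit P m in
theorem ka_of (hp : PinStmt3.{u, v}) : KAStmt.{u, v} := by
  intro F _ _ G _ _ L x m
  have P := hp x m.st
  have c1 : ∀ {x : Fin 3 → Fin 3 → F → G}, M3 L x → ∀ i, ∀ g ∈ N[L], g ∈ C[Row x i] →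
      ∃ v ∈ Row x i, ∃ k ∈ C[L], g = v * k := fun {x} m i g hg h => by
    have m' := m_perm (hp x m.st) m (Equiv.swap 0 i)
    have := c1_zero (hp _ m'.st) m' hg (by rwa [row_perm, Equiv.swap_apply_left])
    rwa [row_perm, Equiv.swap_apply_left] at this
  exact
    { flip := m_flip m
      conj := fun g => m_tr m fun _ _ _ _ => rfl
      perm := m_perm P m
      UK := UK m
      cls := fun j hj h2 h1 c hc => cls P m hj h2 h1 hc
      ti := fun g hg c c' hc e => ti m hg hc e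
      c2 := fun g hg h => c2 P m hg h
      c1 := c1 m
      c1' := fun i g hg h => by
        have := c1 (m_flip m) i.rev g hg (by rwa [row_fl, Fin.rev_rev])
        rwa [row_fl, Fin.rev_rev] at this
      cY := fun i j hij g hg h => by
        obtain ⟨π, rfl, rfl⟩ := ex_perm hij
        have m' := m_perm P m π
        exact cY_zero (hp _ m'.st) m' hg (by rwa [U3, Y3, row_perm, col_perm])
      two := two m
      typ_ex := fun g hg => by
        obtain ⟨l, hl, ε, φ, h⟩ := ex_frame m hg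
        exact ⟨ε, φ, l, hl, h⟩
      typ_N := fun _ _ _ => typ_N m
      typ_uniq := fun _ _ _ _ _ => typ_uniq P m
      typ_mul := fun _ _ _ _ _ _ => typ_mul m
      typ_inn := fun _ => typ_inn m
      typ_one := fun _ => typ_one P m
      inn := fun _ => inn m
      ab := fun _ => ab m
      memU := fun _ => memU m
      tn := fun _ => tn m
      dec := fun _ T _ => dec m T }

end Cfsg.Agent.H85.L3K
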