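import Cfsg.Agent.H85.FPKit
import Cfsg.Agent.H18.OCPA
import Cfsg.Agent.H83.Trans

/-! The final contradiction for four-groups. -/

set_option autoImplicit false

namespace Cfsg.Agent.FPK

open Subgroup Cfsg Cfsg.Agent.H83 Cfsg.Agent.H18.OC
open Cfsg.Agent.H53.OC hiding PAStmt
open Cfsg.Agent.H85.FP (PAStmt FinAStmt Small)
open scoped commutatorElement

universe u

variable {Γ : Type u} [Group Γ] [Finite Γ] {S L : Subgroup Γ} {M : Subgroup Γ → Γ → Prop}
  {u a b c ρ x : Γ} {m : ℕ}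

theorem exists_odd_pow (h1 : orderOf ρ = 2 ^ (m + 1)) (h2 : orderOf x = 2 ^ (m + 1))
    (h : x ∈ zpowers ρ) : ∃ j : ℕ, x = ρ ^ (2 * j + 1) := by
  obtain ⟨k, rfl⟩ := (mem_powers_iff_mem_zpowers.2 h : ∃ k : ℕ, ρ ^ k = x)
  rcases Nat.even_or_odd' k with ⟨j, rfl | rfl⟩
  · have h3 := orderOf_dvd_of_pow_eq_one (x := ρ ^ (2 * j)) (n := 2 ^ m) (by
      rw [← pow_mul, show 2 * j * 2 ^ m = 2 ^ (m + 1) * j by ring, pow_mul, ← h1,
        pow_orderOf_eq_one, one_pow])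
    rw [h2, Nat.pow_dvd_pow_iff_le_right (by norm_num)] at h3
    omega
  · exact ⟨j, rfl⟩

omit [Finite Γ] in
theorem orderOf_sq (h : orderOf ρ = 2 ^ (m + 1)) : orderOf (ρ * ρ) = 2 ^ m := by
  rw [← pow_two, orderOf_pow_of_dvd two_ne_zero (by rw [h]; exact dvd_pow_self 2 (by omega)), h,
    pow_succ, Nat.mul_div_cancel _ two_pos]

/-- The involutions of the members at `u`. -/
def Lam (M : Subgroup Γ → Γ → Prop) (u v : Γ) : Prop := ∃ W, M W u ∧ NT W u v

section Lam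

variable (h : Fam S L M)
include h

omit [Finite Γ] in
theorem lam_S (ha : Lam M u a) : a ∈ S := ha.elim fun _ ha => h.le ha.1 ha.2.1

omit [Finite Γ] in
theorem lam_sq (ha : Lam M u a) : a * a = 1 := ha.elim fun _ ha => h.el ha.1 _ ha.2.1

omit [Finite Γ] in
theorem lam_u (ha : Lam M u a) : a * u = u * a := ha.elim fun _ ha => h.cen ha.1 ha.1 a ha.2.1

omit [Finite Γ] in
theorem lam_cj (ha : Lam M u a) {g : Γ} (hg : g ∈ L) (c : g * u = u * g) :
    Lam M u (g * a * g⁻¹) := by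
  obtain ⟨W, hW, hv⟩ := ha
  exact ⟨_, h.cjw hW hg c, conj_mem_cj hv.1, fun e => hv.2.1 (conj_eq_one_iff.1 e),
    fun e => hv.2.2 (by rw [mul_inv_eq_iff_eq_mul, ← c, mul_right_inj] at e; exact e)⟩

theorem lam_two (ha : Lam M u a) (hb : Lam M u b) :
    (b = a ∨ b = a * u) ∨ ∃ g ∈ zpowers (a * b), g * g = u := by
  obtain ⟨W, hW, hv⟩ := ha
  obtain ⟨W', hW', hv'⟩ := hb
  by_cases hc : W' ≤ centralizer (W : Set Γ)
  · obtain rfl := h.lemP hW hW' hc
    exact Or.inl (h.two' hW hv hv')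
  · obtain ⟨-, g, hg, ⟨e, -⟩, -⟩ := h.noncomm hW hW' hv hv' hc
    exact Or.inr ⟨g, hg, e⟩

theorem lam_four (ha : Lam M u a) (hb : Lam M u b) (hc : Lam M u c) (e : a * (b * c) = b * c * a) :
    c = b ∨ c = b * u := by
  refine (lam_two h hb hc).resolve_right fun ⟨g, hg, e1⟩ => ?_
  obtain ⟨W, hW, hv⟩ := ha
  have m : b * c ∈ S ⊓ centralizer (W : Set Γ) := ⟨mul_mem (lam_S h hb) (lam_S h hc),
    h.mem_cent hW hv (by rw [← mul_assoc, ← lam_u h hb, mul_assoc, ← lam_u h hc, mul_assoc]) e⟩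
  exact h.ne hW (e1 ▸ h.sqr hW g (zpowers_le.2 m hg) (e1 ▸ h.mem hW))

theorem lam_claim (m : ℕ) : ∀ a b c : Γ, Lam M u a → Lam M u b → Lam M u c →
    orderOf (a * b) = 2 ^ (m + 1) → orderOf (a * c) = 2 ^ (m + 1) → a * c ∈ zpowers (a * b) := by
  have uu : ∀ {a}, Lam M u a → u * u = 1 := fun ha => ha.elim fun _ ha => h.ww ha.1
  induction m with
  | zero =>
    have key : ∀ {a b : Γ}, Lam M u a → Lam M u b → orderOf (a * b) = 2 ^ (0 + 1) → a * b = u := by
      intro a b ha hb e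
      rcases lam_two h ha hb with (e1 | e1) | ⟨g, hg, e1⟩
      · rw [e1, lam_sq h ha] at e; simp at e
      · rw [e1, ← mul_assoc, lam_sq h ha, one_mul]
      · obtain ⟨k, rfl⟩ := mem_zpowers_iff.1 hg
        have e2 : (a * b) ^ 2 = 1 := by simpa [e] using pow_orderOf_eq_one (a * b)
        refine absurd e1.symm ?_
        rw [← zpow_add, ← two_mul, zpow_mul, zpow_ofNat, e2, one_zpow]
        exact ha.elim fun _ ha => h.ne ha.1
    intro a b c ha hb hc e1 e2
    rw [key ha hb e1, key ha hc e2]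
    exact mem_zpowers u
  | succ m ih =>
    intro a b c ha hb hc e1 e2
    have i : ∀ {a}, Lam M u a → a⁻¹ = a := fun ha => inv_eq_of_mul_eq_one_right (lam_sq h ha)
    have s : ∀ {b}, Lam M u b → a * (b * a * b⁻¹) = a * b * (a * b) := fun hb => by
      rw [i hb]; group
    have h1 := ih a _ _ ha (lam_cj h ha (h.SL (lam_S h hb)) (lam_u h hb))
      (lam_cj h ha (h.SL (lam_S h hc)) (lam_u h hc)) (by rw [s hb, orderOf_sq e1])
      (by rw [s hc, orderOf_sq e2])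
    rw [s hb, s hc] at h1
    obtain ⟨j, hj⟩ := exists_odd_pow (orderOf_sq e1) (orderOf_sq e2) h1
    obtain ⟨ρ, hρ⟩ : ∃ ρ, ρ = a * b := ⟨_, rfl⟩
    rw [← hρ] at e1 hj ⊢
    have i1 : ∀ n : ℕ, a * ρ ^ n * a⁻¹ = (ρ ^ n)⁻¹ := fun n => by
      rw [← conj_pow, ← inv_pow, hρ, ← mul_assoc, lam_sq h ha, one_mul, mul_inv_rev, i hb, i ha]
    have e3 : (ρ ^ j)⁻¹ * b * (ρ ^ j)⁻¹⁻¹ = a * ρ ^ (2 * j + 1) := by
      rw [inv_inv, show b = a * ρ by rw [hρ, ← mul_assoc, lam_sq h ha, one_mul], ← i1, i ha]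
      calc _ = a * ρ ^ j * (a * a) * ρ * ρ ^ j := by group
        _ = _ := by rw [lam_sq h ha]; group
    have cu : Commute ρ u := hρ ▸ Commute.mul_left (lam_u h ha) (lam_u h hb)
    have hb' := lam_cj h hb (h.SL (inv_mem (pow_mem (mul_mem (lam_S h ha) (lam_S h hb)) j)))
      (hρ ▸ (cu.pow_left j).inv_left)
    rw [← hρ, e3] at hb'
    have e4 : a * ρ ^ (2 * j + 1) * a * (a * ρ ^ (2 * j + 1)) = c * a * c :=
      calc _ = a * ρ ^ (2 * j + 1) * (a * a) * ρ ^ (2 * j + 1) := by group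
        _ = a * (ρ * ρ) ^ (2 * j + 1) := by rw [lam_sq h ha, ← pow_two, ← pow_mul]; group
        _ = a * a * (c * a * c) := by rw [← hj]; group
        _ = _ := by rw [lam_sq h ha, one_mul]
    have e5 := lam_four h ha hb' hc (by
      generalize a * ρ ^ (2 * j + 1) = d at e4 hb'
      calc _ = d⁻¹ * (d * a * d) * c := by group
        _ = d * c * a * (c * c) := by rw [e4, i hb']; group
        _ = _ := by rw [lam_sq h hc, mul_one])
    have hu : u ∈ zpowers ρ := by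
      rcases lam_two h ha hb with e | ⟨g, hg, e⟩
      · have : ρ * ρ = 1 := by
          rcases e with e | e
          · rw [hρ, e, lam_sq h ha, one_mul]
          · rw [hρ, e, ← mul_assoc a a, lam_sq h ha, one_mul, uu ha]
        have e6 := orderOf_sq e1
        rw [this, orderOf_one] at e6
        exact absurd e6 (Nat.one_lt_two_pow (by omega)).ne
      · rw [← e, hρ]; exact mul_mem hg hg
    rcases e5 with e | e <;> rw [e]
    · rw [← mul_assoc, lam_sq h ha, one_mul]; exact pow_mem (mem_zpowers ρ) _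
    · rw [← mul_assoc, ← mul_assoc, lam_sq h ha, one_mul]
      exact mul_mem (pow_mem (mem_zpowers ρ) _) hu

theorem lam_fix (ha : Lam M u a) (m : ℕ) : ∀ α ∈ L, Odd (orderOf α) → α * u = u * α →
    (a * (α * a * α⁻¹)) ^ 2 ^ m = 1 → α * a * α⁻¹ = a := by
  induction m with
  | zero =>
    intro α _ _ _ e
    rw [pow_zero, pow_one, ← lam_sq h ha, mul_right_inj] at e
    exact e
  | succ m ih =>
    intro α h1 h2 h3 e
    by_cases e0 : (a * (α * a * α⁻¹)) ^ 2 ^ m = 1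
    · exact ih α h1 h2 h3 e0
    have e1 := orderOf_eq_prime_pow e0 e
    have hb := lam_cj h ha h1 h3
    have hc := lam_cj h hb h1 h3
    have i : ∀ {a}, Lam M u a → a⁻¹ = a := fun ha => inv_eq_of_mul_eq_one_right (lam_sq h ha)
    have e2 : orderOf (α * a * α⁻¹ * a) = 2 ^ (m + 1) := by
      rw [← e1, ← orderOf_inv, mul_inv_rev, i ha, i hb]
    have e3 : orderOf (α * a * α⁻¹ * (α * (α * a * α⁻¹) * α⁻¹)) = 2 ^ (m + 1) := by
      rw [← e1, conj_mul, orderOf_conj']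
    obtain ⟨j, hj⟩ := exists_odd_pow e2 e3 (lam_claim h m _ _ _ hb ha hc e2 e3)
    have e4 := ih (α * α) (mul_mem h1 h1) (by
        rw [← pow_two]; exact h2.of_dvd_nat (orderOf_pow_dvd 2))
      (by rw [mul_assoc, h3, ← mul_assoc, h3, mul_assoc]) (by
        rw [← conj_conj]
        generalize α * a * α⁻¹ = b at hj hb e2
        generalize α * b * α⁻¹ = c at hj
        have e5 : a * c = (b * a) ^ (2 * j) :=
          calc _ = (b * a⁻¹)⁻¹ * (b * c) := by group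
            _ = _ := by rw [i ha, hj, pow_succ', inv_mul_cancel_left]
        rw [e5, ← pow_mul, show 2 * j * 2 ^ m = 2 ^ (m + 1) * j by ring, pow_mul, ← e2,
          pow_orderOf_eq_one, one_pow])
    exact mul_inv_eq_iff_eq_mul.2 (mem_centralizer_singleton_iff.1 (mem_of_ppow_mem (p := 2) (k := 1)
      (mem_centralizer_singleton_iff.2 (by
        rw [pow_one, pow_two]; exact mul_inv_eq_iff_eq_mul.1 e4)) (odd_iff_cop.1 h2)))

end Lam

theorem pa : PAStmt.{u} := by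
  intro Γ _ _ S L U u h0
  have h := fam_of h0
  have hU : ∃ g ∈ L, cj g U = U ∧ g * u * g⁻¹ = u := ⟨1, one_mem _, cj_one _, by simp⟩
  obtain ⟨g, hg, hn⟩ := h0.nc
  obtain ⟨v, hv⟩ := h.ex hU
  obtain ⟨v', hv'⟩ := h.ex ⟨g, hg, rfl, rfl⟩
  obtain ⟨-, y, -, ⟨e, w, X, hw, hX, m⟩, -⟩ := h.noncomm hU ⟨g, hg, rfl, rfl⟩ hv hv' hn
  obtain ⟨a1, a2, a3⟩ := Fam.WW.spec h hU e hw hX m
  have key : ∀ a ∈ L, Odd (orderOf a) → cj a U = U ∨
      ∀ W, (∃ g ∈ L, cj g U = W ∧ g * u * g⁻¹ = u) → cj a U ≤ centralizer (W : Set Γ) := by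
    intro a ha ho
    by_cases c : a * u = u * a
    · obtain ⟨k, hk⟩ := isPGroup_iff.1 h.two _
        (mul_mem (h0.le hv.1) (conj_mem h0.LS ha (h0.le hv.1)))
      exact Or.inl (cj_eq_self (le_norm_of_le_cent le_rfl (h.mem_cent hU hv c.symm
        (mul_inv_eq_iff_eq_mul.1 (lam_fix h ⟨U, hU, hv⟩ k a ha ho c hk)).symm)))
    · refine Or.inr fun W hW => by_contra fun hc => c ?_
      obtain ⟨x, hx⟩ := h.ex hW
      obtain ⟨x', hx'⟩ := h.ex ⟨a, ha, rfl, rfl⟩
      exact mul_inv_eq_iff_eq_mul.1 (h.noncomm hW ⟨a, ha, rfl, rfl⟩ hx hx' hc).1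
  refine ⟨fun a ha ho => (key a ha ho).elim (fun e => e.le.trans (h.ab hU)) fun e => e U hU,
    w * y, h.le hX m, h.el hX _ m, a3 m, fun hc => a2 (h.lemP hU hX (le_centralizer_iff.1
      fun a ha => h.mem_cent hX a1 (h.cen hU hU a ha).symm (hc a ha).symm)),
    fun a ha ho => (key a ha ho).imp_right fun e => le_centralizer_iff.1 (e X hX) m⟩

theorem finA : FinAStmt.{u} := by
  intro Γ _ _ G A S E U u x t e h
  have h0 := locA Γ G S E U (S ⊔ A) u x t h le_sup_left (sup_le le_normalizer e.AS)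
    (sup_le (h.SG.trans le_normalizer) e.AG)
  obtain ⟨h1, s, s1, s2, s3, s4, s5⟩ := pa Γ S _ U u h0
  obtain ⟨y, hy⟩ := h.fstar
  have od : ∀ a ∈ A, Odd (orderOf a) := fun a ha => e.odd.of_dvd_nat (orderOf_dvd_natCard _ ha)
  have c1 : ∀ a ∈ A, cj a U ≤ centralizer (U : Set Γ) := fun a ha =>
    h1 a (mem_sup_right ha) (od a ha)
  have RS : orb A U ≤ S ⊓ centralizer (U : Set Γ) :=
    orb_le fun a ha => le_inf (cj_le_of_norm h0.le (e.AS ha)) (c1 a ha)
  have cR : orb A U ≤ centralizer (orb A U : Set Γ) :=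
    orb_le fun a ha => le_centralizer_iff.1 (orb_le fun b hb => by
      rw [← cj_centralizer, ← cj_cj_inv a (cj b U), ← cj_mul a⁻¹]
      exact cj_mono a (c1 _ (mul_mem (inv_mem ha) hb)))
  have eR : IsElementaryAbelian 2 (orb A U) := EA_of_le_comm cR (fun a => cj_le_orb a.2)
    fun a v hv => by
      have := h0.el _ (mem_cj.1 hv)
      rw [pow_two, ← conj_eq_one_iff (a := (a : Γ)⁻¹), ← this]; group
  have yR : y ∈ normalizer (orb A U : Set Γ) :=
    norm_of_comm (le_orb A U) fun a ha => hy.comm a (RS ha)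
  have yU : y ∈ normalizer (U : Set Γ) :=
    norm_of_comm le_rfl fun a ha => hy.comm a (RS (le_orb A U ha))
  have h2 : orb A U ≤ U ⊔ orb A U ⊓ centralizer {s} := orb_le fun a ha =>
    (s5 a (mem_sup_right ha) (od a ha)).elim (fun e => e.le.trans le_sup_left) fun e =>
      le_sup_of_le_right (le_inf (cj_le_orb ha) fun v hv => mem_centralizer_singleton_iff.2 (e v hv))
  obtain ⟨K, k1, k2, k3, k4⟩ := e.ns (orb A U) (RS.trans inf_le_left) eR (norm_orb A U) s (h.SG s1)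
    ⟨H85.mem_normalizer_of_cj_le (cj_le_iff.2 (h2.trans (sup_le
        (cj_le_iff.1 ((cj_eq_self s3).le.trans (le_orb A U))) fun v hv => mem_cj.2 (by
          rw [inv_inv, ← mem_centralizer_singleton_iff.1 hv.2, mul_inv_cancel_right]; exact hv.1)))),
      by rw [s2]; exact one_mem _, (card_le_of_le h2).trans (by
        rw [← h0.card]
        exact Nat.le_of_dvd (Nat.mul_pos Nat.card_pos Nat.card_pos) (H1.card_sup_dvd_of_le_normalizer
          (le_norm_of_le_cent ((le_orb A U).trans (cR.trans (cent_anti inf_le_left))))))⟩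
  have n1 : zpowers y ≤ normalizer ((U ⊓ centralizer ((K ⊓ normalizer (U : Set Γ) : Subgroup Γ) :
      Set Γ) : Subgroup Γ) : Set Γ) := le_norm_inf (zpowers_le.2 yU) (le_norm_cent (le_norm_inf
    (zpowers_le.2 (k3 ⟨hy.mem, yR⟩)) (le_norm_norm (zpowers_le.2 yU))))
  obtain ⟨⟨w, hw⟩, hw1⟩ := ne_bot_iff_exists_ne_one.1 (inf_cent_ne_bot_of_pMod
    (h.two.to_le h0.le) (E := K ⊓ normalizer (U : Set Γ)) inf_le_right
    (k4.mono inf_le_left (cent_anti (le_orb A U))) fun e0 => h0.ne (mem_bot.1 (e0 ▸ h0.mem)))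
  refine s4 fun v hv => ?_
  by_cases v1 : v = 1
  · simp [v1]
  obtain ⟨k, hk, rfl⟩ := four_orb h0.card h0.el hy.odd yU hy.nc hw.1
    (fun e0 => hw1 (Subtype.ext e0)) hv v1
  exact ((conj_mem n1 hk hw).2 s ⟨k1, s3⟩).symm

end Cfsg.Agent.FPK
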