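import Cfsg.Agent.H31.S94Jn2b

/-!
# Piece JN2a of S3094: the centraliser of the involution in the quotient
-/

set_option autoImplicit false
open scoped Pointwise commutatorElement
open Subgroup

namespace Cfsg.Agent.H85.S94N
open Cfsg.Agent.H46.S94 Cfsg.Agent.H31.S94Jn2b

universe u

local notation "C[" A "]" => Subgroup.centralizer (SetLike.coe A)
local notation "N[" A "]" => Subgroup.normalizer (SetLike.coe A)

section
variable {G : Type u} [Group G] {Y : Subgroup G} {X : Type u} [Group X] {π : Y →* X}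

theorem nrm_im {H : Subgroup G} {y : Y} (hy : (y : G) ∈ N[H]) : π y ∈ N[im π H] := by
  have key : ∀ y : Y, (y : G) ∈ N[H] → ∀ x ∈ im π H, π y * x * (π y)⁻¹ ∈ im π H := by
    rintro y hy _ ⟨a, ha, rfl⟩
    refine ⟨y * a * y⁻¹, (mem_normalizer_iff.1 hy a).1 ha, ?_⟩
    simp
  refine mem_normalizer_iff.2 fun x => ⟨key y hy x, fun hx => ?_⟩
  have := key y⁻¹ (inv_mem hy) _ hx
  simpa [mul_assoc] using this

theorem mem_sup_t {H : Subgroup G} {t y : G} (tt : t * t = 1) (ht : t ∈ N[H])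
    (hy : y ∈ H ⊔ zpowers t) : y ∈ H ∨ y * t ∈ H := by
  have ti : t⁻¹ = t := inv_eq_of_mul_eq_one_right tt
  have cj : ∀ a ∈ H, t * a * t ∈ H := fun a ha => by
    have := (mem_normalizer_iff.1 ht a).1 ha
    rwa [ti] at this
  let K : Subgroup G :=
    { carrier := {y | y ∈ H ∨ y * t ∈ H}
      one_mem' := Or.inl H.one_mem
      mul_mem' := by
        rintro a b (ha | ha) (hb | hb)
        · exact Or.inl (H.mul_mem ha hb)
        · exact Or.inr (by rw [mul_assoc]; exact H.mul_mem ha hb)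
        · refine Or.inr ?_
          have : a * b * t = a * t * (t * b * t) := by
            rw [← mul_assoc, ← mul_assoc, mul_assoc a t t, tt, mul_one]
          rw [this]
          exact H.mul_mem ha (cj b hb)
        · refine Or.inl ?_
          have : a * b = a * t * (t * (b * t) * t) := by
            rw [← mul_assoc, ← mul_assoc, mul_assoc a t t, tt, mul_one, mul_assoc, mul_assoc, tt,
              mul_one]
          rw [this]
          exact H.mul_mem ha (cj _ hb)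
      inv_mem' := by
        rintro a (ha | ha)
        · exact Or.inl (H.inv_mem ha)
        · refine Or.inr ?_
          have : a⁻¹ * t = t * (a * t)⁻¹ * t := by
            rw [mul_inv_rev, ti, ← mul_assoc, tt, one_mul]
          rw [this]
          exact cj _ (H.inv_mem ha) }
  have : H ⊔ zpowers t ≤ K :=
    sup_le (fun a ha => Or.inl ha) (zpowers_le.2 (Or.inr (by rw [tt]; exact H.one_mem)))
  exact this hy

end

theorem jn2a : JN2aStmt.{u} := by
  intro Γ _ G _ _ φ F t ζ O T z σ ρ V L X _ t' ρ'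
  generalize hR : T1 T (φ ρ) = R
  intro π h n1 qx
  have jf := h.jf
  have cx := h.cx
  have tf := h.tf
  obtain ⟨yt, et, rfl⟩ := qx.et
  obtain ⟨yr, er, rfl⟩ := qx.er
  have RT : R ≤ T := hR ▸ inf_le_left
  have inY : ∀ g, g ∈ F → g ∈ C[R] → g ∈ YY F R t := fun g a b => mem_sup_left ⟨a, b⟩
  have TY : T ≤ YY F R t := fun x hx => inY x (h.lt.le hx) fun r hr => tf.ab r (RT hr) x hx
  have LY : ∀ l ∈ L, φ l ∈ YY F R t := fun l hl => inY _ (h.AF ⟨l, rfl⟩) (n1.cL ⟨l, hl, rfl⟩)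
  have OY : O ⊓ F ≤ YY F R t := fun o ho => inY o ho.2 fun r hr => (tf.OC (RT hr) o ho.1).symm
  have zR : φ z ∈ R := by
    rw [← hR]
    exact ⟨tf.VT ⟨z, jf.zV, rfl⟩,
      mem_centralizer_singleton_iff.2 (by rw [← map_mul, ← rz jf, map_mul])⟩
  have LR : ∀ l ∈ L, φ l ∈ R → l = 1 := by
    intro l hl m
    refine fpfL jf hl (cx.inj ?_) (cx.inj ?_)
    · have := h.ls.inv _ (RT m)
      rw [← cx.AC, mul_assoc, cx.tt, mul_one] at this
      rw [map_mul, map_one]
      exact mul_eq_one_iff_eq_inv.2 this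
    · rw [map_mul, map_mul]
      rw [← hR] at m
      exact (mem_centralizer_singleton_iff.1 m.2).symm
  let f : L →* X := π.comp ((φ.comp L.subtype).codRestrict (YY F R t) fun l => LY l l.2)
  have ef : ∀ l : L, f l = π ⟨φ l, LY l l.2⟩ := fun _ => rfl
  have fi : Function.Injective f := by
    rw [injective_iff_map_eq_one]
    intro l hl
    exact Subtype.ext (LR l l.2 ((qx.ker _).1 hl))
  have eim : ∀ H ≤ L, im π (H.map φ) = (H.subgroupOf L).map f := by
    intro H hH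
    ext x
    constructor
    · rintro ⟨y, ⟨l, hl, e⟩, rfl⟩
      exact ⟨⟨l, hH hl⟩, hl, congrArg π (Subtype.ext e)⟩
    · rintro ⟨l, hl, rfl⟩
      exact ⟨_, ⟨l, hl, rfl⟩, rfl⟩
  have iso : ∀ H ≤ L, Nonempty (H ≃* im π (H.map φ)) := fun H hH =>
    ⟨((subgroupOfEquivOfLe hH).symm.trans (equivMapOfInjective _ f fi)).trans
      (MulEquiv.subgroupCongr (eim H hH).symm)⟩
  have com : ∀ y y' : YY F R t, (y : G) * y' = y' * y → π y * π y' = π y' * π y := fun y y' e => by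
    rw [← map_mul, ← map_mul]
    exact congrArg π (Subtype.ext e)
  have tR : t ∈ N[R] := by
    have k : ∀ r ∈ R, t * r * t⁻¹ ∈ R := fun r hr => by
      rw [cx.tinv, h.ls.inv r (RT hr)]
      exact R.inv_mem hr
    refine mem_normalizer_iff.2 fun r => ⟨k r, fun hr => ?_⟩
    have := k _ hr
    rw [cx.tinv] at this
    rwa [← mul_assoc, ← mul_assoc, cx.tt, one_mul, mul_assoc, cx.tt, mul_one] at this
  have tH : t ∈ N[F ⊓ C[R]] := by
    haveI := h.as.normal
    exact H4.le_normalizer_inf (B := zpowers t) (by rw [normalizer_eq_top]; exact le_top)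
      (H4.le_normalizer_centralizer (zpowers_le.2 tR)) (mem_zpowers t)
  have key : ∀ y : YY F R t, (y : G) ∈ F ⊓ C[R] → π y * π yt = π yt * π y →
      ∃ l ∈ im π (L.map φ), ∃ o ∈ im π (O ⊓ F), π y = l * o := by
    intro y hy e
    have w : ((y * yt * y⁻¹ * yt⁻¹ : YY F R t) : G) ∈ R := by
      rw [← qx.ker, map_mul, map_mul, map_mul, e, map_inv, map_inv]
      group
    obtain ⟨b, hb, eb⟩ := n1.sq y hy _ w (by simp [et])
    have e1 : (y : G) * t * (y : G)⁻¹ = b * t * b⁻¹ := by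
      have i := h.ls.inv _ (T.inv_mem (RT hb))
      rw [inv_inv] at i
      calc (y : G) * t * (y : G)⁻¹ = (y : G) * t * (y : G)⁻¹ * t⁻¹ * t := by group
        _ = b * b * t := by rw [← eb]; simp [et]
        _ = b * (t * b⁻¹ * t) * t := by rw [i]
        _ = b * t * b⁻¹ * (t * t) := by group
        _ = _ := by rw [cx.tt, mul_one]
    have c1 : b⁻¹ * y * t = t * (b⁻¹ * y) := by
      calc b⁻¹ * y * t = b⁻¹ * ((y : G) * t * (y : G)⁻¹) * y := by group
        _ = _ := by rw [e1]; group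
    have bF : b⁻¹ * y ∈ F := F.mul_mem (F.inv_mem (h.lt.le (RT hb))) hy.1
    have cz : b⁻¹ * y * φ z = φ z * (b⁻¹ * y) := by
      rw [mul_assoc, ← hy.2 _ zR, ← mul_assoc, ← mul_assoc,
        tf.ab _ (T.inv_mem (RT hb)) _ (RT zR)]
    obtain ⟨α, hα⟩ := cx.aut c1
    obtain ⟨a, ha⟩ := jf.inn α
    obtain ⟨o, ho, e2 | e2⟩ := cx.split' c1 hα ha
    · have oF : o ∈ F := by
        rw [e2] at bF
        exact (F.mul_mem_cancel_left (h.AF ⟨a, rfl⟩)).1 bF
      have az : a ∈ Cz z := by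
        refine mem_Cz.2 (cx.inj ?_)
        rw [e2, mul_assoc, ← cx.oA ho, ← mul_assoc, ← mul_assoc] at cz
        rw [map_mul, map_mul]
        exact mul_right_cancel cz
      have pb : π ⟨b, TY (RT hb)⟩ = 1 := (qx.ker _).2 hb
      have pz : π ⟨φ z, TY (RT zR)⟩ = 1 := (qx.ker _).2 zR
      have ey : (y : G) = b * (φ a * o) := by rw [← e2]; group
      rcases jf.cz a az with m | m
      · refine ⟨π ⟨_, LY a m⟩, ⟨_, ⟨a, m, rfl⟩, rfl⟩, π ⟨o, OY ⟨ho, oF⟩⟩, ⟨_, ⟨ho, oF⟩, rfl⟩, ?_⟩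
        rw [← one_mul (_ * _), ← pb, ← map_mul, ← map_mul]
        exact congrArg π (Subtype.ext ey)
      · refine ⟨π ⟨_, LY _ m⟩, ⟨_, ⟨_, m, rfl⟩, rfl⟩, π ⟨o, OY ⟨ho, oF⟩⟩, ⟨_, ⟨ho, oF⟩, rfl⟩, ?_⟩
        rw [← one_mul (_ * _), ← pb, ← mul_one (π y), ← pz, ← map_mul, ← map_mul, ← map_mul]
        refine congrArg π (Subtype.ext ?_)
        change (y : G) * φ z = b * (φ (a * z) * o)
        rw [ey, map_mul, mul_assoc, mul_assoc, mul_assoc, cx.oA ho]
    · exfalso
      have m : t * o ∈ F := by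
        rw [e2, mul_assoc] at bF
        exact (F.mul_mem_cancel_left (h.AF ⟨a, rfl⟩)).1 bF
      obtain ⟨k, hk⟩ := cx.odd_ord ho
      have cm : Commute t o := (cx.Ot o ho).symm
      have := F.pow_mem m (orderOf o)
      rw [cm.mul_pow, pow_orderOf_eq_one, mul_one, hk, pow_succ, pow_mul, sq, cx.tt, one_pow,
        one_mul] at this
      exact h.lt.tF this
  have tT : π yt ∉ im π T := fun m => tf.tT (et ▸ of_im qx.ker RT m)
  have Ot : ∀ o ∈ im π (O ⊓ F), o * π yt = π yt * o := by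
    rintro _ ⟨y, hy, rfl⟩
    exact com _ _ (by rw [et]; exact cx.Ot _ hy.1)
  have tt : π yt * π yt = 1 := by
    rw [← map_mul, ← map_one π]
    exact congrArg π (Subtype.ext (by simp [et, cx.tt]))
  have rU : ρ ∈ N[V ⊓ L] :=
    H4.le_normalizer_inf (B := zpowers ρ) (zpowers_le.2 jf.rN)
      ((zpowers_le.2 jf.rL).trans le_normalizer) (mem_zpowers ρ)
  refine ⟨⟨tt, fun e => tT (e ▸ one_mem _), ?_, ?_, Ot, ?_, ?_, fun c hc => ?_,
    map_mono (comap_mono (map_mono inf_le_right)), ?_, ⟨yr, ⟨ρ, jf.rL, er.symm⟩, rfl⟩, ?_,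
    nrm_im (er ▸ le_normalizer_map φ ⟨ρ, rU, rfl⟩)⟩,
    ⟨tf.two.comap_subtype.map π, map_mono (comap_mono ((map_mono inf_le_left).trans tf.VT)),
      nrm_im (by rw [et]; exact tf.tN), nrm_im (by rw [er]; exact tf.rN), tT⟩, ?_⟩
  · obtain ⟨e1⟩ := iso L le_rfl
    obtain ⟨e2⟩ := jf.iso
    exact ⟨e1.symm.trans e2⟩
  · rintro _ ⟨y, ⟨l, -, e⟩, rfl⟩
    refine com _ _ ?_
    change φ l = (y : G) at e
    rw [et, ← e]
    exact cx.AC l
  · refine cx.odd.of_dvd_nat ((card_map_dvd _ π).trans ?_)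
    rw [Nat.card_congr (subgroupOfEquivOfLe OY).toEquiv]
    exact card_dvd_of_le inf_le_left
  · rintro _ ⟨y, hy, rfl⟩ _ ⟨y', ⟨l, -, e⟩, rfl⟩
    refine com _ _ ?_
    change φ l = (y' : G) at e
    rw [← e]
    exact cx.oA hy.1 l
  · obtain ⟨y, rfl⟩ := qx.surj c
    rcases mem_sup_t cx.tt tH y.2 with m | m
    · obtain ⟨l, hl, o, ho, e⟩ := key y m hc
      exact ⟨l, hl, o, ho, Or.inl e⟩
    · obtain ⟨l, hl, o, ho, e⟩ := key (y * yt) (by simpa [et] using m)
        (by rw [map_mul, mul_assoc, ← mul_assoc (π yt), ← hc, mul_assoc])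
      refine ⟨l, hl, o, ho, Or.inr ?_⟩
      rw [mul_assoc, ← Ot o ho, ← mul_assoc, ← e, map_mul, mul_assoc, tt, mul_one]
  · obtain ⟨e1⟩ := iso (V ⊓ L) inf_le_right
    rw [← Nat.card_congr e1.toEquiv, jf.cU]
  · have : π yr = f ⟨ρ, jf.rL⟩ := congrArg π (Subtype.ext er)
    rw [this, orderOf_injective f fi, ← orderOf_injective L.subtype L.subtype_injective]
    exact jf.ro
  · obtain ⟨a, ha, -, -, a1, -⟩ := exU jf
    obtain ⟨x, hx, e⟩ := h.ls.sq (φ a) ⟨a, ha.1, rfl⟩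
    have e2 : π ⟨x, TY hx⟩ ^ 2 = f ⟨a, ha.2⟩ := by
      rw [sq, ← map_mul]
      exact congrArg π (Subtype.ext e)
    refine ⟨π ⟨x, TY hx⟩, ⟨_, hx, rfl⟩, orderOf_eq_prime_pow (p := 2) (n := 1) ?_ ?_⟩
    · rw [pow_one, e2, map_eq_one_iff _ fi]
      exact fun k => a1 (congrArg Subtype.val k)
    · rw [show 2 ^ (1 + 1) = 2 * 2 from rfl, pow_mul, e2, sq, ← map_mul, map_eq_one_iff _ fi]
      exact Subtype.ext (jf.el a ha.1)

end Cfsg.Agent.H85.S94N
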