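import Mathlib
import Cfsg.Agent.H46.UDefs
import Cfsg.Agent.H26.SLBasic

/-! A subgroup of `PGL₃(4)` over a Sylow 2-subgroup with `O₂ = 1` contains `L₃(4)`. -/

set_option autoImplicit false

namespace Cfsg.Agent.H85.S94Lp

open Subgroup Matrix Cfsg.Agent.H46.S94
open scoped commutatorElement

variable {F : Type} [Field F]

/-- Upper unitriangular matrices. -/
def uu (a b c : F) : SpecialLinearGroup (Fin 3) F :=
  ⟨!![1, a, b; 0, 1, c; 0, 0, 1], by simp [det_fin_three]⟩

/-- Elations with centre the last basis vector. -/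
def ll (c d : F) : SpecialLinearGroup (Fin 3) F :=
  ⟨!![1, 0, 0; 0, 1, 0; c, d, 1], by simp [det_fin_three]⟩

/-- The same in the general linear group. -/
def ug (a b c : F) : GL (Fin 3) F := SpecialLinearGroup.toGL (uu a b c)

theorem ug_val (a b c : F) :
    (ug a b c : Matrix (Fin 3) (Fin 3) F) = !![1, a, b; 0, 1, c; 0, 0, 1] := rfl

theorem ug_mul (a b c a' b' c' : F) :
    ug a b c * ug a' b' c' = ug (a + a') (b' + a * c' + b) (c + c') := by
  apply Units.ext
  rw [Units.val_mul, ug_val, ug_val, ug_val]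
  ext i j
  fin_cases i <;> fin_cases j <;> simp [mul_apply, Fin.sum_univ_three] <;> ring

theorem ug_zero : ug (0 : F) 0 0 = 1 := by
  apply Units.ext
  rw [ug_val]
  ext i j
  fin_cases i <;> fin_cases j <;> simp

theorem ug_inv (a b c : F) : (ug a b c)⁻¹ = ug (-a) (a * c - b) (-c) := by
  rw [inv_eq_iff_mul_eq_one, ug_mul, ← ug_zero]
  congr 1 <;> ring

/-- The unitriangular group. -/
def UU (F : Type) [Field F] : Subgroup (GL (Fin 3) F) where
  carrier := Set.range fun p : F × F × F => ug p.1 p.2.1 p.2.2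
  one_mem' := ⟨(0, 0, 0), ug_zero⟩
  mul_mem' := by
    rintro _ _ ⟨p, rfl⟩ ⟨q, rfl⟩
    exact ⟨(_, _, _), (ug_mul ..).symm⟩
  inv_mem' := by
    rintro _ ⟨p, rfl⟩
    exact ⟨(_, _, _), (ug_inv ..).symm⟩

/-- The elations with centre the first basis vector. -/
def Q1 (F : Type) [Field F] : Subgroup (GL (Fin 3) F) where
  carrier := {g | ∃ a b, g = ug a b 0}
  one_mem' := ⟨0, 0, ug_zero.symm⟩
  mul_mem' := by
    rintro _ _ ⟨a, b, rfl⟩ ⟨a', b', rfl⟩
    exact ⟨_, _, by rw [ug_mul, add_zero (0 : F)]⟩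
  inv_mem' := by
    rintro _ ⟨a, b, rfl⟩
    exact ⟨_, _, by rw [ug_inv, neg_zero]⟩

/-- The elations with axis the first two basis vectors. -/
def Q2 (F : Type) [Field F] : Subgroup (GL (Fin 3) F) where
  carrier := {g | ∃ b c, g = ug 0 b c}
  one_mem' := ⟨0, 0, ug_zero.symm⟩
  mul_mem' := by
    rintro _ _ ⟨a, b, rfl⟩ ⟨a', b', rfl⟩
    exact ⟨_, _, by rw [ug_mul, add_zero (0 : F)]⟩
  inv_mem' := by
    rintro _ ⟨a, b, rfl⟩
    exact ⟨_, _, by rw [ug_inv, neg_zero]⟩

theorem card_UU [Fintype F] (hF : Fintype.card F = 4) : Nat.card (UU F) = 2 ^ 6 := by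
  have hi : Function.Injective fun p : F × F × F => ug p.1 p.2.1 p.2.2 := fun p q e => by
    have e' := congrArg Units.val e
    simp only [ug_val] at e'
    have h1 := congrFun (congrFun e' 0) 1
    have h2 := congrFun (congrFun e' 0) 2
    have h3 := congrFun (congrFun e' 1) 2
    simp at h1 h2 h3
    exact Prod.ext h1 (Prod.ext h2 h3)
  have := Nat.card_range_of_injective hi
  rw [Nat.card_prod, Nat.card_prod, Nat.card_eq_fintype_card (α := F), hF] at this
  exact this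

theorem nQ1 [Fintype F] {H : Subgroup (GL (Fin 3) F)}
    (h : ∀ g ∈ H, (g : Matrix (Fin 3) (Fin 3) F) 1 0 = 0 ∧ (g : Matrix (Fin 3) (Fin 3) F) 2 0 = 0) :
    H ≤ normalizer (Q1 F : Set (GL (Fin 3) F)) := fun g hg => mem_normalizer_fintype (by
  rintro _ ⟨a, b, rfl⟩
  obtain ⟨h1, h2⟩ := h g hg
  obtain ⟨h3, h4⟩ := h _ (inv_mem hg)
  have hk := g.mul_inv
  refine ⟨g.1 0 0 * (a * (g⁻¹).1 1 1 + b * (g⁻¹).1 2 1),
    g.1 0 0 * (a * (g⁻¹).1 1 2 + b * (g⁻¹).1 2 2), Units.ext ?_⟩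
  rw [Units.val_mul, Units.val_mul, ug_val, ug_val]
  generalize (g⁻¹).1 = k at *
  generalize g.1 = m at *
  ext i j
  have := congrFun (congrFun hk i) j
  fin_cases i <;> fin_cases j <;>
    simp [mul_apply, Fin.sum_univ_three, h1, h2, h3, h4, -mul_eq_zero] at this ⊢ <;>
    linear_combination this)

theorem nQ2 [Fintype F] {H : Subgroup (GL (Fin 3) F)}
    (h : ∀ g ∈ H, (g : Matrix (Fin 3) (Fin 3) F) 2 0 = 0 ∧ (g : Matrix (Fin 3) (Fin 3) F) 2 1 = 0) :
    H ≤ normalizer (Q2 F : Set (GL (Fin 3) F)) := fun g hg => mem_normalizer_fintype (by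
  rintro _ ⟨b, c, rfl⟩
  obtain ⟨h1, h2⟩ := h g hg
  obtain ⟨h3, h4⟩ := h _ (inv_mem hg)
  have hk := g.mul_inv
  refine ⟨(g.1 0 0 * b + g.1 0 1 * c) * (g⁻¹).1 2 2,
    (g.1 1 0 * b + g.1 1 1 * c) * (g⁻¹).1 2 2, Units.ext ?_⟩
  rw [Units.val_mul, Units.val_mul, ug_val, ug_val]
  generalize (g⁻¹).1 = k at *
  generalize g.1 = m at *
  ext i j
  have := congrFun (congrFun hk i) j
  fin_cases i <;> fin_cases j <;>
    simp [mul_apply, Fin.sum_univ_three, h1, h2, h3, h4, -mul_eq_zero] at this ⊢ <;>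
    linear_combination this)

theorem ll_mem {H : Subgroup (GL (Fin 3) F)} (hU : UU F ≤ H) {g : GL (Fin 3) F} (hg : g ∈ H)
    (h0 : (g : Matrix (Fin 3) (Fin 3) F) 2 0 ≠ 0) (c d : F) :
    SpecialLinearGroup.toGL (ll c d) ∈ H := by
  set k := ug 0 (-g.1 0 0 / g.1 2 0) (-g.1 1 0 / g.1 2 0) * g with hk
  have kH : k ∈ H := mul_mem (hU ⟨(_, _, _), rfl⟩) hg
  have k0 : k.1 0 0 = 0 := by
    rw [hk, Units.val_mul, ug_val]; simp [mul_apply, Fin.sum_univ_three]; field_simp; ring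
  have k1 : k.1 1 0 = 0 := by
    rw [hk, Units.val_mul, ug_val]; simp [mul_apply, Fin.sum_univ_three]; field_simp; ring
  have k2 : k.1 2 0 ≠ 0 := by
    rw [hk, Units.val_mul, ug_val]; simpa [mul_apply, Fin.sum_univ_three] using h0
  have e : SpecialLinearGroup.toGL (ll c d) * k =
      k * ug ((c * k.1 0 1 + d * k.1 1 1) / k.1 2 0) ((c * k.1 0 2 + d * k.1 1 2) / k.1 2 0) 0 := by
    apply Units.ext
    rw [Units.val_mul, Units.val_mul k, ug_val,
      show (SpecialLinearGroup.toGL (ll c d)).1 = !![1, 0, 0; 0, 1, 0; c, d, 1] from rfl]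
    generalize k.1 = m at *
    ext i j
    fin_cases i <;> fin_cases j <;> simp [mul_apply, Fin.sum_univ_three, k0, k1] <;>
      field_simp <;> ring
  rw [eq_mul_inv_of_mul_eq e]
  exact mul_mem (mul_mem kH (hU ⟨(_, _, _), rfl⟩)) (inv_mem kH)

theorem core [Fintype F] {H : Subgroup (GL (Fin 3) F)} (hU : UU F ≤ H)
    (h1 : ¬ H ≤ normalizer (Q1 F : Set (GL (Fin 3) F)))
    (h2 : ¬ H ≤ normalizer (Q2 F : Set (GL (Fin 3) F))) (s : SpecialLinearGroup (Fin 3) F) :
    SpecialLinearGroup.toGL s ∈ H := by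
  obtain ⟨g, hg, h0⟩ : ∃ g ∈ H, (g : Matrix (Fin 3) (Fin 3) F) 2 0 ≠ 0 := by
    by_contra hc
    push Not at hc
    refine h1 (nQ1 fun g hg => ⟨by_contra fun hg1 => h2 (nQ2 fun k hk => ⟨hc k hk, ?_⟩), hc g hg⟩)
    have := hc _ (mul_mem hk hg)
    rw [Units.val_mul, mul_apply, Fin.sum_univ_three, hc k hk, hc g hg, zero_mul, mul_zero,
      zero_add, add_zero] at this
    exact (mul_eq_zero.1 this).resolve_right hg1
  set K := H.comap (SpecialLinearGroup.toGL (n := Fin 3) (R := F)) with hK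
  have t1 : ∀ (a b c : F) {i j : Fin 3} (h : i ≠ j) (x : F),
      (1 + single i j x : Matrix (Fin 3) (Fin 3) F) = !![1, a, b; 0, 1, c; 0, 0, 1] →
        SpecialLinearGroup.transvection h x ∈ K := fun a b c i j h x e => by
    rw [show SpecialLinearGroup.transvection h x = uu a b c from Subtype.ext e]
    exact hU ⟨(a, b, c), rfl⟩
  have t2 : ∀ (c d : F) {i j : Fin 3} (h : i ≠ j) (x : F),
      (1 + single i j x : Matrix (Fin 3) (Fin 3) F) = !![1, 0, 0; 0, 1, 0; c, d, 1] →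
        SpecialLinearGroup.transvection h x ∈ K := fun c d i j h x e => by
    rw [show SpecialLinearGroup.transvection h x = ll c d from Subtype.ext e]
    exact ll_mem hU hg h0 c d
  have a12 : ∀ (h : (1 : Fin 3) ≠ 2) (x : F), SpecialLinearGroup.transvection h x ∈ K :=
    fun h x => t1 0 0 x h x (by ext i j; fin_cases i <;> fin_cases j <;> simp)
  have a20 : ∀ (h : (2 : Fin 3) ≠ 0) (x : F), SpecialLinearGroup.transvection h x ∈ K :=
    fun h x => t2 x 0 h x (by ext i j; fin_cases i <;> fin_cases j <;> simp)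
  have : K = ⊤ := H26.sl_eq_top_of_transvection_mem K fun i j h x => by
    fin_cases i <;> fin_cases j
    · exact (h rfl).elim
    · exact t1 x 0 0 h x (by ext i j; fin_cases i <;> fin_cases j <;> simp)
    · exact t1 0 x 0 h x (by ext i j; fin_cases i <;> fin_cases j <;> simp)
    · have := H26.commutator_transvection (F := F) (i := 1) (j := 0) (k := (2 : Fin 3)) h
        (by decide) (by decide) x 1
      rw [mul_one] at this
      refine this ▸ ?_
      rw [commutatorElement_def]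
      exact mul_mem (mul_mem (mul_mem (a12 _ _) (a20 _ _)) (inv_mem (a12 _ _))) (inv_mem (a20 _ _))
    · exact (h rfl).elim
    · exact a12 h x
    · exact a20 h x
    · exact t2 0 x h x (by ext i j; fin_cases i <;> fin_cases j <;> simp)
    · exact (h rfl).elim
  exact (this ▸ mem_top s : s ∈ K)

theorem not_center : ug (0 : F) 1 0 ∉ center (GL (Fin 3) F) := fun h => by
  have := congrArg Units.val (mem_center_iff.1 h (SpecialLinearGroup.toGL (ll 1 0)))
  rw [Units.val_mul, Units.val_mul, ug_val,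
    show (SpecialLinearGroup.toGL (ll (1 : F) 0)).1 = !![1, 0, 0; 0, 1, 0; 1, 0, 1] from rfl] at this
  have := congrFun (congrFun this 0) 0
  simp [mul_apply, Fin.sum_univ_three] at this

/-- **LP** -/
theorem lp : LPStmt := by
  intro F _ _ hF Y h64 hO
  classical
  have : Fact (Nat.Prime 2) := ⟨Nat.prime_two⟩
  set π := QuotientGroup.mk' (center (GL (Fin 3) F)) with hπ
  have hs : Function.Surjective π := QuotientGroup.mk'_surjective _
  have cG : Nat.card (GL (Fin 3) F) = 181440 := by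
    rw [card_GL_field, hF]; decide
  have syl : ∀ S : Subgroup (GL (Fin 3) F), Nat.card S = 2 ^ 6 →
      ∃ P : Sylow 2 (GL (Fin 3) F), (P : Subgroup _) = S := fun S hS => by
    have := S.card_mul_index
    rw [hS, cG] at this
    exact ⟨(IsPGroup.of_card hS).toSylow (by omega), rfl⟩
  obtain ⟨S, hS⟩ := Sylow.exists_subgroup_card_pow_prime (G := Y.comap π) 2 (n := 6)
    (h64.trans (by
      nth_rewrite 1 [← map_comap_eq_self_of_surjective hs Y]
      exact card_map_dvd _ _))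
  obtain ⟨P, hP⟩ := syl (S.map (Y.comap π).subtype) (by
    rw [card_map_of_injective (subtype_injective _), hS])
  obtain ⟨R, hR⟩ := syl _ (card_UU hF)
  obtain ⟨g, hg⟩ := MulAction.exists_smul_eq (GL (Fin 3) F) R P
  set φ : GL (Fin 3) F →* PG3 F := π.comp (MulAut.conj g).toMonoidHom with hφ
  have fs : Function.Surjective φ := hs.comp (MulAut.conj g).surjective
  have hU : UU F ≤ Y.comap φ := fun u hu => by
    have : g * u * g⁻¹ ∈ (P : Subgroup (GL (Fin 3) F)) := by
      rw [← hg]; exact smul_mem_pointwise_smul _ _ _ (hR.ge hu)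
    rw [hP] at this
    exact map_subtype_le S this
  have key : ∀ Q : Subgroup (GL (Fin 3) F), Q ≤ UU F → ug 0 1 0 ∈ Q →
      ¬ Y.comap φ ≤ normalizer (Q : Set (GL (Fin 3) F)) := fun Q h1 h2 h3 => by
    have h4 := hO (Q.map φ) (map_le_iff_le_comap.2 (h1.trans hU))
      (((IsPGroup.of_card (card_UU hF)).to_le h1).map φ) (by
        nth_rewrite 1 [← map_comap_eq_self_of_surjective fs Y]
        exact (map_mono h3).trans (le_normalizer_map φ))
    have h5 : φ (ug 0 1 0) = 1 := mem_bot.1 (h4 ▸ mem_map_of_mem φ h2)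
    have h6 : g * ug 0 1 0 * g⁻¹ ∈ center (GL (Fin 3) F) := (QuotientGroup.eq_one_iff _).1 h5
    have h7 := (normal_of_characteristic (center (GL (Fin 3) F))).conj_mem _ h6 g⁻¹
    rw [show g⁻¹ * (g * ug 0 1 0 * g⁻¹) * g⁻¹⁻¹ = ug 0 1 0 by group] at h7
    exact not_center h7
  rintro _ ⟨s, rfl⟩
  have := core hU (key _ (by rintro _ ⟨a, b, rfl⟩; exact ⟨(a, b, 0), rfl⟩) ⟨0, 1, rfl⟩)
    (key _ (by rintro _ ⟨a, b, rfl⟩; exact ⟨(0, a, b), rfl⟩) ⟨1, 0, rfl⟩)
    ⟨(g⁻¹).1 * s.1 * g.1, by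
      rw [det_mul, det_mul, s.2, mul_one, ← det_mul, g.inv_mul, det_one]⟩
  have e : g * SpecialLinearGroup.toGL (⟨(g⁻¹).1 * s.1 * g.1, by
      rw [det_mul, det_mul, s.2, mul_one, ← det_mul, g.inv_mul, det_one]⟩ :
      SpecialLinearGroup (Fin 3) F) * g⁻¹ = SpecialLinearGroup.toGL s := by
    rw [show SpecialLinearGroup.toGL (⟨(g⁻¹).1 * s.1 * g.1, _⟩ : SpecialLinearGroup (Fin 3) F) =
      g⁻¹ * SpecialLinearGroup.toGL s * g from Units.ext rfl]
    group
  show π (SpecialLinearGroup.toGL s) ∈ Y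
  rw [← e]
  exact this

end Cfsg.Agent.H85.S94Lp
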