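import Cfsg.Agent.H85.FPY
import Cfsg.Agent.H85.FPPa
import Cfsg.Agent.H39.FPB
import Cfsg.Agent.H18.OCRows

/-! The induction for coprime operator groups. -/

set_option autoImplicit false

namespace Cfsg.Agent.FPK

open Subgroup Cfsg Cfsg.Agent.H83 Cfsg.Agent.H85.FP Cfsg.Agent.H53.OpK
open Cfsg.Agent.H53.OC (factTwo)
open Cfsg.Agent.H53.FM (hyp_op)
open Cfsg.Agent.H7.FB SemidirectProduct

universe u v

section Kit

variable {Γ : Type u} [Group Γ] {G A K L N : Subgroup Γ}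

theorem hyp_of_op (h : Op A G) (hc : (Nat.card A).Coprime (Nat.card G)) : Hyp G A :=
  ⟨hc, h.norm, fun x hx t ht h1 h2 => (h.dec t ht x hx h2 h1).symm⟩

variable [Finite Γ]

theorem hyp_sub (h : Hyp G A) (hK : K ≤ G) (hn : A ≤ normalizer (K : Set Γ)) : Hyp K A :=
  hyp_of_op ((hyp_op h).sub hK hn) (h.cop.coprime_dvd_right (card_dvd_of_le hK))

theorem hyp_quo (h : Hyp G A) (hG : G ≤ normalizer (N : Set Γ)) (hA : A ≤ normalizer (N : Set Γ))
    (hs : Group.IsSolvable N) : Hyp (H63.quo G N) (H63.quo A N) :=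
  hyp_of_op ((hyp_op h).quo hG hA (H4.isSolvable_of_le inf_le_right hs)) (H63.coprime_quo N h.cop)

theorem hyp_min (h : Hyp G A) (hL : H63.MinNormal L G) (hLG : L ≤ G)
    (hZ : L ⊓ centralizer (L : Set Γ) = ⊥) : Hyp L (A ⊓ normalizer (L : Set Γ)) := by
  refine hyp_of_op ((hyp_op h).comp' hLG inf_le_left inf_le_right (fun a ha hn => ?_) hZ)
    ((h.cop.coprime_dvd_right (card_dvd_of_le hLG)).coprime_dvd_left (card_dvd_of_le inf_le_left))
  have h1 : G ≤ normalizer (cj a L : Set Γ) := by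
    rw [← cj_normalizer, ← cj_eq_self (h.AG ha)]
    exact cj_mono a hL.norm
  have h2 : L ⊓ cj a L = ⊥ := hL.inf_eq_bot h1 fun hle => hn ⟨ha, cj_eq_self_iff.1
    (eq_of_le_of_card_ge hle (card_cj a L).le).symm⟩
  rw [← comm_eq_bot_iff, eq_bot_iff, ← h2]
  exact le_inf (comm_le_right ((cj_le_of_norm hLG (h.AG ha)).trans hL.norm))
    (comm_le_left (hLG.trans h1))

end Kit

theorem main (ns : NSStmt.{u}) (hl : LocStmt.{u}) (he : EndStmt.{u}) : MainStmt.{u} := by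
  suffices H : ∀ (n : ℕ) (Γ : Type u) [Group Γ] [Finite Γ] (G A : Subgroup Γ),
      Nat.card G = n → Hyp G A → Group.IsSolvable G from fun Γ _ _ G A => H _ Γ G A rfl
  intro n
  induction n using Nat.strong_induction_on with | _ n ih =>
  intro Γ _ _ G A hn h
  subst hn
  have hlt : ∀ {X Y : Subgroup Γ}, X < Y → Nat.card X < Nat.card Y := fun hXY =>
    lt_of_le_of_ne (card_le_of_le hXY.le) fun e => hXY.ne (eq_of_le_of_card_ge hXY.le e.ge)
  by_cases ho : Odd (Nat.card G)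
  · exact S0205.result ho
  have h2 : 2 ∣ Nat.card G := even_iff_two_dvd.1 (Nat.not_odd_iff_even.1 ho)
  have hA : Odd (Nat.card A) := odd_iff_cop.2 (h.cop.coprime_dvd_right h2)
  have hN : ∀ N ≤ G, N ≠ ⊥ → G ≤ normalizer (N : Set Γ) → A ≤ normalizer (N : Set Γ) →
      Group.IsSolvable N → Group.IsSolvable G := fun N hN h0 h1 h2 h3 =>
    H63.isSolvable_of_quo h1 (H4.isSolvable_of_le inf_le_left h3)
      (ih _ (H63.card_quo_lt ⟨hN, h1⟩ h0) _ _ _ rfl (hyp_quo h h1 h2 h3))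
  by_cases hG : G = ⊥
  · subst hG
    infer_instance
  obtain ⟨L, hL, hLG⟩ := H63.exists_minNormal hG le_normalizer
  suffices hs : Group.IsSolvable L by
    obtain ⟨p, hp, hE⟩ := H63.minnormal_solvable_abelem hL hs
    exact hN (pCoreOf p G) (pCoreOf_le G)
      (fun e => hL.ne_bot (eq_bot_iff.2 (e ▸ le_pCoreOf hLG hL.norm (EA_isPGroup hE))))
      (le_norm_pCoreOf G) (norm_pCoreOf h.AG) (H67.isSolvable_of_isPGroup hp (pCoreOf_isPGroup G))
  rcases hL.eq_bot_or_eq inf_le_left (norm_ctr hL.norm) with hZ | hZ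
  swap
  · exact H67.isSolvable_of_isMulCommutative
      ⟨⟨fun a b => Subtype.ext ((inf_eq_left.1 hZ) b.2 a a.2)⟩⟩
  rcases hLG.lt_or_eq with hlt' | rfl
  · exact ih _ (hlt hlt') Γ L _ rfl (hyp_min h hL hLG hZ)
  obtain ⟨P, hP⟩ := H4.exists_invariant_sylow h.AG h.cop (Or.inl (S0205.result hA)) 2
  have hS := isSylowIn_map P
  generalize (P : Subgroup L).map L.subtype = S at hP hS
  have sol : ∀ U : Subgroup Γ, U ≤ S → U ≠ ⊥ → A ≤ normalizer (U : Set Γ) →
      Group.IsSolvable ↥(L ⊓ normalizer (U : Set Γ)) := fun U hU h0 hn => by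
    rcases (inf_le_left : L ⊓ normalizer (U : Set Γ) ≤ L).lt_or_eq with h2 | h2
    · exact ih _ (hlt h2) Γ _ A rfl (hyp_sub h inf_le_left (le_norm_inf h.AG (le_norm_norm hn)))
    · rw [h2]
      exact hN U (hU.trans hS.le) h0 (inf_eq_left.1 h2) hn
        (H67.isSolvable_of_isPGroup Nat.prime_two (hS.isPGroup.to_le hU))
  have nsm : ∀ R : Subgroup Γ, R ≤ S → IsElementaryAbelian 2 R → A ≤ normalizer (R : Set Γ) →
      ∀ b ∈ L, Small R b → Rad (L ⊓ normalizer (R : Set Γ)) R b := fun R h1 h3 h4 b hb hs => by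
    by_cases h0 : R = ⊥
    · exact ⟨_, mem_inf.2 ⟨hb, hs.nrm⟩, le_rfl, le_normalizer, PMod.of_le fun x _ y hy => by
        rw [h0] at hy; rw [mem_bot.1 hy, one_mul, mul_one]⟩
    · exact ns Γ _ A R (hyp_sub h inf_le_left (le_norm_inf h.AG (le_norm_norm h4))) (sol R h1 h0 h4)
        (le_inf (h1.trans hS.le) le_normalizer) h3 inf_le_right h4 b ⟨hb, hs.nrm⟩ hs
  obtain ⟨Y, hY⟩ := yAll Γ L A S ⟨h.AG, hS, hP, fun U a b _ c => sol U a b c,
    fun R a b _ c => nsm R a b c⟩ (hS.ne_bot h2)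
  rcases hl Γ L A S Y hA h.AG hS hP hY with h3 | ⟨E, U, u, x, t, h3⟩ | ⟨T, T₀, E, U, I, h3⟩
  · exact he Γ L A S Y h (H18.OC.simple_of_min hL) hS hP hY.le hY.ne hY.ea h3
  · exact (finA Γ L A S E U u x t ⟨hA, h.AG, hP, sol, nsm⟩ h3).elim
  · exact (H39.FPB.finB Γ L A S T T₀ E U I ⟨hA, h.AG, hP, sol, nsm⟩ h3).elim

/-- The theorem for a group of automorphisms. -/
theorem solv_aut (h : MainStmt.{u}) {G : Type u} [Group G] [Finite G] (A : Subgroup (MulAut G))
    (C : Subgroup G) (hC : ∀ g, g ∈ C ↔ ∀ φ ∈ A, φ g = g) (hc : (Nat.card A).Coprime (Nat.card G))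
    (hd : Dec C) : Group.IsSolvable G := by
  have := finite_Hl (V := G)
  refine H18.OC.hol_solv (h _ _ (A.map inr) ⟨?_, map_inr_le_normalizer A, ?_⟩)
  · rwa [card_map_of_injective inr_injective, H18.OC.hol_card]
  · intro x hx t ht h1 h2
    rw [H18.OC.hol_fix hC] at hx ht
    exact (hd.map inl t ht x hx h2 h1).symm

theorem s4319 (hm : MainStmt.{v}) {A : Type u} {G : Type v} [Group A] [Finite A]
    [Group G] [Finite G] [MulDistribMulAction A G] (hcop : (Nat.card G).Coprime (Nat.card A))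
    (h : Group.IsNilpotent ↥(FixedPoints.subgroup A G) ∨ Odd (Nat.card ↥(FixedPoints.subgroup A G))) :
    Group.IsSolvable G := by
  refine solv_aut hm (MulDistribMulAction.toMulAut A G).range (FixedPoints.subgroup A G)
    (fun g => ⟨?_, fun hg a => hg _ ⟨a, rfl⟩⟩)
    (hcop.symm.coprime_dvd_left (card_range_dvd _)) (h.elim dec_of_nilpotent dec_of_odd)
  rintro hg _ ⟨a, rfl⟩
  exact hg a

theorem s3039 (hm : MainStmt.{u}) {G : Type u} [Group G] [Finite G] (α : MulAut G)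
    (hcop : (orderOf α).Coprime (Nat.card G)) (hfpf : ∀ g : G, α g = g → g = 1) :
    Group.IsSolvable G :=
  solv_aut hm (zpowers α) ⊥ (fun g => ⟨fun hg φ _ => by rw [mem_bot.1 hg, map_one],
    fun hg => hfpf g (hg α (mem_zpowers α))⟩) (by rwa [Nat.card_zpowers]) dec_bot

end Cfsg.Agent.FPK
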