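import Cfsg.Agent.H85.FPMp
import Cfsg.Agent.H63.QuoCore
import Cfsg.Agent.H55.Basic
import Cfsg.Agent.H3.Char2

/-! The dihedral configuration and the subgroup `Y`. -/

set_option autoImplicit false

namespace Cfsg.Agent.FPK

open Subgroup Cfsg Cfsg.Agent.H83 Cfsg.Agent.H85.FP
open Cfsg.Agent.H53.OC (mem_cent_iff factTwo le_normalizer_of_cj)
open Cfsg.Agent.H63 (quo coset cosetpre)
open scoped commutatorElement

universe u

variable {Γ : Type u} [Group Γ] [Finite Γ] {G A S Y P O M B F D H J L : Subgroup Γ}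

theorem le_norm_iSup {ι : Sort*} {f : ι → Subgroup Γ} (h : ∀ i, H ≤ normalizer (f i : Set Γ)) :
    H ≤ normalizer ((⨆ i, f i : Subgroup Γ) : Set Γ) :=
  le_normalizer_of_cj fun _ hg => cj_le_iff.2 (iSup_le fun i =>
    cj_le_iff.1 ((cj_eq_self (h i hg)).le.trans (le_iSup f i)))

/-- An elementary abelian `2`-group acting on a group of odd order. -/
theorem dih_core (hF : Odd (Nat.card F)) (hB : IsElementaryAbelian 2 B)
    (hn : B ≤ normalizer (F : Set Γ)) (h : ¬ ⁅F, B⁆ ≤ M) :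
    ∃ B₀, H55.Hyp 2 B B₀ ∧ ∃ y ∈ F ⊓ centralizer (B₀ : Set Γ), y ∉ M ∧
      ∀ c ∈ B, c ∉ B₀ → c * y * c⁻¹ = y⁻¹ := by
  by_contra hc
  push Not at hc
  have cB := EA_le_cent hB
  set X := ⨆ B₀ : {B₀ // H55.Hyp 2 B B₀}, ⁅F ⊓ centralizer (B₀.1 : Set Γ), B⁆ with hX
  have n0 : ∀ B₀, H55.Hyp 2 B B₀ →
      B ≤ normalizer ((F ⊓ centralizer (B₀ : Set Γ) : Subgroup Γ) : Set Γ) := fun B₀ h0 =>
    le_norm_inf hn (le_norm_cent (le_norm_of_le_cent (cB.trans (cent_anti h0.1))))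
  have h1 : X ≤ M := iSup_le fun ⟨B₀, h0⟩ => commutator_le.2 fun x hx b hb => by
    by_cases hb0 : b ∈ B₀
    · rw [commutatorElement_eq_one_iff_mul_comm.2 (hx.2 b hb0).symm]; exact one_mem _
    by_contra hM
    have h2 := comm_le_left (n0 B₀ h0) (commutator_mem_commutator hx hb)
    obtain ⟨c, hc1, hc2, hc3⟩ := hc B₀ h0 _ h2 hM
    have h3 := mul_mem_of_card_le_two_mul h0.1 (by rw [h0.card]; omega) (B.inv_mem hb) hc1
      (fun h => hb0 (inv_mem_iff.1 h)) hc2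
    have h4 := h2.2 _ h3
    have h5 : b * b = 1 := by rw [← pow_two]; exact (isEA_iff.1 hB).2 b hb
    apply hc3
    calc _ = b * (b⁻¹ * c * ⁅x, b⁆) * (b⁻¹ * c)⁻¹ * b⁻¹ := by group
      _ = b * x * b * x⁻¹ * (b * b)⁻¹ := by rw [h4, commutatorElement_def]; group
      _ = b * x * b * (b * b)⁻¹ * x⁻¹ := by rw [h5]; group
      _ = _ := by rw [commutatorElement_def]; group
  have h2 : B ≤ normalizer (X : Set Γ) :=
    le_norm_iSup fun B₀ => le_norm_comm (n0 _ B₀.2) le_normalizer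
  have h3 : F ⊓ centralizer (B : Set Γ) ≤ normalizer (X : Set Γ) :=
    le_norm_iSup fun B₀ => le_norm_comm (le_norm_inf (inf_le_left.trans le_normalizer) (le_norm_cent
      (le_norm_of_le_cent (inf_le_right.trans (cent_anti B₀.2.1))))) (le_norm_of_le_cent inf_le_right)
  have h4 : F ≤ X ⊔ F ⊓ centralizer (B : Set Γ) := by
    refine H55.gen_hyp hB (fun h0 => h (by rw [h0]; simp)) hF.not_two_dvd_nat hn fun B₀ h0 => ?_
    rw [← H4.commutator_sup_centralizer (n0 B₀ h0) (H55.ea_coprime hB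
      (H55.not_dvd_card_of_le inf_le_left hF.not_two_dvd_nat)) (Or.inl (H55.ea_solvable hB))]
    exact sup_le_sup (le_iSup_of_le ⟨B₀, h0⟩ le_rfl) (inf_le_inf_right _ inf_le_left)
  refine h ((H4.commutator_le_of_mul_centralizer fun k hk => ?_).trans ((comm_le_left h2).trans h1))
  obtain ⟨n, hn, c, hc, rfl⟩ := (mem_sup_left_norm h3).1 (h4 hk)
  exact ⟨n, hn, c, hc.2, rfl⟩

theorem syl_sup_odd (hD : IsPGroup 2 D) (hO : Odd (Nat.card O)) (hn : D ≤ normalizer (O : Set Γ)) :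
    IsSylowIn 2 D (D ⊔ O) := by
  obtain ⟨T, hT, h1⟩ := exists_isSylowIn_ge (le_sup_left : D ≤ D ⊔ O) hD
  have h2 : T = D := by
    rw [← inf_eq_right.2 hT.le, dedekind hn h1]
    exact sup_eq_left.2 fun x hx => by
      rw [eq_one_of_mem_pgroup hT.isPGroup hx.2 (coprime_orderOf_of_mem (odd_iff_cop.1 hO) hx.1)]
      exact one_mem _
  rwa [h2] at hT

/-- Frattini argument modulo a subgroup of odd order. -/
theorem frattini_odd (hD : IsPGroup 2 D) (hO : Odd (Nat.card O)) (hn : D ≤ normalizer (O : Set Γ))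
    {g : Γ} (hg : g ∈ normalizer ((D ⊔ O : Subgroup Γ) : Set Γ)) :
    ∃ o ∈ O, o⁻¹ * g ∈ normalizer (D : Set Γ) := by
  obtain ⟨n, h1, a, h2, rfl⟩ := (syl_sup_odd hD hO hn).frattini hg
  obtain ⟨o, h3, d, h4, rfl⟩ := (mem_sup_right_norm' hn).1 h1
  exact ⟨o, h3, by rw [mul_assoc, inv_mul_cancel_left]; exact mul_mem (le_normalizer h4) h2⟩

theorem dih : DihStmt.{u} := by
  intro Γ _ _ G A S Y P O M J e hy h 𝓑 hB hJ JS SJ AJ hQ
  set Q := pCoreOf 2 P with hQ'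
  set K := resOf 2 P with hK
  have QS : Q ≤ S := mp_QS e h
  have SM := mp_SM e hy h
  have PQ : P ≤ normalizer (Q : Set Γ) := le_norm_pCoreOf P
  have PK : P ≤ normalizer (K : Set Γ) := le_norm_resOf P
  have KP : K ≤ P := resOf_le P
  have PW : P ≤ normalizer ((Q ⊔ O : Subgroup Γ) : Set Γ) := le_norm_sup PQ h.PO
  have WM : Q ⊔ O ≤ M := sup_le (QS.trans SM) (mp_OM h)
  have h1 : ¬ ⁅K, J⁆ ≤ M := fun hc => hQ ((le_inf JS le_sup_right).trans (mp_inf_le e h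
    (sup_le hc (JS.trans SM)) ((mp_syl e h).resOf_sup.ge.trans (sup_le
      (le_sup_left.trans (le_norm_comm_sup K J)) (le_norm_sup (le_norm_comm (h.SP.trans PK) SJ) SJ)))
    (le_norm_sup (le_norm_comm (norm_resOf h.AP) AJ) AJ)))
  obtain ⟨B, hB1, hB2⟩ : ∃ B ∈ 𝓑, ¬ ⁅K, B⁆ ≤ M := by
    by_contra hc
    push Not at hc
    have h2 : J ≤ normalizer (M : Set Γ) := le_norm_of_le (JS.trans SM)
    exact h1 (le_centMod.1 (hJ.ge.trans (sSup_le fun B hB' =>
      (le_centMod (hN := h2)).2 ⟨hJ ▸ le_sSup hB', hc B hB'⟩))).2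
  have BS : B ≤ S := (hJ ▸ le_sSup hB1 : B ≤ J).trans JS
  have BP := BS.trans h.SP
  have h2 : Odd (Nat.card (quo K (Q ⊔ O))) := by
    refine odd_iff_cop.2 (coprime_card_iff.2 fun x hx k hk => ?_)
    obtain ⟨z, hz, hz1, rfl⟩ := H63.mem_quo.1 hx
    obtain ⟨m, j, h3, h4⟩ := exists_coprime_pow_pelt (p := 2) z
    obtain ⟨g, hg, h5⟩ := ((mp_syl e h).inf_normal KP PK).exists_conj_le
      (zpowers_le.2 (pow_mem hz m)) (isPGroup_zpowers h4)
    have h6 : z ^ m ∈ Q := by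
      have := conj_mem' PQ (KP hg) (mp_res_inf e hy h (h5 (conj_mem_cj (mem_zpowers _))))
      rwa [show g⁻¹ * (g * z ^ m * g⁻¹) * g = z ^ m by group] at this
    exact mem_bot.1 (mem_of_pelt_of_pow_mem hk (by
      rw [← H63.coset_pow hz1, H63.coset_eq_one (mem_sup_left h6)]; exact one_mem _) h3)
  obtain ⟨C₀, h3, y', ⟨h4, h5⟩, h6, h7⟩ := dih_core (M := quo M (Q ⊔ O)) h2
    (H63.quo_isElementaryAbelian _ (hB B hB1)) (H63.quo_norms _ (BP.trans PK)) (by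
      rw [← H63.quo_commutator (KP.trans PW) (BP.trans PW), H63.quo_le_quo_iff_of_le
        ((comm_le_left (BP.trans PK)).trans (KP.trans PW)) WM]
      exact hB2)
  obtain ⟨z, hz, hz1, rfl⟩ := H63.mem_quo.1 h4
  set B₀ := cosetpre (Q ⊔ O) C₀ ⊓ B with hB₀
  have B₀P : B₀ ≤ P := inf_le_right.trans BP
  have h8 : B₀ ⊔ Q ⊔ O = cosetpre (Q ⊔ O) C₀ := by
    have : quo B₀ (Q ⊔ O) = C₀ := by
      rw [hB₀, inf_comm, H63.quo_inf_cosetpre, inf_eq_right.2 h3.1]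
    rw [← this, H63.quo_cosetpre (B₀P.trans PW), sup_assoc, sup_comm]
  have p1 : IsPGroup 2 ↥(B₀ ⊔ Q) := e.syl.isPGroup.to_le (sup_le (inf_le_right.trans BS) QS)
  have n1 : B₀ ⊔ Q ≤ normalizer (O : Set Γ) := (sup_le B₀P (pCoreOf_le P)).trans h.PO
  obtain ⟨o, ho, h9⟩ := frattini_odd p1 h.odd n1 (g := z) (by
    rw [h8]
    exact H63.le_norm_cosetpre (zpowers_le.2 hz1) (by
      rw [H63.quo_zpowers hz1]; exact zpowers_le.2 (le_norm_of_le_cent le_rfl h5)) (mem_zpowers z))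
  have zP : o⁻¹ * z ∈ P := mul_mem (inv_mem (h.OP ho)) (KP hz)
  obtain ⟨a, y, ha, hy', h10, ⟨k, hk⟩, h11⟩ := exists_p_parts (p := 2) (o⁻¹ * z)
  have yP : y ∈ P := zpowers_le.2 zP hy'
  have aP : a ∈ P := zpowers_le.2 zP ha
  have h12 : coset (Q ⊔ O) (o⁻¹ * z) = coset (Q ⊔ O) z := by
    rw [H63.coset_mul (PW (inv_mem (h.OP ho))) hz1, H63.coset_eq_one (inv_mem (mem_sup_right ho)),
      one_mul]
  have h13 : coset (Q ⊔ O) a = 1 := by
    refine eq_one_of_ppow (k := k) (by rw [← H63.coset_pow (PW aP), hk, H63.coset_one])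
      (coprime_orderOf_of_mem (odd_iff_cop.1 h2) ?_)
    have := H63.coset_mem_quo (PW aP) ha
    rw [H63.quo_zpowers (PW zP), h12] at this
    exact zpowers_le.2 h4 this
  have h14 : coset (Q ⊔ O) y = coset (Q ⊔ O) z := by
    rw [← h12, h10, H63.coset_mul (PW aP) (PW yP), h13, one_mul]
  have yN : y ∈ normalizer ((B₀ ⊔ Q : Subgroup Γ) : Set Γ) := zpowers_le.2 h9 hy'
  refine ⟨B, hB1, B₀, y, inf_le_right, le_inf (inf_le_right.trans (le_sup_left.trans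
    (H63.le_cosetpre C₀))) inf_le_left, ?_, yP, fun hc => h6 (h14 ▸ H63.coset_mem_quo (PW yP) hc),
    odd_iff_cop.2 h11, yN, fun c hc hc0 => ?_⟩
  · have := H63.relIndex_quo_eq (H63.le_cosetpre C₀) (BP.trans PW)
    rw [H63.cosetpre_quo, h3.2] at this
    rw [← H3.card_mul_relIndex (inf_le_right : B₀ ≤ B), hB₀, inf_relIndex_right, ← this, mul_comm]
  have cP := BP hc
  have h15 := h7 _ (H63.coset_mem_quo (PW cP) hc) fun h0 => hc0 ⟨H63.mem_cosetpre.2 ⟨PW cP, h0⟩, hc⟩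
  have h16 : c * c = 1 := by rw [← pow_two]; exact (isEA_iff.1 (hB B hB1)).2 c hc
  have h17 : coset (Q ⊔ O) c * coset (Q ⊔ O) c = 1 := by
    rw [← H63.coset_mul (PW cP) (PW cP), h16, H63.coset_one]
  obtain ⟨n, hn⟩ := odd_iff_cop.2 h11
  have gP : y * c * y⁻¹ * c ∈ P := mul_mem (conj_mem le_normalizer yP cP) cP
  have h18 : coset (Q ⊔ O) ((y * c * y⁻¹ * c) ^ (n + 1)) = coset (Q ⊔ O) y := by
    rw [H63.coset_pow (PW gP), H63.coset_mul (PW (conj_mem le_normalizer yP cP)) (PW cP),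
      H63.coset_conj (PW yP) (PW cP)]
    rw [← h14] at h15
    have h19 : coset (Q ⊔ O) y ^ (2 * n + 1) = 1 := by
      rw [← H63.coset_pow (PW yP), ← hn, pow_orderOf_eq_one, H63.coset_one]
    generalize coset (Q ⊔ O) y = a at h15 h19
    generalize coset (Q ⊔ O) c = b at h15 h17
    have h20 : a * b * a⁻¹ * b = a ^ 2 :=
      calc _ = a * (b * a * b⁻¹)⁻¹ * (b * b) := by group
        _ = _ := by rw [h15, h17, inv_inv, mul_one, pow_two]
    rw [h20, ← pow_mul, show 2 * (n + 1) = 2 * n + 1 + 1 by ring, pow_succ, h19, one_mul]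
  obtain ⟨m, hm, o', ho', h19⟩ := (mem_sup_right_norm ((pCoreOf_le P).trans h.PO)).1
    ((H63.coset_eq_iff (PW yP) (PW (pow_mem gP _))).1 h18.symm)
  have cN : c ∈ normalizer ((B₀ ⊔ Q : Subgroup Γ) : Set Γ) := le_norm_sup (le_norm_of_le_cent
    ((EA_le_cent (hB B hB1)).trans (cent_anti inf_le_right))) (BP.trans PQ) hc
  refine ⟨(y * c * y⁻¹ * c) ^ (n + 1),
    pow_mem (mul_mem (subset_closure (by simp)) (subset_closure (by simp))) (n + 1), m,
    mem_sup_right hm, o', ⟨ho', le_cent_of_coprime (B := O ⊓ normalizer _) p1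
      ((odd_iff_cop.1 h.odd).coprime_dvd_left (card_dvd_of_le inf_le_left))
      (le_norm_inf n1 (le_norm_norm le_normalizer)) inf_le_right ⟨ho', ?_⟩⟩,
    by rw [mul_assoc y m, h19, mul_inv_cancel_left]⟩
  rw [show o' = m⁻¹ * (m * o') by group, h19]
  have mN : m ∈ normalizer ((B₀ ⊔ Q : Subgroup Γ) : Set Γ) := le_normalizer (mem_sup_right hm)
  exact Subgroup.mul_mem _ (Subgroup.inv_mem _ mN) (Subgroup.mul_mem _ (Subgroup.inv_mem _ yN)
    (pow_mem (mul_mem (mul_mem (mul_mem yN cN) (inv_mem yN)) cN) _))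

theorem core_aux (hS : IsSylowIn 2 S P) (AS : A ≤ normalizer (S : Set Γ))
    (AP : A ≤ normalizer (P : Set Γ)) (OP : O ≤ P) (PO : P ≤ normalizer (O : Set Γ))
    (AO : A ≤ normalizer (O : Set Γ)) (OM : O ≤ M) (nn : ¬ P ≤ M)
    (min : ∀ K : Subgroup Γ, S ≤ K → K < P → A ≤ normalizer (K : Set Γ) → K ≤ M)
    (h1 : D ≤ S) (h2 : P ≤ normalizer ((D ⊔ O : Subgroup Γ) : Set Γ)) : D ≤ pCoreOf 2 P := by
  obtain ⟨L, l1, l2, l3, l4⟩ := exists_rad PO
  have PL : P ≤ normalizer (L : Set Γ) := fun g hg => l4 g (le_normalizer hg) (PO hg)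
  have l5 := hS.inf_normal l1 PL
  have l6 := l5.le_sup_of_pMod (l1.trans PO) l2
  have l7 := l5.frattini_sup l1 PL
  have l8 : S ≤ P ⊓ normalizer ((S ⊓ L : Subgroup Γ) : Set Γ) :=
    le_inf hS.le (le_norm_inf le_normalizer (hS.le.trans PL))
  have l9 : P ⊓ normalizer ((S ⊓ L : Subgroup Γ) : Set Γ) = P := by_contra fun hne => by
    have := min _ l8 (lt_of_le_of_ne inf_le_left hne) (le_norm_inf AP (le_norm_norm
      (le_norm_inf AS fun g hg => l4 g (AP hg) (AO hg))))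
    exact nn (l7.ge.trans (sup_le this (l6.trans (sup_le OM (inf_le_left.trans (l8.trans this))))))
  refine (le_inf h1 (le_sup_left.trans (l3 _ (sup_le (h1.trans hS.le) OP) h2 ?_))).trans
    (le_pCoreOf (inf_le_left.trans hS.le) (l9.ge.trans inf_le_right) l5.isPGroup)
  exact (PMod.of_isPGroup (hS.isPGroup.to_le h1) O).sup_self (h1.trans (hS.le.trans PO))

theorem yS (ya : YAStmt.{u}) (mp : MPStmt.{u}) : YStmt.{u} := by
  intro Γ _ _ G A S e h0
  obtain ⟨Y, hy⟩ := ya Γ G A S e h0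
  refine ⟨Y, hy.le, hy.ne, hy.ea, (inf_le_inf_left _
    (H51.normalizer_le_normalizer_thompsonSubgroupOf 2 S)).trans hy.nJ, fun U h1 h2 h3 h4 => ?_⟩
  have hs := e.sol U h1 h2 h3 h4
  have SH : S ≤ G ⊓ normalizer (U : Set Γ) := le_inf e.syl.le h3
  have AH := le_norm_inf e.AG (le_norm_norm h4)
  have HG : G ⊓ normalizer (U : Set Γ) ≤ G := inf_le_left
  generalize G ⊓ normalizer (U : Set Γ) = H at hs SH AH HG
  have o0 := H63.piCoreOf_quo_self {2}ᶜ H
  have o1 := H67.piCoreOf_normalIn {2}ᶜ H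
  have o2 := H67.le_normalizer_piCoreOf (π := {2}ᶜ) AH
  have o3 := Nat.odd_iff.2 (Nat.two_dvd_ne_zero.1
    ((H67.isPi_compl_singleton_iff Nat.prime_two).1 (H67.isPi_piCoreOf {2}ᶜ H)))
  generalize piCoreOf {2}ᶜ H = O at o0 o1 o2 o3
  have hch : CharP 2 (quo H O) := by
    have := H3.charP'_of_solvable (p := 2) (H63.quo_isSolvable O hs) o0
    rwa [H3.CharP', ← H67.map_pCore_subtype Nat.prime_two] at this
  have YO : Y ≤ normalizer (O : Set Γ) := hy.le.trans (SH.trans o1.2)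
  by_cases hn : H ≤ normalizer ((Y ⊔ O : Subgroup Γ) : Set Γ)
  · exact ⟨O, o1.1, o1.2, o3, fun n hn' => frattini_odd (EA_isPGroup hy.ea) o3 YO (hn hn')⟩
  exfalso
  obtain ⟨P, ⟨SP, PH, AP, nn⟩, hm⟩ := Set.Finite.exists_minimal (Set.toFinite
    {K : Subgroup Γ | S ≤ K ∧ K ≤ H ∧ A ≤ normalizer (K : Set Γ) ∧
      ¬ K ≤ normalizer ((Y ⊔ O : Subgroup Γ) : Set Γ)}) ⟨H, SH, le_rfl, AH, hn⟩
  have PO := le_norm_inf (PH.trans o1.2) (le_normalizer (H := P))
  have AO := le_norm_inf o2 AP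
  have nn' : ¬ P ≤ P ⊓ normalizer ((Y ⊔ O ⊓ P : Subgroup Γ) : Set Γ) := fun hc => nn (by
    have := le_norm_sup (hc.trans inf_le_right) (PH.trans o1.2)
    rwa [sup_assoc, sup_eq_right.2 (inf_le_left : O ⊓ P ≤ O)] at this)
  have min : ∀ K : Subgroup Γ, S ≤ K → K < P → A ≤ normalizer (K : Set Γ) →
      K ≤ P ⊓ normalizer ((Y ⊔ O ⊓ P : Subgroup Γ) : Set Γ) := fun K a b c => by
    refine le_inf b.le ?_
    rw [← dedekind YO (hy.le.trans SP)]
    exact le_norm_inf (by_contra fun hc => b.not_ge (hm ⟨a, b.le.trans PH, c, hc⟩ b.le))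
      (le_norm_of_le b.le)
  have core : ∀ D : Subgroup Γ, D ≤ S → P ≤ normalizer ((D ⊔ O ⊓ P : Subgroup Γ) : Set Γ) →
      D ≤ pCoreOf 2 P := fun D a b => core_aux (e.syl.mono SP (PH.trans HG)) e.AS AP inf_le_right PO
    AO (le_inf inf_le_right (le_norm_of_le le_sup_right)) nn' min a b
  haveI := hs
  refine mp Γ G A S Y P (O ⊓ P) _ e hy ⟨PH.trans HG, SP, AP,
    solvable_of_solvable_injective (inclusion_injective PH), inf_le_right, PO, AO,
    odd_iff_cop.2 ((odd_iff_cop.1 o3).coprime_dvd_left (card_dvd_of_le inf_le_left)), ?_, core, rfl,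
    nn', min⟩
  set L := cosetpre O (pCoreOf 2 (quo H O)) with hL
  have LH : L ≤ H := (H63.cosetpre_le_iff o1).2 (pCoreOf_le _)
  have HL : H ≤ normalizer (L : Set Γ) := H63.le_norm_cosetpre o1.2 (le_norm_pCoreOf _)
  have l1 : L = S ⊓ L ⊔ O := by
    refine le_antisymm ?_ (sup_le inf_le_right (H63.le_cosetpre _))
    rw [sup_comm]
    refine ((e.syl.mono SH HG).inf_normal LH HL).le_sup_of_pMod (LH.trans o1.2) fun x hx => ?_
    obtain ⟨k, hk⟩ := isPGroup_iff.1 (pCoreOf_isPGroup _) _ (H63.mem_cosetpre.1 hx).2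
    exact ⟨k, (H63.coset_eq_one_iff (o1.2 (LH (pow_mem hx _)))).1
      (by rw [H63.coset_pow (o1.2 (LH hx)), hk])⟩
  have l2 : L ⊓ P = S ⊓ L ⊔ O ⊓ P := by
    conv_lhs => rw [l1]
    exact dedekind (inf_le_right.trans (LH.trans o1.2)) (inf_le_left.trans SP)
  have l3 := core (S ⊓ L) inf_le_left (l2 ▸ le_norm_inf (PH.trans HL) le_normalizer)
  intro x hx
  have l4 : coset O x ∈ centralizer (pCoreOf 2 (quo H O) : Set _) := by
    have := H63.quo_cent (S ⊓ L) O (H63.coset_mem_quo (o1.2 (PH hx.1)) (cent_anti l3 hx.2))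
    rwa [← H63.sup_quo_right (inf_le_right.trans (LH.trans o1.2)), ← l1, hL, H63.cosetpre_quo] at this
  exact sup_le_sup_right l3 _ (l2.le ⟨H63.mem_cosetpre.2 ⟨o1.2 (PH hx.1),
    hch ⟨H63.coset_mem_quo (o1.2 (PH hx.1)) (PH hx.1), l4⟩⟩, hx.1⟩)

end Cfsg.Agent.FPK
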