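import Cfsg.Agent.H6.TIDefs
import Cfsg.Agent.H85.Basic
import Cfsg.Agent.H9.GWBasic
import Cfsg.Agent.H89.Cj
import Cfsg.Agent.H81.ZCor

/-! Project TI, piece CZ: one line per large axis. -/

set_option autoImplicit false
set_option linter.unusedSectionVars false

namespace Cfsg.Agent.H85.TiC

open Cfsg Subgroup Cfsg.Agent.H6.TI
open Cfsg.Agent.H9.GW (Od)
open scoped Cfsg.Agent.H63 commutatorElement

universe u

variable {G : Type u} [Group G] [Finite G]

/-- `Z*` modulo a normal 2-subgroup. -/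
theorem zs_mod {X A S : Subgroup G} {y : G} (hn : X ≤ N[A]) (hS : IsSyl 2 S X) (hAS : A ≤ S)
    (hy : y ∈ S) (hwc : ∀ x ∈ X, x * y * x⁻¹ ∈ S → x * y * x⁻¹ * y⁻¹ ∈ A)
    (hO : ∀ W : Subgroup G, A ≤ W → W ≤ X → X ≤ N[W] → Odd (A.relIndex W) → W ≤ A) :
    ∀ x ∈ X, x * y * x⁻¹ * y⁻¹ ∈ A := by
  have : Fact (Nat.Prime 2) := ⟨Nat.prime_two⟩
  have hAX : A ≤ X := hAS.trans hS.le
  have : (A.subgroupOf X).Normal := (normal_subgroupOf_iff_le_normalizer hAX).2 hn
  let π := QuotientGroup.mk' (A.subgroupOf X)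
  have hπ : Function.Surjective π := QuotientGroup.mk'_surjective _
  have k1 : ∀ a : X, π a = 1 ↔ (a : G) ∈ A := fun a => QuotientGroup.eq_one_iff a
  have h0 : pPrimeCore 2 (X ⧸ A.subgroupOf X) = ⊥ := by
    set O := pPrimeCore 2 (X ⧸ A.subgroupOf X) with hOd
    have h1 : (A.subgroupOf X).relIndex (O.comap π) = Nat.card O := by
      have : A.subgroupOf X = (⊥ : Subgroup (X ⧸ A.subgroupOf X)).comap π := by
        rw [MonoidHom.comap_bot, QuotientGroup.ker_mk']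
      refine (congrArg (fun N => relIndex N (O.comap π)) this).trans ?_
      change ((⊥ : Subgroup (X ⧸ A.subgroupOf X)).comap π).relIndex (O.comap π) = _
      rw [relIndex_comap, map_comap_eq_self_of_surjective hπ, relIndex_bot_left]
    have h2 := hO ((O.comap π).map X.subtype)
      (fun a ha => ⟨⟨a, hAX ha⟩, by
        change π _ ∈ O
        rw [(k1 _).2 ha]; exact one_mem _, rfl⟩) (map_subtype_le _)
      (fun x hx => mem_normalizer_of_cj_le (by
        rintro _ ⟨_, ⟨w, hw, rfl⟩, rfl⟩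
        exact ⟨_, (inferInstance : (O.comap π).Normal).conj_mem w hw ⟨x, hx⟩, rfl⟩))
      (by
        rw [← relIndex_subgroupOf (map_subtype_le _),
          show ((O.comap π).map X.subtype).subgroupOf X = O.comap π from
            comap_map_eq_self_of_injective X.subtype_injective _, h1]
        exact Nat.coprime_two_right.1 (H3.pPrimeCore_coprime 2 _))
    rw [eq_bot_iff]
    intro o ho
    obtain ⟨o, rfl⟩ := hπ o
    exact (k1 o).2 (h2 ⟨o, ho, rfl⟩)
  have hc := H81.mem_center_of_wc (hS.toSylow.mapSurjective hπ) h0 (x := π ⟨y, hS.le hy⟩)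
    ⟨_, hy, rfl⟩ fun g hg => by
      obtain ⟨g, rfl⟩ := hπ g
      rw [← map_inv, ← map_mul, ← map_mul] at hg ⊢
      obtain ⟨s, hs, e⟩ := hg
      have h1 : (s : G)⁻¹ * (g * y * (g : G)⁻¹) ∈ A :=
        mem_subgroupOf.1 (QuotientGroup.eq.1
          (show (s : X ⧸ A.subgroupOf X) = (g * ⟨y, hS.le hy⟩ * g⁻¹ : X) from e))
      have hs' : (s : G) ∈ S := hs
      have h2 := hwc g g.2 ((mul_mem_cancel_left (inv_mem hs')).1 (hAS h1))
      rw [← mul_inv_eq_one, ← map_inv, ← map_mul, k1]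
      exact h2
  intro x hx
  have := mem_center_iff.1 hc (π ⟨x, hx⟩)
  rw [← mul_inv_eq_iff_eq_mul, ← mul_inv_eq_one, ← map_inv, ← map_inv, ← map_mul, ← map_mul,
    ← map_mul, k1] at this
  exact this

/-- The elements of odd order over a central subgroup of exponent two and odd index. -/
theorem odd_part {W A : Subgroup G} (hA : A ≤ W) (hc : W ≤ C[A]) (h2 : IsPGroup 2 A)
    (hsq : ∀ a ∈ A, a * a = 1) (ho : Odd (A.relIndex W)) :
    ∃ O : Subgroup G, Odd (Nat.card O) ∧ (∀ x, x ∈ O ↔ x ∈ W ∧ Odd (orderOf x)) ∧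
      ∀ w ∈ W, ∃ a ∈ A, ∃ o ∈ O, w = a * o := by
  have : Fact (Nat.Prime 2) := ⟨Nat.prime_two⟩
  have : (A.subgroupOf W).Normal :=
    (normal_subgroupOf_iff_le_normalizer hA).2 (hc.trans (centralizer_le_normalizer _))
  obtain ⟨k, hk⟩ := IsPGroup.iff_card.1 (h2.comap_subtype (K := W))
  obtain ⟨K, hK⟩ := exists_right_complement'_of_coprime (N := A.subgroupOf W) (by
    change (Nat.card (A.comap W.subtype)).Coprime (A.relIndex W)
    rw [hk]
    exact (Nat.coprime_two_left.2 ho).pow_left k)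
  have hodd : Odd (Nat.card (K.map W.subtype)) := by
    rw [card_map_of_injective W.subtype_injective, ← hK.symm.index_eq_card]
    exact ho
  have dec : ∀ w ∈ W, ∃ a ∈ A, ∃ o ∈ K.map W.subtype, w = a * o := fun w hw => by
    obtain ⟨⟨a, o⟩, e⟩ := hK.2 ⟨w, hw⟩
    exact ⟨a, a.2, o, ⟨o, o.2, rfl⟩, (congrArg Subtype.val e).symm⟩
  refine ⟨K.map W.subtype, hodd, fun x => ⟨fun hx => ⟨map_subtype_le _ hx,
    hodd.of_dvd_nat (orderOf_dvd_natCard _ hx)⟩, fun ⟨hx, hxo⟩ => ?_⟩, dec⟩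
  obtain ⟨a, ha, o, ho', rfl⟩ := dec x hx
  refine mem_of_pow_mem_of_coprime (n := 2) (Nat.coprime_two_right.2 hxo) ?_
  have c : Commute a o := hc (map_subtype_le _ ho') a ha
  rw [c.mul_pow, pow_two a, hsq a ha, one_mul]
  exact pow_mem ho' 2

variable {Ω : Set (Subgroup G)} {K : Subgroup G}

theorem ex_four {J : Subgroup G} (h : 2 < Nat.card J) :
    ∃ a ∈ J, ∃ b ∈ J, a ≠ 1 ∧ b ≠ 1 ∧ a ≠ b := by
  have := Fintype.ofFinite J
  rw [Nat.card_eq_fintype_card, Fintype.two_lt_card_iff] at h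
  obtain ⟨a, b, c, h1, h2, h3⟩ := h
  by_cases e1 : a = 1
  · subst e1
    exact ⟨b, b.2, c, c.2, fun e => h1 (Subtype.ext e).symm, fun e => h2 (Subtype.ext e).symm,
      fun e => h3 (Subtype.ext e)⟩
  by_cases e2 : b = 1
  · subst e2
    exact ⟨a, a.2, c, c.2, fun e => e1 (Subtype.ext e), fun e => h3 (Subtype.ext e).symm,
      fun e => h2 (Subtype.ext e)⟩
  · exact ⟨a, a.2, b, b.2, fun e => e1 (Subtype.ext e), fun e => e2 (Subtype.ext e),
      fun e => h1 (Subtype.ext e)⟩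

theorem od_bot (c : C1 Ω K) (h8 : ∀ P ∈ Ω, 8 ≤ Nat.card P) : ∀ P ∈ Ω, Od C[P] = ⊥ := by
  refine c.hf.glob c.conn (fun P => Od C[P]) (fun P _ g => ?_) (fun P _ => map_subtype_le _)
    fun P Q e => ?_
  · rw [← cj_centralizer]
    exact (H9.GW.conj_smul_Od g _).symm
  obtain ⟨q1, -, q2, -⟩ := c.ba.hq e
  have h2 : 2 < Nat.card (ax Q P) := by
    have := (c.ba.card e).1
    have h3 := h8 P e.l
    rw [hh, hh] at this
    rw [← this, ← hh]
    by_contra hl
    have : hh P Q * qq P Q ≤ 2 * 2 := Nat.mul_le_mul (by omega) (by omega)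
    omega
  obtain ⟨a, ha, b, hb, a1, b1, ab⟩ := ex_four h2
  have n : ∀ j ∈ ax Q P, j ∈ N[Od C[P]] := fun j hj =>
    H9.GW.normalizer_le_normalizer_Od _ (normalizer_le_normalizer_centralizer P hj.2)
  have key : ∀ j ∈ Q, j ≠ 1 → ∀ t ∈ Od C[P], Commute t j → t ∈ C[Q] := fun j hj j1 t ht htj => by
    have tC : t ∈ C[P] := map_subtype_le _ ht
    obtain ⟨-, i, hi, h⟩ := c.bb.tl e t tC (c.ba.cent Q e.r j hj j1 t htj)
    refine mem_of_pow_mem_of_coprime (n := 2) (Nat.coprime_two_right.2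
      ((H9.GW.odd_Od _).of_dvd_nat (orderOf_dvd_natCard _ ht))) ?_
    have h1 := pow_mem h 2
    have ci : Commute t i := (tC i hi.1).symm
    rwa [ci.mul_pow, pow_two i, c.sq P e.l i hi.1, mul_one] at h1
  refine H89.Rec.four_gen (c.sq Q e.r a ha.1) (c.sq Q e.r b hb.1) (c.ba.mul_comm Q e.r a ha.1 b hb.1)
    a1 b1 ab (H9.GW.odd_Od _) (n a ha) (n b hb) (key a ha.1 a1) (key b hb.1 b1)
    (key _ (mul_mem ha.1 hb.1) fun h => ab ?_)
  rw [eq_inv_of_mul_eq_one_left h, inv_eq_of_mul_eq_one_right (c.sq Q e.r b hb.1)]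

/-- An element of `C(A)` moving `B` inside its orbit. -/
theorem of_orb (c : C1 Ω K) {A B : Subgroup G} (m : Mn Ω A B) {t : G} (ht : t ∈ C[A])
    (h : Orb A B (cj t B)) :
    (∃ a ∈ A, t * a ∈ C[B]) ∧ ∀ y ∈ ax B A, t * y * t⁻¹ * y⁻¹ ∈ A := by
  obtain ⟨a, ha, e⟩ := h
  have aC : a ∈ C[A] := fun b hb => c.ba.mul_comm A m.l b hb a ha
  have h1 : a⁻¹ * t ∈ N[B] := cj_eq_iff_mem_normalizer.1 (by rw [cj_mul, e, cj_inv_cj])
  obtain ⟨h2, i, hi, h3⟩ := c.bb.tl m.toEd _ (mul_mem (inv_mem aC) ht) h1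
  refine ⟨⟨a⁻¹ * i, mul_mem (inv_mem ha) hi.1, ?_⟩, fun y hy => ?_⟩
  · rwa [← mul_assoc, ← ht _ (inv_mem ha)]
  · have h4 := h2 y (mem_sup_right hy)
    have h5 := (c.ba.brk m.toEd a ha y (mem_sup_right hy)).1
    have : t * y * t⁻¹ * y⁻¹ = ⁅a, y⁆ := by
      calc _ = a * (a⁻¹ * t * y) * (a⁻¹ * t)⁻¹ * a⁻¹ * y⁻¹ := by group
        _ = _ := by rw [← h4, commutatorElement_def]; group
    rwa [this]

theorem orb_of (hg : Good Ω) {A B B' : Subgroup G} (m : Mn Ω A B) (m' : Mn Ω A B')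
    (e : ax A B = ax A B') (h : B' = B ∨ Ed Ω B B') : Orb A B B' := by
  rcases h with h | h
  · exact ⟨1, one_mem _, by rw [h, H83.cj_one]⟩
  · exact hg A B B' m m' e h

theorem ax_cent {A B : Subgroup G} {t : G} (ht : t ∈ C[A]) : ax A (cj t B) = ax A B := by
  rw [(ax_cjN (centralizer_le_normalizer _ ht) B).1]
  exact cj_eq_of_mem_normalizer (centralizer_le_normalizer _ (centralizer_le ax_le ht))

theorem ce (c : C1 Ω K) (h8 : ∀ P ∈ Ω, 8 ≤ Nat.card P) (hg : Good Ω) {A B : Subgroup G}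
    (m : Mn Ω A B) : ∀ t ∈ C[A], ∃ a ∈ A, t * a ∈ C[B] := by
  have : Fact (Nat.Prime 2) := ⟨Nat.prime_two⟩
  have AC : A ≤ C[A] := fun a ha b hb => c.ba.mul_comm A m.l b hb a ha
  have JN : ax B A ≤ N[C[A]] := ax_le_norm.trans (normalizer_le_normalizer_centralizer A)
  have XN : C[A] ⊔ ax B A ≤ N[A] := sup_le (centralizer_le_normalizer _) ax_le_norm
  have hp : IsPGroup 2 (A ⊔ ax B A : Subgroup G) := by
    rw [sup_comm]
    exact H83.isPGroup_sup ((c.ba.two B m.r).to_le ax_le) (c.ba.two A m.l) ax_le_norm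
  obtain ⟨S, hS, hle⟩ := exists_isSyl_ge hp (sup_le_sup_right AC (ax B A))
  have SN := hS.le.trans XN
  obtain ⟨y, hy, y1⟩ := (bot_or_exists_ne_one (ax B A)).resolve_left (c.ba.symm m.toEd).nb
  have key : ∀ t ∈ C[A], t * y * t⁻¹ ∈ S → Orb A B (cj t B) := fun t ht hs => by
    have tN := centralizer_le_normalizer _ ht
    have m' := m.cjN c.toTI tN
    refine orb_of hg m m' (ax_cent ht).symm (c.l6.l6a m m' (ax_cent ht).symm (t * y * t⁻¹)
      (by rw [(ax_cjN tN B).2]; exact conj_mem_cj hy) (by simpa using y1) ?_)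
    refine (c.l6.l6 m (m.cjN c.toTI (SN hs)) S hS.isPGroup SN (le_sup_right.trans hle) ?_).2
    rw [(ax_cjN (SN hs) B).2]
    exact cj_le_of_mem (le_sup_right.trans hle) hs
  have dec : ∀ x ∈ C[A] ⊔ ax B A, ∃ t ∈ C[A], ∃ j ∈ ax B A, t * j = x := fun x hx =>
    (mem_sup_of_le_normalizer JN).1 hx
  have z := zs_mod XN hS (le_sup_left.trans hle) (hle (mem_sup_right hy)) (fun x hx hs => by
    obtain ⟨t, ht, j, hj, rfl⟩ := dec x hx
    have e : t * j * y * (t * j)⁻¹ = t * y * t⁻¹ := by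
      rw [mul_assoc t, c.ba.mul_comm B m.r j hj.1 y hy.1]; group
    rw [e] at hs ⊢
    exact (of_orb c m ht (key t ht hs)).2 y hy) fun W h1 h2 h3 h4 => by
      have nW : W ≤ N[A] := h2.trans XN
      have WC : W ≤ C[A] := fun w hw => by
        obtain ⟨n, hn⟩ := h4
        have a1 : w ^ (2 * n + 1) ∈ C[A] := by
          have : (A.subgroupOf W).Normal := (normal_subgroupOf_iff_le_normalizer h1).2 nW
          rw [← hn]
          exact AC (pow_index_mem (H := A.subgroupOf W) ⟨w, hw⟩)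
        have a2 : w ^ 2 ∈ C[A] := by
          obtain ⟨t, ht, j, hj, rfl⟩ := dec w (h2 hw)
          have : (t * j) ^ 2 = t * (j * t * j⁻¹) := by
            rw [inv_eq_of_mul_eq_one_right (c.sq B m.r j hj.1), pow_two]; group
          rw [this]
          exact mul_mem ht ((mem_normalizer_iff.1 (JN hj) t).1 ht)
        rw [pow_succ, pow_mul] at a1
        exact (mul_mem_cancel_left (pow_mem a2 n)).1 a1
      obtain ⟨O, o1, o2, o3⟩ := odd_part h1 WC (c.ba.two A m.l) (c.sq A m.l) h4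
      have : O ≤ Od C[A] := H9.GW.le_Od (fun x hx => WC ((o2 x).1 hx).1)
        (fun t ht => mem_normalizer_of_cj_le (by
          rintro _ ⟨x, hx, rfl⟩
          obtain ⟨x1, x2⟩ := (o2 x).1 hx
          exact (o2 _).2 ⟨(mem_normalizer_iff.1 (h3 (mem_sup_left ht)) x).1 x1,
            (H83.orderOf_conj' t x).symm ▸ x2⟩)) o1
      intro w hw
      obtain ⟨a, ha, o, ho, rfl⟩ := o3 w hw
      have := this ho
      rw [od_bot c h8 A m.l, mem_bot] at this
      rwa [this, mul_one]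
  intro t ht
  refine (of_orb c m ht (key t ht ?_)).1
  exact (mul_mem_cancel_right (inv_mem (hle (mem_sup_right hy)))).1
    (hle (mem_sup_left (z t (mem_sup_left ht))))

theorem line (c : C1 Ω K) (h8 : ∀ P ∈ Ω, 8 ≤ Nat.card P) (hg : Good Ω) {A B B' : Subgroup G}
    (m : Mn Ω A B) (m' : Mn Ω A B') (e : ax A B = ax A B') : Orb A B B' := by
  have : Fact (Nat.Prime 2) := ⟨Nat.prime_two⟩
  have cI : C[ax A B] ≤ N[ax A B] := centralizer_le_normalizer _
  let Y : Subgroup G := H83.centMod (N[A] ⊓ C[ax A B]) A (ax A B) (inf_le_right.trans cI)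
  have mY : ∀ g, g ∈ Y ↔ g ∈ N[A] ⊓ C[ax A B] ∧ ∀ a ∈ A, ⁅a, g⁆ ∈ ax A B := fun g => Iff.rfl
  have YN : Y ≤ N[A] := fun g hg => hg.1.1
  have CY : C[A] ≤ Y := fun g hg => (mY g).2 ⟨⟨centralizer_le_normalizer _ hg,
    centralizer_le ax_le hg⟩, fun a ha => by
      rw [commutatorElement_eq_one_iff_mul_comm.2 (hg a ha)]; exact one_mem _⟩
  have JY : ∀ {D}, Mn Ω A D → ax A B = ax A D → ax D A ≤ Y := fun {D} d e j hj =>
    (mY j).2 ⟨⟨hj.2, fun i hi => c.ba.comm A d.l D d.r d.ne i (e ▸ hi) j hj⟩,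
      fun a ha => e ▸ c.ba.brk d.toEd a ha j (mem_sup_right hj)⟩
  obtain ⟨S, hS, hle⟩ := exists_isSyl_ge ((c.ba.two B m.r).to_le ax_le) (JY m rfl)
  have sup := hS.sup_eq_of_pquot CY (YN.trans (normalizer_le_normalizer_centralizer A))
    fun g hg => ⟨1, fun a ha => by
      have h1 := hg.2 a ha
      have h2 := hg.1.2 _ h1
      have h3 := c.sq A m.l _ h1.1
      rw [pow_one, pow_two]
      calc a * (g * g) = ⁅a, g⁆ * g * (a * g) := by rw [commutatorElement_def]; group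
        _ = g * (⁅a, g⁆ * ⁅a, g⁆) * g * a := by rw [h2, commutatorElement_def]; group
        _ = _ := by rw [h3, mul_one]⟩
  obtain ⟨x, hx, hxS⟩ := hS.exists_cj_le ((c.ba.two B' m'.r).to_le ax_le) (JY m' e)
  obtain ⟨s, hs, t, ht, rfl⟩ := (mem_sup_of_le_normalizer' (A := S) (B := C[A])
    (hS.le.trans (YN.trans (normalizer_le_normalizer_centralizer A)))).1
    (by rw [sup_comm, sup]; exact hx)
  have tN := centralizer_le_normalizer _ ht
  have h1 : ax (cj t B') A ≤ S := by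
    rw [(ax_cjN tN B').2]
    rw [cj_mul, cj_le_iff_le_cj_inv, cj_eq_of_mem (inv_mem hs)] at hxS
    exact hxS
  have m2 := m'.cjN c.toTI tN
  obtain ⟨e1, e2⟩ := c.l6.l6 m m2 S hS.isPGroup (hS.le.trans YN) hle h1
  obtain ⟨a, ha, e3⟩ := orb_of hg m m2 e1 e2
  obtain ⟨a', ha', h3⟩ := ce c h8 hg m' t ht
  refine ⟨a' * a, mul_mem ha' ha, ?_⟩
  change B' = cj (a' * a) B
  rw [cj_mul, ← show cj t B' = cj a B from e3, ← cj_mul, ht a' ha',
    cj_eq_of_mem_normalizer (centralizer_le_normalizer _ h3)]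

theorem cz : CZStmt.{u} := fun _ _ c h8 hg => ⟨line c h8 hg, ce c h8 hg⟩

end Cfsg.Agent.H85.TiC
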