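import Cfsg.Agent.H78.G40B

/-! The product of three quaternion groups in `PSp₆(3)`. -/

set_option autoImplicit false

noncomputable section

namespace Cfsg.Agent.H85.G40F2a

open Subgroup Matrix Cfsg.Agent.H83 Cfsg.Agent.H46.L40 Cfsg.Agent.H28 Cfsg.Agent.H78.G40
open QuaternionGroup (a xa)

abbrev Q8 : Type := QuaternionGroup 2
abbrev G3 : Type := Fin 3 → Q8
abbrev M2 : Type := Matrix (Fin 2) (Fin 2) (ZMod 3)

def zq : Q8 := a 2

def ρ : Q8 → M2
  | a i => !![0, 1; 2, 0] ^ i.val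
  | xa i => !![1, 1; 1, 2] * !![0, 1; 2, 0] ^ i.val

theorem ρ_mul : ∀ x y : Q8, ρ (x * y) = ρ x * ρ y := by decide +kernel
theorem ρ_det : ∀ x : Q8, ρ x 0 0 * ρ x 1 1 - ρ x 0 1 * ρ x 1 0 = 1 := by decide +kernel
theorem ρ_inj : ∀ x y : Q8, ρ x = ρ y → x = y := by decide +kernel
theorem ρ_neg : ∀ x : Q8, ρ (zq * x) = -ρ x := by decide +kernel

def bm (m : Fin 3 → M2) : Matrix (Fin 3 ⊕ Fin 3) (Fin 3 ⊕ Fin 3) (ZMod 3) :=
  fromBlocks (diagonal fun k => m k 0 0) (diagonal fun k => m k 0 1) (diagonal fun k => m k 1 0)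
    (diagonal fun k => m k 1 1)

theorem bm_mul (m n : Fin 3 → M2) : bm (fun k => m k * n k) = bm m * bm n := by
  simp only [bm, fromBlocks_multiply, diagonal_mul_diagonal, diagonal_add, mul_apply,
    Fin.sum_univ_two]

theorem bm_neg (m : Fin 3 → M2) : bm (fun k => -m k) = -bm m := by
  simp only [bm, fromBlocks_neg, diagonal_neg]; rfl

theorem bm_inj {m n : Fin 3 → M2} (h : bm m = bm n) : m = n := by
  obtain ⟨h1, h2, h3, h4⟩ := fromBlocks_inj.1 h
  funext k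
  ext i j
  fin_cases i <;> fin_cases j
  exacts [congrFun (diagonal_injective h1) k, congrFun (diagonal_injective h2) k,
    congrFun (diagonal_injective h3) k, congrFun (diagonal_injective h4) k]

theorem bm_t (m : Fin 3 → M2) : (bm m)ᵀ = bm fun k => (m k)ᵀ := by
  simp only [bm, fromBlocks_transpose, diagonal_transpose, transpose_apply]

theorem ρ_J : ∀ x : Q8, ρ x * !![0, -1; 1, 0] * (ρ x)ᵀ = !![0, -1; 1, 0] := by decide +kernel
theorem bm_J : J (Fin 3) (ZMod 3) = bm fun _ => !![0, -1; 1, 0] := by decide +kernel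

def B : G3 →* Sp6 := MonoidHom.mk' (fun g => ⟨bm fun k => ρ (g k), by
    change _ * J (Fin 3) (ZMod 3) * _ = J (Fin 3) (ZMod 3)
    rw [bm_J, bm_t, ← bm_mul, ← bm_mul]
    simp only [ρ_J]⟩)
  fun g h => Subtype.ext (by
    change bm (fun k => ρ (g k * h k)) = bm _ * bm _
    rw [← bm_mul]; simp only [ρ_mul])

def Φ : G3 →* X2 := mk2.comp B

theorem Φ_eq {g h : G3} : Φ g = Φ h ↔ g = h ∨ g = fun k => zq * h k := by
  refine (mk2_eq _ _).trans (or_congr ⟨fun e => ?_, fun e => by rw [e]⟩ ⟨fun e => ?_, fun e => ?_⟩)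
  · exact funext fun k => ρ_inj _ _ (congrFun (bm_inj e) k)
  · refine funext fun k => ρ_inj _ _ ?_
    rw [ρ_neg]
    exact congrFun (bm_inj (e.trans (bm_neg _).symm)) k
  · subst e
    change bm _ = -bm _
    rw [← bm_neg]; simp only [ρ_neg]

def ι (i : Fin 3) : Q8 →* G3 := MonoidHom.mulSingle (fun _ => Q8) i

theorem ι_apply (i : Fin 3) (x : Q8) (k : Fin 3) : ι i x k = if k = i then x else 1 :=
  Pi.mulSingle_apply i x k

theorem p_eq (i : Fin 3) : dd2.p i = Φ (ι i (a 1)) :=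
  (mk2_eq _ _).2 (.inl (by revert i; decide +kernel))
theorem q_eq (i : Fin 3) : dd2.q i = Φ (ι i (xa 0)) :=
  (mk2_eq _ _).2 (.inl (by revert i; decide +kernel))
theorem zz_eq (i : Fin 3) : dd2.zz i = Φ (ι i zq) :=
  (mk2_eq _ _).2 (.inl (by revert i; decide +kernel))
theorem z_eq : e2 z0 = Φ ![zq, zq, 1] := (mk2_eq _ _).2 (.inl (by decide +kernel))
theorem a_eq : e2 a0 = Φ ![1, zq, zq] := (mk2_eq _ _).2 (.inl (by decide +kernel))

theorem q_gen : ∀ x : Q8, ∃ m : Fin 4, x = a 1 ^ m.val ∨ x = xa 0 * a 1 ^ m.val := by decide +kernel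
theorem q_sq : ∀ x : Q8, x * x = 1 ∨ x * x = zq := by decide +kernel
theorem q_four : ∀ x : Q8, x ^ 2 ^ 2 = 1 := by decide +kernel
theorem q_cm : ∀ x y : Q8, x * y * x⁻¹ * y⁻¹ = 1 ∨ x * y * x⁻¹ * y⁻¹ = zq := by decide +kernel
theorem q_cen : ∀ x y : Q8, x = 1 ∨ x = zq → x * y = y * x := by decide +kernel
theorem q_zm : ∀ x y : Q8, x = 1 ∨ x = zq → y = 1 ∨ y = zq → x * y = 1 ∨ x * y = zq := by
  decide +kernel
theorem q_zi : ∀ x : Q8, x = 1 ∨ x = zq → x⁻¹ = 1 ∨ x⁻¹ = zq := by decide +kernel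

theorem sing (i : Fin 3) (x : Q8) : Φ (ι i x) ∈ Subgroup.closure {dd2.p i, dd2.q i} := by
  have hp : Φ (ι i (a 1)) ∈ Subgroup.closure {dd2.p i, dd2.q i} :=
    p_eq i ▸ subset_closure (.inl rfl)
  have hq : Φ (ι i (xa 0)) ∈ Subgroup.closure {dd2.p i, dd2.q i} :=
    q_eq i ▸ subset_closure (.inr rfl)
  obtain ⟨m, h | h⟩ := q_gen x
  · rw [h, map_pow, map_pow]; exact pow_mem hp _
  · rw [h, map_mul, map_mul, map_pow, map_pow]; exact mul_mem hq (pow_mem hp _)

theorem memA {y : X2} : y ∈ As dd2 ↔ ∃ g, Φ g = y := by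
  constructor
  · refine fun h => (closure_le Φ.range).2 ?_ h
    rintro _ (⟨i, rfl⟩ | ⟨i, rfl⟩)
    exacts [⟨_, (p_eq i).symm⟩, ⟨_, (q_eq i).symm⟩]
  · rintro ⟨g, rfl⟩
    have k : ∀ i x, Φ (ι i x) ∈ As dd2 := fun i x => closure_mono (by
      rintro _ (rfl | rfl)
      exacts [.inl ⟨i, rfl⟩, .inr ⟨i, rfl⟩]) (sing i x)
    have : g = ι 0 (g 0) * ι 1 (g 1) * ι 2 (g 2) := by
      funext k; fin_cases k <;> simp [ι_apply]
    rw [this, map_mul, map_mul]
    exact mul_mem (mul_mem (k _ _) (k _ _)) (k _ _)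

/-- central outside a set of coordinates -/
def H (s : Set (Fin 3)) : Subgroup G3 where
  carrier := {g | ∀ k ∉ s, g k = 1 ∨ g k = zq}
  one_mem' _ _ := .inl rfl
  mul_mem' hx hy k hk := q_zm _ _ (hx k hk) (hy k hk)
  inv_mem' hx k hk := q_zi _ (hx k hk)

theorem v_list : ∀ g : G3, (∀ k, g k = 1 ∨ g k = zq) →
    ∃ h ∈ [1, ![zq, zq, 1], ![1, zq, zq], ![zq, zq, 1] * ![1, zq, zq]],
      g = h ∨ g = fun k => zq * h k := by decide +kernel

theorem memV {y : X2} : y ∈ V0.map e2 ↔ ∃ g : G3, (∀ k, g k = 1 ∨ g k = zq) ∧ Φ g = y := by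
  have hz : e2 z0 ∈ V0.map e2 := mem_map_of_mem _ (subset_closure (.inl rfl))
  have ha : e2 a0 ∈ V0.map e2 := mem_map_of_mem _ (subset_closure (.inr rfl))
  constructor
  · intro h
    have : V0.map e2 ≤ (H ∅).map Φ := by
      rw [V0, MonoidHom.map_closure, closure_le]
      rintro _ ⟨_, rfl | rfl, rfl⟩
      · exact ⟨_, fun k _ => by fin_cases k <;> simp, z_eq.symm⟩
      · exact ⟨_, fun k _ => by fin_cases k <;> simp, a_eq.symm⟩
    obtain ⟨g, hg, e⟩ := this h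
    exact ⟨g, fun k => hg k id, e⟩
  · rintro ⟨g, hg, rfl⟩
    obtain ⟨h, hh, e⟩ := v_list g hg
    rw [Φ_eq.2 e]
    simp only [List.mem_cons, List.not_mem_nil, or_false] at hh
    rcases hh with rfl | rfl | rfl | rfl
    · rw [map_one]; exact one_mem _
    · exact z_eq ▸ hz
    · exact a_eq ▸ ha
    · rw [map_mul, ← z_eq, ← a_eq]; exact mul_mem hz ha

theorem memQ {i : Fin 3} {y : X2} :
    y ∈ Qs e2 dd2 i ↔ ∃ g : G3, (∀ k, k ≠ i → g k = 1 ∨ g k = zq) ∧ Φ g = y := by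
  constructor
  · intro h
    have : Qs e2 dd2 i ≤ (H {i}).map Φ := by
      refine sup_le ((closure_le _).2 ?_) fun y hy => ?_
      · rintro _ (rfl | rfl)
        · exact ⟨_, fun k hk => .inl ((ι_apply _ _ _).trans (if_neg hk)), (p_eq i).symm⟩
        · exact ⟨_, fun k hk => .inl ((ι_apply _ _ _).trans (if_neg hk)), (q_eq i).symm⟩
      · obtain ⟨g, hg, e⟩ := memV.1 hy
        exact ⟨g, fun k _ => hg k, e⟩
    exact this h
  · rintro ⟨g, hg, rfl⟩
    have : g = ι i (g i) * Function.update g i 1 := by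
      funext k
      by_cases c : k = i
      · subst c; simp [ι_apply]
      · simp [ι_apply, c]
    rw [this, map_mul]
    refine mul_mem_sup (sing i _) (memV.2 ⟨_, fun k => ?_, rfl⟩)
    by_cases c : k = i
    · subst c; simp
    · rw [Function.update_of_ne c]; exact hg k c

def fq (i : Fin 3) (x : Q8 × Bool) : G3 := fun k =>
  if k = i then x.1 else if k = i + 1 ∧ x.2 = true then zq else 1

theorem fq_inj : ∀ i x y, (fq i x = fq i y ∨ fq i x = fun k => zq * fq i y k) → x = y := by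
  decide +kernel

theorem fq_sur : ∀ (i : Fin 3) (g : G3), (∀ k, k ≠ i → g k = 1 ∨ g k = zq) →
    ∃ x, fq i x = g ∨ fq i x = fun k => zq * g k := by decide +kernel

theorem fq_mem : ∀ i x k, k ≠ i → fq i x k = 1 ∨ fq i x k = zq := by decide +kernel

theorem card16 (i : Fin 3) : Nat.card (Qs e2 dd2 i) = 16 := by
  rw [← Nat.card_congr (Equiv.ofBijective
    (fun x : Q8 × Bool => (⟨Φ (fq i x), memQ.2 ⟨_, fq_mem i x, rfl⟩⟩ : Qs e2 dd2 i))
    ⟨fun x y e => fq_inj i x y (Φ_eq.1 (congrArg Subtype.val e)), fun y => by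
      obtain ⟨g, hg, e⟩ := memQ.1 y.2
      obtain ⟨x, hx⟩ := fq_sur i g hg
      exact ⟨x, Subtype.ext ((Φ_eq.2 hx).trans e)⟩⟩)]
  rw [Nat.card_eq_fintype_card, Fintype.card_prod, QuaternionGroup.card]; rfl

theorem q_tst : ∀ x : Q8, (∀ y, x * y * x⁻¹ * y⁻¹ = 1) → x = 1 ∨ x = zq := by decide +kernel

theorem s_tst : ∀ (i j : Fin 3) (c : Q8), j ≠ i →
    ((ι j c = 1 ∨ ι j c = fun k => zq * (1 : G3) k) ∨
      (ι j c = ι i zq ∨ ι j c = fun k => zq * ι i zq k)) → c = 1 := by decide +kernel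

theorem f2a : F2aS where
  VA y hy := by
    obtain ⟨g, -, e⟩ := memV.1 hy
    exact memA.2 ⟨g, e⟩
  AV y hy v hv := by
    obtain ⟨g, rfl⟩ := memA.1 hy
    obtain ⟨h, hh, rfl⟩ := memV.1 hv
    rw [← map_mul, ← map_mul]
    exact congrArg Φ (funext fun k => q_cen _ _ (hh k))
  A2 y := by
    obtain ⟨g, e⟩ := memA.1 y.2
    refine ⟨2, Subtype.ext ?_⟩
    rw [Subgroup.coe_pow, ← e, ← map_pow, show g ^ 2 ^ 2 = 1 from funext fun k => q_four _, map_one]
    rfl
  sq y hy := by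
    obtain ⟨g, rfl⟩ := memA.1 hy
    exact memV.2 ⟨g * g, fun k => q_sq _, map_mul _ _ _⟩
  c16 := card16
  zV i := memV.2 ⟨_, fun k => by rw [ι_apply]; split_ifs <;> simp, (zz_eq i).symm⟩
  chr i y hy := by
    obtain ⟨g, rfl⟩ := memA.1 hy
    constructor
    · refine fun h => memQ.2 ⟨g, fun j hj => q_tst _ fun x => s_tst i j _ hj ?_, rfl⟩
      have h1 := h _ (memA.2 ⟨ι j x, rfl⟩)
      have h2 : g * ι j x * g⁻¹ * (ι j x)⁻¹ = ι j (g j * x * (g j)⁻¹ * x⁻¹) := by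
        funext k
        by_cases c : k = j
        · subst c; simp [ι_apply]
        · simp [ι_apply, c]
      rw [← map_inv, ← map_inv, ← map_mul, ← map_mul, ← map_mul, h2, zz_eq] at h1
      exact h1.imp (fun e => Φ_eq.1 (e.trans (map_one Φ).symm)) fun e => Φ_eq.1 e
    · intro h x hx
      obtain ⟨g', hg', e⟩ := memQ.1 h
      obtain ⟨x, rfl⟩ := memA.1 hx
      rw [← e, ← map_inv, ← map_inv, ← map_mul, ← map_mul, ← map_mul, zz_eq]
      have h2 : g' * x * g'⁻¹ * x⁻¹ = ι i (g' i * x i * (g' i)⁻¹ * (x i)⁻¹) := by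
        funext k
        by_cases c : k = i
        · subst c; simp [ι_apply]
        · simp [ι_apply, c, q_cen _ (x k) (hg' k c)]
      rw [h2]
      rcases q_cm (g' i) (x i) with c | c <;> rw [c]
      · left; rw [map_one, map_one]
      · right; rfl
  τp i := eq_inv_of_mul_eq_one_left ((mk2_eq (T2 _ * _) 1).2 (.inl (by revert i; decide +kernel)))
  τq i := (mk2_eq (T2 _) (_ * _)).2 (.inl (by revert i; decide +kernel))
  pV i h := by
    obtain ⟨g, hg, e⟩ := memV.1 h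
    rw [p_eq] at e
    have := hg i
    rcases Φ_eq.1 e with c | c
    · rw [c, ι_apply, if_pos rfl] at this; revert this; decide
    · rw [c] at this
      change zq * ι i (a 1) i = 1 ∨ zq * ι i (a 1) i = zq at this
      rw [ι_apply, if_pos rfl] at this; revert this; decide

end Cfsg.Agent.H85.G40F2a
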