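import Mathlib
import Cfsg.Agent.H81.EmDefs
import Cfsg.Agent.H12.C3F1
import Cfsg.Agent.H44.C3F2
import Cfsg.Agent.H32.C3F3
import Cfsg.Agent.H62.C3F4
import Cfsg.Agent.H33.C3F5
import Cfsg.Agent.H83.C3F6

/-! The filter for the lists of simple groups, for a Sylow 3-normalizer of order 144. -/

set_option autoImplicit false

namespace Cfsg.Agent.H85.EmF

universe u

/-- Filter 1. -/
def E1 : Prop :=
  ∀ (G : Type u) [Group G] [Finite G], H81.Em.Ord3 G → ∀ (F : Type) [Field F] [Fintype F],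
    Nonempty (G ≃* Matrix.ProjectiveSpecialLinearGroup (Fin 2) F) → Fintype.card F = 9

/-- Filter 2. -/
def E2 : Prop :=
  ∀ (G : Type u) [Group G] [Finite G], H81.Em.Ord3 G → ∀ (F : Type) [Field F] [Fintype F],
    Nonempty (G ≃* Matrix.ProjectiveSpecialLinearGroup (Fin 3) F) →
    Fintype.card F = 4 ∨ Fintype.card F = 7

/-- Filter 3. -/
def E3 : Prop :=
  ∀ (G : Type u) [Group G] [Finite G], H81.Em.Ord3 G → ∀ (F : Type) [Field F] [Fintype F] (q : ℕ),
    Fintype.card F = q ^ 2 → Nonempty (G ≃* Cfsg.PSU 3 F q) → q = 2 ∨ q = 5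

/-- Filter 4. -/
def E4 : Prop :=
  ∀ (G : Type u) [Group G] [Finite G], H81.Em.Ord3 G → ∀ (F : Type) [Field F] [Fintype F],
    Odd (Fintype.card F) → ¬ Nonempty (G ≃* Cfsg.PSp 2 F) ∧
      ¬ Nonempty (G ≃* Matrix.ProjectiveSpecialLinearGroup (Fin 4) F) ∧
      ¬ Nonempty (G ≃* Matrix.ProjectiveSpecialLinearGroup (Fin 5) F)

/-- Filter 5. -/
def E5 : Prop :=
  ∀ (G : Type u) [Group G] [Finite G], H81.Em.Ord3 G → ∀ (F : Type) [Field F] [Fintype F] (q : ℕ),
    Fintype.card F = q ^ 2 → Odd q →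
    (q % 8 ≠ 7 → ¬ Nonempty (G ≃* Cfsg.PSU 4 F q)) ∧ ¬ Nonempty (G ≃* Cfsg.PSU 5 F q)

section S1

open Subgroup

theorem not_cyc {G : Type u} [Group G] [Finite G] (h : H81.Em.Ord3 G) (P : Sylow 3 G) :
    ¬ IsCyclic (P : Subgroup G) := by
  have : Fact (Nat.Prime 3) := ⟨Nat.prime_three⟩
  intro hc
  obtain ⟨g, hg⟩ := hc.exists_generator
  have h1 : orderOf g = Nat.card (P : Subgroup G) := orderOf_eq_card_of_forall_mem_zpowers hg
  have h9 : 9 ∣ Nat.card (P : Subgroup G) := by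
    rw [P.card_eq_multiplicity]
    have : 2 ≤ (Nat.card G).factorization 3 :=
      (Nat.prime_three.pow_dvd_iff_le_factorization Nat.card_pos.ne').1 (by simpa using h.d9)
    exact (pow_dvd_pow 3 this : 3 ^ 2 ∣ _)
  have h2 : orderOf (g : G) = orderOf g := Subgroup.orderOf_coe g
  have h3 : 9 ∣ orderOf (g : G) := by rw [h2, h1]; exact h9
  rcases h.o6 g (dvd_trans (by norm_num) h3) with h4 | h4 <;> rw [h4] at h3 <;> omega

/-- The image of a group with cyclic Sylow 3-subgroups does not satisfy the order conditions. -/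
theorem not_ord_of_surj {G : Type u} [Group G] [Finite G] (h : H81.Em.Ord3 G) {H : Type*} [Group H]
    [Finite H] (f : H →* G) (hf : Function.Surjective f)
    (hc : ∀ R : Sylow 3 H, IsCyclic (R : Subgroup H)) : False := by
  have : Fact (Nat.Prime 3) := ⟨Nat.prime_three⟩
  obtain ⟨R⟩ : Nonempty (Sylow 3 H) := inferInstance
  apply not_cyc h (R.mapSurjective hf)
  have := hc R
  rw [Sylow.coe_mapSurjective]
  exact isCyclic_of_surjective (f.subgroupMap R) (f.subgroupMap_surjective R)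

theorem f1 : E1.{u} := by
  intro G _ _ h F _ _ ⟨e⟩
  have : Fact (Nat.Prime 3) := ⟨Nat.prime_three⟩
  obtain ⟨p, hp⟩ := CharP.exists F
  obtain ⟨n, hpp, hn⟩ := FiniteField.card F p
  have : Fact p.Prime := ⟨hpp⟩
  by_cases h3 : p = 3
  · subst h3
    have hc := Cfsg.Agent.H28.card_PSL2 (F := F) rfl
    rw [← Nat.card_congr e.toEquiv] at hc
    set q := Fintype.card F with hq
    have hq1 : 1 ≤ q := Fintype.card_pos
    have h3q : 3 ∣ q := by rw [hn]; exact dvd_pow_self 3 n.pos.ne'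
    have hco : Nat.Coprime 3 (q ^ 2 - 1) := by
      rw [Nat.Prime.coprime_iff_not_dvd Nat.prime_three]
      intro hd
      have h1 : 3 ∣ q ^ 2 := dvd_pow h3q (by norm_num)
      have h2 : 1 ≤ q ^ 2 := Nat.one_le_pow _ _ hq1
      omega
    have hg : Nat.Coprime 3 (Nat.gcd 2 (q - 1)) :=
      Nat.Coprime.coprime_dvd_right (Nat.gcd_dvd_left _ _) (by norm_num)
    have h9 : 3 ^ 2 ∣ q := by
      have : 3 ^ 2 ∣ q * (q ^ 2 - 1) := by
        rw [← hc]; exact Dvd.dvd.mul_left (by simpa using h.d9) _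
      exact (Nat.Coprime.pow_left 2 hco).dvd_of_dvd_mul_right this
    have h27 : ¬ 3 ^ 3 ∣ q := by
      intro hd
      have : 3 ^ 3 ∣ Nat.gcd 2 (q - 1) * Nat.card G := by
        rw [hc]; exact Dvd.dvd.mul_right hd _
      exact h.n27 (by simpa using (Nat.Coprime.pow_left 3 hg).dvd_of_dvd_mul_left this)
    rw [hn] at h9 h27 ⊢
    rw [Nat.pow_dvd_pow_iff_le_right (by norm_num)] at h9 h27
    have : (n : ℕ) = 2 := by omega
    rw [this]; norm_num
  · exfalso
    refine not_ord_of_surj h (H := Matrix.SpecialLinearGroup (Fin 2) F)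
      (e.symm.toMonoidHom.comp (QuotientGroup.mk' _))
      (e.symm.surjective.comp (QuotientGroup.mk'_surjective _)) ?_
    exact Cfsg.Agent.S0262.result p 3 (by norm_num) (Ne.symm h3)

end S1

section S2

open Subgroup Matrix Cfsg.Agent.H44.C3F2
open scoped MatrixGroups

theorem f2 : E2.{u} := by
  rintro G _ _ h F _ _ ⟨e⟩
  have key : ∀ g : PGL(2, F), 3 ∣ orderOf g → orderOf g ∣ 6 := fun g h3 => by
    obtain ⟨k, hk⟩ := exists_dvd g
    rw [← e.symm.orderOf_eq] at hk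
    rcases h.o6 _ (h3.trans hk) with e' | e' <;> rw [e'] at hk
    exacts [hk.trans (by decide), hk]
  obtain ⟨a, ha⟩ := H15.exists_orderOf_sub_one (F := F)
  obtain ⟨b, hb⟩ := H15.exists_orderOf_add_one (F := F)
  have ka := key a
  have kb := key b
  have c := H58.O7.card_l3 (F := F)
  have q1 := Fintype.one_lt_card (α := F)
  have d9 := h.d9
  have n27 := h.n27
  rw [← Nat.card_congr e.toEquiv] at c
  rw [ha] at ka
  rw [hb] at kb
  rw [Nat.card_eq_fintype_card] at ka kb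
  simp only [H58.O7.nums, List.getD_cons_succ, List.getD_cons_zero] at c
  generalize Fintype.card F = q at *
  generalize Nat.card G = n at *
  have : q % 3 = 0 ∨ q % 3 = 1 ∨ q % 3 = 2 := by omega
  rcases this with r | r | r
  · have g1 : Nat.gcd 3 (q - 1) = 1 :=
      (Nat.prime_three.coprime_iff_not_dvd).2 (by omega)
    rw [g1, one_mul] at c
    exact absurd (c ▸ (pow_dvd_pow_of_dvd (Nat.dvd_of_mod_eq_zero r) 3).mul_right _) n27
  · have := Nat.le_of_dvd (by decide) (ka (by omega))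
    omega
  · have := Nat.le_of_dvd (by decide) (kb (by omega))
    have : q = 2 ∨ q = 5 := by omega
    rcases this with rfl | rfl <;> norm_num at c <;> omega

end S2

section S3

open Matrix Cfsg.Agent.H31
open Cfsg.Agent.H32.C3F3 hiding f3

theorem f3 : E3.{u} := by
  rintro G _ _ hG F _ _ q hF ⟨e⟩
  have hq := two_le_of_card_sq hF
  have hc := S0280.result hF 3 (by norm_num)
  rw [← Nat.card_congr e.toEquiv] at hc
  simp only [Finset.prod_range_succ, Finset.range_zero, Finset.prod_empty] at hc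
  norm_num at hc
  have hc' : Nat.gcd 3 (q + 1) * Nat.card G = q ^ 3 * ((q ^ 2 - 1) * (q ^ 3 + 1)) := by
    refine Nat.eq_of_mul_eq_mul_left q.succ_pos ?_
    rw [mul_left_comm, hc, Nat.succ_eq_add_one]
    ring
  have ho : ∀ x : SU 3 F q, x.1.1 *ᵥ Pi.single 2 1 = Pi.single 2 1 → 3 ∣ orderOf x →
      orderOf x = 3 ∨ orderOf x = 6 := fun x hx h => by
    rw [← orderOf_mk hF x hx, ← e.symm.orderOf_eq] at h ⊢
    exact hG.o6 _ h
  have hb : ∀ a b a' b' : F, bm a b a' b' *ᵥ Pi.single 2 1 = Pi.single 2 1 := fun a b a' b' => by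
    ext i
    fin_cases i <;> simp [bm]
  have h3 : q % 3 = 0 ∨ q % 3 = 1 ∨ q % 3 = 2 := by omega
  rcases h3 with h3 | h3 | h3
  · exfalso
    apply hG.n27
    rw [(Nat.Prime.coprime_iff_not_dvd Nat.prime_three).2 (by omega : ¬ 3 ∣ q + 1), one_mul] at hc'
    rw [hc']
    exact Dvd.dvd.mul_right (pow_dvd_pow_of_dvd (Nat.dvd_of_mod_eq_zero h3) 3) _
  · exfalso
    have h9 : 9 ∣ q - 1 := by
      have h := hG.d9.mul_left (Nat.gcd 3 (q + 1))
      rw [hc', sq_sub_one_eq (by omega)] at h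
      have c : ∀ n : ℕ, n % 3 ≠ 0 → Nat.Coprime 9 n := fun n hn =>
        Nat.Coprime.pow_left 2 ((Nat.Prime.coprime_iff_not_dvd Nat.prime_three).2 (by omega))
      refine (c (q + 1) (by omega)).dvd_of_dvd_mul_left
        ((c (q ^ 3 + 1) ?_).dvd_of_dvd_mul_right ((c (q ^ 3) ?_).dvd_of_dvd_mul_left h))
      · simp [Nat.add_mod, Nat.pow_mod, h3]
      · simp [Nat.pow_mod, h3]
    obtain ⟨l, -, hl⟩ := exists_order hF (d := 9)
      (by rw [sq_sub_one_eq (by omega)]; exact h9.mul_left _)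
    have l9 : l ^ 9 = 1 := hl ▸ pow_orderOf_eq_one l
    have l3 : l ^ 3 - 1 ≠ 0 := fun h => by
      have := orderOf_dvd_of_pow_eq_one (sub_eq_zero.1 h)
      rw [hl] at this
      omega
    have lq : frobQ hF l = l := by
      obtain ⟨m, hm⟩ := h9
      rw [frobQ_apply, show q = 9 * m + 1 by omega, pow_succ, pow_mul, l9, one_pow, one_mul]
    have l6 : l ^ 6 + l ^ 3 + 1 = 0 := mul_left_cancel₀ l3 (by linear_combination l9)
    obtain ⟨t, ht, htq⟩ : ∃ t : F, t ^ 3 - 3 * t + 1 = 0 ∧ frobQ hF t = t :=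
      ⟨l + l ^ 8, by linear_combination l6 +
        (l ^ 15 + l ^ 6 + 3 * l + 3 * l ^ 8) * l9, by rw [map_add, map_pow, lq]⟩
    obtain ⟨a, ha⟩ := (isInvol_frobQ hF).exists_trace_eq htq
    obtain ⟨b, hb'⟩ := (isInvol_frobQ hF).exists_norm_eq (a := 1 - a * frobQ hF a)
      (by rw [map_sub, map_one, map_mul, (isInvol_frobQ hF).invol, mul_comm])
    rw [frobQ_apply] at ha
    rw [frobQ_apply, frobQ_apply] at hb'
    have hab : a * a ^ q + b * b ^ q = 1 := by linear_combination hb'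
    obtain ⟨x, hx⟩ := exists_bm hF hab
    have x3 : (x ^ 3).1.1 = _ := (congrArg (· ^ 3) hx).trans (bm_cube hab ha)
    have tr : (t ^ 2 - 1) * a - t + ((t ^ 2 - 1) * a ^ q - t) = -1 := by
      linear_combination ht + (t ^ 2 - 1) * ha
    have x9 : x ^ 3 ^ 2 = 1 := by
      apply Subtype.ext
      apply Subtype.ext
      have : (x ^ 3 ^ 2).1.1 = (x ^ 3).1.1 ^ 3 := by
        rw [show x ^ 3 ^ 2 = (x ^ 3) ^ 3 by rw [← pow_mul]; rfl]; rfl
      rw [this, x3, bm_cube (by
        linear_combination (t ^ 2 - 1) ^ 2 * hab - t * (t ^ 2 - 1) * ha) tr]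
      simpa using bm_one
    have x1 : ¬ x ^ 3 ^ 1 = 1 := fun h => by
      rw [pow_one] at h
      rw [h] at x3
      have e0 := congrFun (congrFun x3 0) 0
      have e1 := congrFun (congrFun x3 1) 1
      simp [bm] at e0 e1
      apply l3
      have : (3 : F) = 0 := by linear_combination tr + e0 + e1
      have h27 : (l ^ 3 - 1) ^ 2 = 0 := by linear_combination l6 - l ^ 3 * this
      exact pow_eq_zero_iff two_ne_zero |>.1 h27
    haveI : Fact (Nat.Prime 3) := ⟨Nat.prime_three⟩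
    have := ho x (hx ▸ hb _ _ _ _)
    rw [orderOf_eq_prime_pow x1 x9] at this
    omega
  · obtain ⟨a, -, ha⟩ := exists_order hF (d := q + 1)
      (by rw [sq_sub_one_eq (by omega)]; exact Dvd.intro _ rfl)
    have a1 : a * a ^ q = 1 := by rw [← pow_succ', ← ha, pow_orderOf_eq_one]
    have z : (0 : F) ^ q = 0 := zero_pow (by omega)
    obtain ⟨x, hx⟩ := exists_bm hF (a := a) (b := 0) (by rw [a1, zero_mul, add_zero])
    rw [z] at hx
    have hxo : orderOf x = q + 1 := by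
      rw [← ha, orderOf_eq_orderOf_iff]
      intro k
      have xk : (x ^ k).1.1 = _ := (congrArg (· ^ k) hx).trans (bm_pow _ _ k)
      constructor
      · intro h
        rw [h] at xk
        have e0 := congrFun (congrFun xk 0) 0
        simpa [bm] using e0.symm
      · intro h
        apply Subtype.ext
        apply Subtype.ext
        rw [xk, ← pow_mul, mul_comm, pow_mul, h, one_pow]
        exact bm_one
    have := ho x (hx ▸ hb _ _ _ _)
    rw [hxo] at this
    omega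

end S3

section S4

open Subgroup
open Cfsg.Agent.H62.C3F4 hiding f4

theorem key4 {G : Type u} {H : Type} [Group G] [Group H] (hO : H81.Em.Ord3 G)
    (e : G ≃* H ⧸ center H) (x y : H) (h12 : x ^ 12 = 1) (h4 : x ^ 4 * y ≠ y * x ^ 4)
    (h6 : x ^ 6 * y ≠ y * x ^ 6) : False := by
  set g : G := e.symm (QuotientGroup.mk x) with hg
  have hp : ∀ k : ℕ, g ^ k = 1 ↔ x ^ k ∈ center H := by
    intro k
    rw [hg, ← map_pow, EmbeddingLike.map_eq_one_iff, ← QuotientGroup.mk_pow,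
      QuotientGroup.eq_one_iff]
  have h1 : orderOf g ∣ 12 := orderOf_dvd_of_pow_eq_one ((hp 12).2 (h12 ▸ one_mem _))
  have h2 : ¬ orderOf g ∣ 4 := fun h =>
    h4 ((mem_center_iff.1 ((hp 4).1 (orderOf_dvd_iff_pow_eq_one.1 h)) y).symm)
  have h3 : ¬ orderOf g ∣ 6 := fun h =>
    h6 ((mem_center_iff.1 ((hp 6).1 (orderOf_dvd_iff_pow_eq_one.1 h)) y).symm)
  have h5 : 3 ∣ orderOf g := by
    have := Nat.le_of_dvd (by norm_num) h1
    generalize orderOf g = n at *
    interval_cases n <;> simp_all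
  rcases hO.o6 g h5 with h | h <;> rw [h] at h3 <;> exact h3 (by norm_num)

theorem key42 {G : Type u} {H : Type} [Group G] [Group H] (hO : H81.Em.Ord3 G)
    (e : G ≃* H ⧸ center H) {n F : Type} [Fintype n] [DecidableEq n] [Field F]
    (h2 : (2 : F) ≠ 0) (ι : H →* Matrix n n F) (hι : Function.Injective ι)
    (X X2 X4 X6 Y : Matrix n n ℤ) (x y : H) (hx : ι x = (Int.castRingHom F).mapMatrix X)
    (hy : ι y = (Int.castRingHom F).mapMatrix Y) (e2 : X * X = X2) (e4 : X2 * X2 = X4)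
    (e6 : X4 * X2 = X6) (e12 : X6 * X6 = 1) (i j i' j' : n)
    (d4 : (X4 * Y) i j = (Y * X4) i j + 1) (d6 : (X6 * Y) i' j' = (Y * X6) i' j' + 2) :
    False := by
  have p4 : X ^ 4 = X4 := by rw [← e4, ← e2]; noncomm_ring
  have p6 : X ^ 6 = X6 := by rw [← e6, ← e4, ← e2]; noncomm_ring
  have p12 : X ^ 12 = 1 := by rw [← e12, ← p6, ← pow_add]
  refine key4 hO e x y (hι ?_) (fun h => ?_) (fun h => ?_)
  · rw [map_pow, hx, ← map_pow, p12, map_one, map_one]
  · have := congrArg ι h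
    rw [map_mul, map_mul, map_pow, hx, hy, ← map_pow, p4, ← map_mul, ← map_mul] at this
    have := congrFun (congrFun this i) j
    simp only [RingHom.mapMatrix_apply, Matrix.map_apply, d4, map_add, map_one] at this
    simp at this
  · have := congrArg ι h
    rw [map_mul, map_mul, map_pow, hx, hy, ← map_pow, p6, ← map_mul, ← map_mul] at this
    have := congrFun (congrFun this i') j'
    simp only [RingHom.mapMatrix_apply, Matrix.map_apply, d6, map_add] at this
    apply h2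
    simpa using this

theorem f4 : E4.{u} := by
  intro G _ _ hO F _ _ hq
  have h2 := two_ne hq
  refine ⟨?_, ?_, ?_⟩ <;> rintro ⟨e⟩
  · refine key42 hO e h2 (Matrix.symplecticGroup (Fin 2) F).subtype Subtype.val_injective
      (Matrix.fromBlocks 0 !![-1, 0; 0, -1] !![1, 0; 0, 1] !![-1, 0; 0, 0])
      (Matrix.fromBlocks !![-1, 0; 0, -1] !![1, 0; 0, 0] !![-1, 0; 0, 0] !![0, 0; 0, -1])
      (Matrix.fromBlocks !![0, 0; 0, 1] !![-1, 0; 0, 0] !![1, 0; 0, 0] !![-1, 0; 0, 1])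
      (Matrix.fromBlocks !![1, 0; 0, -1] 0 0 !![1, 0; 0, -1])
      (Matrix.fromBlocks !![0, 1; 1, 0] 0 0 !![0, 1; 1, 0])
      ⟨_, sp_map _ (by decide)⟩ ⟨_, sp_map _ (by decide)⟩ rfl rfl (by decide) (by decide)
      (by decide) (by decide) (.inl 1) (.inl 0) (.inl 0) (.inl 1) (by decide) (by decide)
  · refine key42 hO e h2 (Cfsg.slToMat 4 F) (sl_inj 4 F)
      !![0, -1, 0, 0; 1, -1, 0, 0; 0, 0, 0, -1; 0, 0, 1, 0]
      !![-1, 1, 0, 0; -1, 0, 0, 0; 0, 0, -1, 0; 0, 0, 0, -1]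
      !![0, -1, 0, 0; 1, -1, 0, 0; 0, 0, 1, 0; 0, 0, 0, 1]
      !![1, 0, 0, 0; 0, 1, 0, 0; 0, 0, -1, 0; 0, 0, 0, -1]
      !![0, 0, 1, 0; 0, 0, 0, 1; 1, 0, 0, 0; 0, 1, 0, 0]
      ⟨_, det_map _ ?_⟩ ⟨_, det_map _ ?_⟩ rfl rfl (by decide) (by decide)
      (by decide) (by decide) 2 0 0 2 (by decide) (by decide) <;>
    simp [Matrix.det_succ_row_zero, Fin.sum_univ_succ, Fin.succAbove]
  · refine key42 hO e h2 (Cfsg.slToMat 5 F) (sl_inj 5 F)
      !![0, -1, 0, 0, 0; 1, -1, 0, 0, 0; 0, 0, 0, -1, 0; 0, 0, 1, 0, 0; 0, 0, 0, 0, 1]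
      !![-1, 1, 0, 0, 0; -1, 0, 0, 0, 0; 0, 0, -1, 0, 0; 0, 0, 0, -1, 0; 0, 0, 0, 0, 1]
      !![0, -1, 0, 0, 0; 1, -1, 0, 0, 0; 0, 0, 1, 0, 0; 0, 0, 0, 1, 0; 0, 0, 0, 0, 1]
      !![1, 0, 0, 0, 0; 0, 1, 0, 0, 0; 0, 0, -1, 0, 0; 0, 0, 0, -1, 0; 0, 0, 0, 0, 1]
      !![0, 0, 1, 0, 0; 0, 0, 0, 1, 0; 1, 0, 0, 0, 0; 0, 1, 0, 0, 0; 0, 0, 0, 0, 1]
      ⟨_, det_map _ ?_⟩ ⟨_, det_map _ ?_⟩ rfl rfl (by decide) (by decide)
      (by decide) (by decide) 2 0 0 2 (by decide) (by decide) <;>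
    simp [Matrix.det_succ_row_zero, Fin.sum_univ_succ, Fin.succAbove]

end S4

section S5

open Subgroup Matrix
open Cfsg.Agent.H33.C3F5 hiding f5

theorem key5 {G : Type u} {H : Type} [Group G] [Group H] (hG : H81.Em.Ord3 G)
    (e : G ≃* H ⧸ center H) {x y w : H} {m : ℕ} (hc : Commute x y) (h3 : x ^ 3 = 1)
    (hm : y ^ m = 1) (h : ¬ 3 ∣ m) (hw : w * x ≠ x * w) : w * y ^ 6 = y ^ 6 * w := by
  let π := QuotientGroup.mk' (center H)
  have : Fact (Nat.Prime 3) := ⟨Nat.prime_three⟩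
  have o3 : orderOf (π x) = 3 := orderOf_eq_prime (by rw [← map_pow, h3, map_one]) fun e =>
    hw (mem_center_iff.1 ((QuotientGroup.eq_one_iff x).1 e) w)
  have d3 : 3 ∣ orderOf (π (x * y)) := by
    refine Dvd.dvd.trans ?_ (orderOf_pow_dvd m)
    rw [← map_pow, hc.mul_pow, hm, mul_one, map_pow, Nat.Coprime.orderOf_pow, o3]
    rw [o3]
    exact (Nat.Prime.coprime_iff_not_dvd Nat.prime_three).2 h
  have h6 := hG.o6 (e.symm (π (x * y)))
  rw [e.symm.orderOf_eq] at h6
  have h7 : π (x * y) ^ 6 = 1 := orderOf_dvd_iff_pow_eq_one.1 (by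
    rcases h6 d3 with e | e
    exacts [⟨2, by rw [e]⟩, ⟨1, by rw [e]⟩])
  rw [← map_pow, hc.mul_pow, show 6 = 3 * 2 from rfl, pow_mul, h3, one_pow, one_mul] at h7
  exact mem_center_iff.1 ((QuotientGroup.eq_one_iff _).1 h7) w

variable {F : Type} [Field F] {q : ℕ} {G : Type u} [Group G] [Fintype F]

theorem u4' (hG : H81.Em.Ord3 G) (hF : Fintype.card F = q ^ 2) (ho : Odd q) (h8 : q % 8 ≠ 7)
    (e : G ≃* PSU 4 F q) : False := by
  obtain ⟨hq, a, a0, ha', hd⟩ := pre hF
  by_cases h3 : q % 3 = 1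
  swap
  · refine hG.n27 (d27 (c := q ^ 3) h3 (by omega) (k := 4) (by decide) ?_)
    have h := S0280.result hF 4 (by norm_num)
    refine Nat.eq_of_mul_eq_mul_left q.succ_pos ?_
    rw [Nat.card_congr e.toEquiv, mul_left_comm, h]
    simp [Finset.prod_range_succ, show ¬ Even 3 by decide]
    ring
  have := congrArg (fun g => mt g 2 3) (key5 hG e (m := q + 1)
    (x := mk !![0, 0, 1, 0; 1, 0, 0, 0; 0, 1, 0, 0; 0, 0, 0, 1]
      (by simp [det_succ_row_zero, Fin.sum_univ_succ, Fin.succAbove])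
      fun u v => by simp [hermForm, Fin.sum_univ_four, mulVec, dotProduct]; ring)
    (y := dg ![a, a, a, (a : F)⁻¹ ^ 3] (by simp [Fin.prod_univ_four]; field_simp)
      fun i => by fin_cases i <;> simp [ha', pow_right_comm _ 3 (q + 1)])
    (w := mk !![1, 0, 0, 0; 0, 1, 0, 0; 0, 0, 0, 1; 0, 0, -1, 0]
      (by simp [det_succ_row_zero, Fin.sum_univ_succ, Fin.succAbove])
      fun u v => by simp [hermForm, Fin.sum_univ_four, mulVec, dotProduct, ho.neg_pow]; ring)
    (mt_inj (by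
      rw [map_mul, map_mul, mt_mk, mt_dg]
      ext i j
      fin_cases i <;> fin_cases j <;> simp))
    (mt_inj (by
      rw [map_pow, mt_mk, map_one]
      ext i j
      fin_cases i <;> fin_cases j <;> simp [pow_succ, mul_apply, Fin.sum_univ_four]))
    (dg_pow _ _ _) (by omega) fun h => by
      have := congrArg (fun g => mt g 0 3) h
      simp [mt_mk, mul_apply, Fin.sum_univ_four] at this)
  simp only [map_mul, map_pow, mt_mk, mt_dg, diagonal_pow, mul_diagonal, diagonal_mul] at this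
  simp at this
  have h24 := hd 24 (by field_simp at this; linear_combination -this)
  have := Nat.le_of_dvd (by decide) h24
  obtain ⟨k, rfl⟩ := ho
  have : k ≤ 11 := by omega
  interval_cases k <;> omega

set_option maxHeartbeats 1000000 in
theorem u5' (hG : H81.Em.Ord3 G) (hF : Fintype.card F = q ^ 2) (ho : Odd q)
    (e : G ≃* PSU 5 F q) : False := by
  obtain ⟨hq, a, a0, ha', hd⟩ := pre hF
  by_cases h3 : q % 3 = 1
  swap
  · refine hG.n27 (d27 (c := q ^ 7 * (q ^ 5 + 1)) h3 (by omega) (k := 5) (by decide) ?_)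
    have h := S0280.result hF 5 (by norm_num)
    refine Nat.eq_of_mul_eq_mul_left q.succ_pos ?_
    rw [Nat.card_congr e.toEquiv, mul_left_comm, h]
    simp [Finset.prod_range_succ, show ¬ Even 3 by decide, show Even 4 by decide]
    ring
  have := congrArg (fun g => mt g 2 3) (key5 hG e (m := q + 1)
    (x := mk !![0, 0, 1, 0, 0; 1, 0, 0, 0, 0; 0, 1, 0, 0, 0; 0, 0, 0, 1, 0; 0, 0, 0, 0, 1]
      (by simp [det_succ_row_zero, Fin.sum_univ_succ, Fin.succAbove])
      fun u v => by simp [hermForm, Fin.sum_univ_five, mulVec, dotProduct]; ring)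
    (y := dg ![1, 1, 1, a, (a : F)⁻¹] (by simp [Fin.prod_univ_five, a0])
      fun i => by fin_cases i <;> simp [ha'])
    (w := mk !![1, 0, 0, 0, 0; 0, 1, 0, 0, 0; 0, 0, 0, 1, 0; 0, 0, -1, 0, 0; 0, 0, 0, 0, 1]
      (by simp [det_succ_row_zero, Fin.sum_univ_succ, Fin.succAbove])
      fun u v => by simp [hermForm, Fin.sum_univ_five, mulVec, dotProduct, ho.neg_pow]; ring)
    (mt_inj (by
      rw [map_mul, map_mul, mt_mk, mt_dg]
      ext i j
      fin_cases i <;> fin_cases j <;> simp))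
    (mt_inj (by
      rw [map_pow, mt_mk, map_one]
      ext i j
      fin_cases i <;> fin_cases j <;> simp [pow_succ, mul_apply, Fin.sum_univ_five]))
    (dg_pow _ _ _) (by omega) fun h => by
      have := congrArg (fun g => mt g 0 3) h
      simp [mt_mk, mul_apply, Fin.sum_univ_five] at this)
  simp only [map_mul, map_pow, mt_mk, mt_dg, diagonal_pow, mul_diagonal, diagonal_mul] at this
  simp at this
  have := Nat.le_of_dvd (by decide) (hd 6 this)
  obtain ⟨k, rfl⟩ := ho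
  omega

omit [Fintype F] in
theorem f5 : E5.{u} := fun _ _ _ hG _ _ _ _ hF ho =>
  ⟨fun h8 ⟨e⟩ => u4' hG hF ho h8 e, fun ⟨e⟩ => u5' hG hF ho e⟩

end S5

section S6

open Cfsg.Agent.H9.GH Cfsg.Agent.H42 Cfsg.Agent.H83.C3F

variable {G : Type u} [Group G]

theorem no15' (h : H81.Em.Ord3 G) {X : Type*} [Group X] (e : G ≃* X) (x : X) (h15 : x ^ 15 = 1)
    (h5 : x ^ 5 ≠ 1) (h6 : x ^ 6 ≠ 1) : False := by
  have k := h.o6 (e.symm x)
  rw [MulEquiv.orderOf_eq] at k
  rw [Ne, ← orderOf_dvd_iff_pow_eq_one] at h5 h6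
  rw [← orderOf_dvd_iff_pow_eq_one] at h15
  have := Nat.le_of_dvd (by norm_num) h15
  generalize orderOf x = n at *
  interval_cases n <;> simp_all

theorem noA8' (h : H81.Em.Ord3 G) (e : G ≃* alternatingGroup (Fin 8)) : False :=
  no15' h e ⟨c[0, 1, 2] * c[3, 4, 5, 6, 7], Equiv.Perm.mem_alternatingGroup.2 (by decide +kernel)⟩
    (Subtype.ext (by decide +kernel)) (fun k => absurd (congrArg Subtype.val k) (by decide +kernel))
    (fun k => absurd (congrArg Subtype.val k) (by decide +kernel))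

theorem noM23' (h : H81.Em.Ord3 G) (e : G ≃* Spor.M23) : False := by
  obtain ⟨h1, h2⟩ := H74.test23 980668664602271594664255405716576964 (by decide +kernel)
  have k : ∀ n, (⟨_, h2⟩ : Spor.M23) ^ n = 1 ↔ ppow 980668664602271594664255405716576964 n = pid :=
    fun n => by rw [← toPerm_eq_one_iff (isPerm_ppow h1 n), toPerm_ppow h1, Subtype.ext_iff]; rfl
  exact no15' h e _ ((k _).2 (by decide +kernel)) (mt (k _).1 (by decide +kernel))
    (mt (k _).1 (by decide +kernel))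

/-- **FIL** -/
theorem fil : H81.Em.FilStmt.{u} := by
  rintro G _ _ h ⟨n0, hn0, hn1⟩ hl
  have n27 : ∀ {n}, Nat.card G = n → 27 ∣ n → Spor.IsoM11 G := fun e k => (h.n27 (e ▸ k)).elim
  have d9 : ∀ {n}, Nat.card G = n → ¬ 9 ∣ n → Spor.IsoM11 G := fun e k => (k (e ▸ h.d9)).elim
  have no : ∀ {n}, Nat.card G = n → n % 432 ≠ 144 → Spor.IsoM11 G := fun e k => by omega
  have l3 : ∀ (F : Type) [Field F] [Fintype F], Fintype.card F = 4 ∨ Fintype.card F = 7 →
      Nonempty (G ≃* Matrix.ProjectiveSpecialLinearGroup (Fin 3) F) → Spor.IsoM11 G := by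
    rintro F _ _ hF ⟨e⟩
    have c := H58.O7.card_l3 (F := F)
    rw [← Nat.card_congr e.toEquiv] at c
    simp only [H58.O7.nums, List.getD_cons_succ, List.getD_cons_zero] at c
    rcases hF with hF | hF <;> rw [hF] at c <;> norm_num at c <;> omega
  rcases hl with hl | hl
  · rcases hl with ⟨F, -, -, e⟩ | ⟨F, -, e⟩ | ⟨F, q, hq, o, e⟩ | ⟨F, hq, e⟩ | e | e
    · have c := H28.card_PSL2 (F := F) (f1 G h F e)
      obtain ⟨e⟩ := e
      rw [← Nat.card_congr e.toEquiv] at c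
      norm_num at c
      omega
    · exact l3 F (f2 G h F e) e
    · obtain rfl : q = 5 := (f3 G h F q hq e).resolve_left (by rintro rfl; revert o; decide)
      obtain ⟨e⟩ := e
      have c := S0280.result hq 3 (by norm_num)
      rw [← Nat.card_congr e.toEquiv] at c
      simp only [Finset.prod_range_succ, Finset.range_zero, Finset.prod_empty] at c
      norm_num at c
      omega
    · have := f3 G h F 4 hq e
      omega
    · exact no (H58.O7.card_alt (by omega) e) (by decide)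
    · exact e
  rcases hl with ⟨F, -, ⟨e⟩⟩ | ⟨K, q, -, b, ⟨e⟩⟩ | ⟨F, o, e⟩ | e | ⟨F, o, -, e⟩ |
    ⟨F, q, a, o, b, e⟩ | ⟨F, o, e⟩ | ⟨F, q, a, o, e⟩ | ⟨F, o, e⟩ | ⟨F, o, e⟩ | ⟨F, a, e⟩ |
    ⟨n, a, b, e⟩ | e | e | ⟨⟨e⟩⟩ | e | e | e | e | e
  · exact n27 ((Nat.card_congr e.toEquiv).trans (S1059.result rfl)) (d27 _)
  · refine n27 ((Nat.card_congr e.toEquiv).trans
      (S1067.result (H58.O7.pp_of_pow (by norm_num) b) b)) (Dvd.dvd.mul_right ?_ _)
    rw [show q ^ 12 = q ^ 6 * q ^ 6 by ring, mul_assoc, mul_assoc, ← mul_assoc (q ^ 6) _ (_ - _)]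
    exact (d27 q).mul_left _
  · exact ((f4 G h F o).1 e).elim
  · obtain ⟨-, m, hm, k⟩ := H21.isRee_of_reeType e
    exact n27 k (((pow_dvd_pow_of_dvd (dvd_pow_self 3 (by omega)) 3).mul_right _).mul_right _)
  · exact ((f4 G h F o).2.1 e).elim
  · exact ((f5 G h F q a o).1 b e).elim
  · exact ((f4 G h F (Nat.odd_iff.2 (by omega))).2.2 e).elim
  · exact ((f5 G h F q a (Nat.odd_iff.2 (by omega))).2 e).elim
  · have := f1 G h F e
    omega
  · exact l3 F (.inl o) e
  · exact d9 (e.elim fun e => (Nat.card_congr e.toEquiv).trans (H62.card_sz (m := 1) le_rfl a))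
      (by decide)
  · have k := H58.O7.card_alt (by omega) e
    interval_cases n
    exacts [e.elim fun e => (noA8' h e).elim, n27 k (by decide), n27 k (by decide), n27 k (by decide)]
  · exact n27 (e.elim fun e => (Nat.card_congr e.toEquiv).trans H74.card_M12) (by decide)
  · exact no (e.elim fun e => (Nat.card_congr e.toEquiv).trans H74.card_M22) (by decide)
  · exact (noM23' h e).elim
  · exact d9 (H8.GD.card_of_isoJ1 e) (by decide)
  · exact n27 (H70.IsoJ2.card e) (by decide)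
  · exact n27 (H70.IsoJ3.card e) (by decide)
  · exact n27 (e.elim fun e => (Nat.card_congr e.toEquiv).trans H48.card_McL) (by decide)
  · exact n27 (e.elim fun e => (Nat.card_congr e.toEquiv).trans H81.Ly.card_Ly) (by decide)

end S6

end Cfsg.Agent.H85.EmF
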