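import Cfsg.Agent.H85.FPMain
import Cfsg.Agent.H87.Quat
import Cfsg.Agent.H15.Even3
import Cfsg.Agent.H9.GWBasic
import Cfsg.Agent.H10.ElemCent
import Cfsg.Agent.H51.Constraint
import Cfsg.Agent.H67.Fit

/-! Groups without elements of order `2r`. -/

set_option autoImplicit false

namespace Cfsg.Agent.FPN

open Cfsg Cfsg.Agent.H63 Cfsg.Agent.H67 Subgroup
open Cfsg.Agent.H85.FP (MainStmt Hyp)
open Cfsg.Agent.H53.OpK (dec_of_odd)

universe u v

variable {G : Type u} [Group G] [Finite G] {r : ℕ}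

theorem no_two (hr : r.Prime) (hodd : r ≠ 2) (hno : ∀ g : G, orderOf g ≠ 2 * r)
    {X Y : Subgroup G} (h : X ≤ C[Y]) (hX : r ∣ Nat.card X) (hY : 2 ∣ Nat.card Y) : False := by
  obtain ⟨x, hx, ox⟩ := H3.exists_mem_orderOf_eq_prime hr hX
  obtain ⟨y, hy, oy⟩ := H3.exists_mem_orderOf_eq_prime Nat.prime_two hY
  refine hno (y * x) ?_
  rw [Commute.orderOf_mul_eq_mul_orderOf_of_coprime (h hx y hy), ox, oy]
  rw [ox, oy]
  exact (Nat.coprime_primes Nat.prime_two hr).2 hodd.symm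

theorem dvd_of_pgrp {p : ℕ} (hp : p.Prime) {Z : Subgroup G} (hZ : IsPGroup p Z) (h0 : Z ≠ ⊥) :
    p ∣ Nat.card Z :=
  haveI := Fact.mk hp
  hZ.card_eq_or_dvd.resolve_left fun e => h0 (card_eq_one.1 e)

theorem idx_two {Q : Subgroup G} (hQ : IsPGroup 2 Q)
    (h : ∀ x ∈ Q, ∀ y ∈ Q, orderOf x = 2 → orderOf y = 2 → x = y) :
    ∃ a : G, ∀ x ∈ Q, ∀ y ∈ Q, x ∈ zpowers a ∨ y ∈ zpowers a ∨ x * y ∈ zpowers a := by
  rcases H87.isCyclic_or_quaternion_of_inv_unique hQ h with h1 | ⟨n, -, ⟨e⟩⟩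
  · obtain ⟨a, ha⟩ := h1.exists_generator
    refine ⟨a, fun x hx _ _ => Or.inl ?_⟩
    obtain ⟨k, hk⟩ := ha ⟨x, hx⟩
    exact ⟨k, congrArg Subtype.val hk⟩
  have k1 : ∀ (x : Q) i, e x = QuaternionGroup.a i →
      (x : G) ∈ zpowers (e.symm (QuaternionGroup.a 1) : G) := fun x i hi => by
    refine ⟨(i.val : ℕ), ?_⟩
    have : e.symm (QuaternionGroup.a 1) ^ i.val = x := by
      rw [← map_pow, QuaternionGroup.a_one_pow, ZMod.natCast_zmod_val, ← hi, e.symm_apply_apply]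
    rw [← this]
    exact zpow_natCast _ _
  refine ⟨e.symm (QuaternionGroup.a 1), fun x hx y hy => ?_⟩
  rcases ex : e ⟨x, hx⟩ with i | i
  · exact Or.inl (k1 _ i ex)
  rcases ey : e ⟨y, hy⟩ with j | j
  · exact Or.inr (Or.inl (k1 _ j ey))
  exact Or.inr (Or.inr (k1 (⟨x, hx⟩ * ⟨y, hy⟩) _ (by rw [map_mul, ex, ey, QuaternionGroup.xa_mul_xa])))

theorem inv_uniq (hr : r.Prime) (hodd : r ≠ 2) (hno : ∀ g : G, orderOf g ≠ 2 * r)
    {P V : Subgroup G} (hP : IsPGroup r P) (h0 : P ≠ ⊥) (hV : IsPGroup 2 V) (hn : V ≤ N[P]) :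
    ∀ x ∈ V, ∀ y ∈ V, orderOf x = 2 → orderOf y = 2 → x = y := by
  have sq : ∀ x : G, orderOf x = 2 → x * x = 1 := fun x ox => by
    rw [← pow_two, ← ox, pow_orderOf_eq_one]
  have inv : ∀ x ∈ V, orderOf x = 2 → ∀ d ∈ P, x * d * x⁻¹ = d⁻¹ := fun x hx ox =>
    H10.inverts_of_fixedPointFree (sq x ox) (fun d hd => (mem_normalizer_iff.1 (hn hx) d).1 hd)
      fun d hd hc => by
        by_contra d1
        refine no_two hr hodd hno (X := zpowers d) (Y := zpowers x) ?_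
          (dvd_of_pgrp hr (hP.to_le (zpowers_le.2 hd)) (zpowers_ne_bot.2 d1))
          (by rw [Nat.card_zpowers, ox])
        rintro _ ⟨i, rfl⟩ _ ⟨j, rfl⟩
        exact (hc.zpow_zpow i j).symm
  intro x hx y hy ox oy
  by_contra hne
  refine no_two hr hodd hno (X := P) (Y := zpowers (x * y)) ?_ (dvd_of_pgrp hr hP h0)
    (dvd_of_pgrp Nat.prime_two (hV.to_le (zpowers_le.2 (mul_mem hx hy)))
      (zpowers_ne_bot.2 fun e => hne ?_))
  · rw [le_centralizer_iff, zpowers_le]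
    intro d hd
    have h1 : x * y * d * (x * y)⁻¹ = d := by
      have := inv x hx ox _ (inv_mem hd)
      rw [inv_inv, ← inv y hy oy d hd] at this
      conv_rhs => rw [← this]
      group
    exact (mul_inv_eq_iff_eq_mul.1 h1).symm
  · exact mul_right_cancel (b := y) (e.trans (sq y oy).symm)

theorem meet_cyc {S U : Subgroup G} (hS : ¬ Group.IsSolvable S) (T : Sylow 2 S)
    (hU : (T : Subgroup S).map S.subtype ≤ U) {a : G}
    (h : ∀ x ∈ U, ∀ y ∈ U, x ∈ zpowers a ∨ y ∈ zpowers a ∨ x * y ∈ zpowers a) :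
    ∃ t ∈ S, t ∈ zpowers a ∧ orderOf t = 2 := by
  have h1 : (T : Subgroup S).map S.subtype ⊓ zpowers a ≠ ⊥ := by
    intro e
    refine H15.not_cyclic_sylow_two hS T ?_
    have k : ∀ x : T, ((x : S) : G) ∈ zpowers a → x = 1 := fun x hx =>
      Subtype.ext (Subtype.ext (mem_bot.1 (e ▸ mem_inf.2 ⟨⟨x, x.2, rfl⟩, hx⟩)))
    by_cases h0 : ∀ x : T, x = 1
    · exact ⟨1, fun x => ⟨0, by rw [h0 x]; exact zpow_zero _⟩⟩
    push Not at h0
    obtain ⟨x, hx⟩ := h0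
    refine ⟨x, fun y => ?_⟩
    rcases h _ (hU ⟨x, x.2, rfl⟩) _ (hU ⟨y, y.2, rfl⟩) with h1 | h1 | h1
    · exact (hx (k x h1)).elim
    · exact ⟨0, by rw [k y h1]; exact zpow_zero _⟩
    · exact ⟨-1, by simpa using (eq_inv_of_mul_eq_one_right (k (x * y) h1)).symm⟩
  obtain ⟨t, ht, ot⟩ := H3.exists_mem_orderOf_eq_prime Nat.prime_two
    (dvd_of_pgrp Nat.prime_two ((T.2.map _).to_le inf_le_left) h1)
  exact ⟨t, map_subtype_le _ ht.1, ht.2, ot⟩

theorem s4008 (hm : MainStmt.{u}) (hns : ¬ Group.IsSolvable G)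
    (r : ℕ) (hr : r.Prime) (hodd : r ≠ 2) (hrG : r ∣ Nat.card G) (hno : ∀ g : G, orderOf g ≠ 2 * r)
    (R : Subgroup G) [R.Normal] (hRs : Group.IsSolvable ↥R)
    (hRmax : ∀ N : Subgroup G, N.Normal → Group.IsSolvable ↥N → N ≤ R) :
    ∃ S : Subgroup (G ⧸ R), S.Normal ∧ IsSimpleGroup ↥S ∧ ¬ IsMulCommutative ↥S ∧
      Subgroup.centralizer (S : Set (G ⧸ R)) = ⊥ := by
  haveI := Fact.mk hr
  have hf := QuotientGroup.mk'_surjective R
  have hA : ∀ M : Subgroup (G ⧸ R), ⊤ ≤ N[M] → Group.IsSolvable M → M = ⊥ := by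
    intro M hM hs
    haveI : M.Normal := normalizer_eq_top_iff.1 (top_le_iff.1 hM)
    have h1 : Group.IsSolvable (M.comap (QuotientGroup.mk' R)) := by
      refine Group.isSolvable_of_ker_le_range (inclusion (QuotientGroup.le_comap_mk' R M))
        ((QuotientGroup.mk' R).subgroupComap M) fun x hx => ?_
      exact ⟨⟨x, (QuotientGroup.eq_one_iff _).1 (congrArg Subtype.val hx)⟩, rfl⟩
    rw [← map_comap_eq_self_of_surjective hf M, Subgroup.map_eq_bot_iff, QuotientGroup.ker_mk']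
    exact hRmax _ inferInstance h1
  have hB : ∀ g : G ⧸ R, orderOf g ≠ 2 * r := by
    intro g hg
    obtain ⟨x, rfl⟩ := hf g
    exact hno _ (orderOf_pow_orderOf_div (orderOf_pos x).ne' (hg ▸ orderOf_map_dvd _ x))
  have ev : ∀ S : Subgroup (G ⧸ R), ¬ Group.IsSolvable S → 2 ∣ Nat.card S := fun S hS =>
    even_iff_two_dvd.1 (Nat.not_odd_iff_even.1 fun h => hS (S0205.result h))
  have key : ∀ S₁ S₂ : Subgroup (G ⧸ R), ¬ Group.IsSolvable S₁ → ¬ Group.IsSolvable S₂ →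
      S₁ ≤ C[S₂] → S₁ ⊓ S₂ = ⊥ → ¬ r ∣ Nat.card R ∧ ¬ r ∣ Nat.card S₁ := by
    refine fun S₁ S₂ h1 h2 hc hi => ⟨fun hd => ?_, fun hd => no_two hr hodd hB hc hd (ev _ h2)⟩
    obtain ⟨P⟩ : Nonempty (Sylow r R) := inferInstance
    obtain ⟨T₁⟩ : Nonempty (Sylow 2 S₁) := inferInstance
    obtain ⟨T₂⟩ : Nonempty (Sylow 2 S₂) := inferInstance
    have hU : IsPGroup 2 ↥((T₁ : Subgroup S₁).map S₁.subtype ⊔ (T₂ : Subgroup S₂).map S₂.subtype) :=
      IsPGroup.to_sup_of_normal_right' (T₁.2.map _) (T₂.2.map _) ((((map_subtype_le _).trans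
        hc).trans (centralizer_le (map_subtype_le _))).trans (centralizer_le_normalizer _))
    have hs : Function.Surjective ((QuotientGroup.mk' R).comp
        (N[(P : Subgroup R).map R.subtype]).subtype) := by
      rw [← MonoidHom.range_eq_top, ← MonoidHom.map_range, range_subtype, ← top_le_iff,
        ← map_top_of_surjective _ hf, ← P.normalizer_sup_eq_top, Subgroup.map_sup,
        QuotientGroup.map_mk'_self, sup_bot_eq]
    obtain ⟨V, hV, hVU⟩ := H51.exists_isPGroup_map_eq hs hU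
    rw [← map_map] at hVU
    obtain ⟨a, ha⟩ := idx_two (hV.map _) (inv_uniq hr hodd hno (P.2.map R.subtype)
      (syl_ne_bot (syl_map_sylow P) hd) (hV.map _) (map_subtype_le V))
    have hb : ∀ x ∈ (T₁ : Subgroup S₁).map S₁.subtype ⊔ (T₂ : Subgroup S₂).map S₂.subtype,
        ∀ y ∈ (T₁ : Subgroup S₁).map S₁.subtype ⊔ (T₂ : Subgroup S₂).map S₂.subtype,
        x ∈ zpowers (QuotientGroup.mk' R a) ∨ y ∈ zpowers (QuotientGroup.mk' R a) ∨
          x * y ∈ zpowers (QuotientGroup.mk' R a) := by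
      rw [← hVU, ← MonoidHom.map_zpowers]
      rintro _ ⟨x, hx, rfl⟩ _ ⟨y, hy, rfl⟩
      rw [← map_mul]
      exact (ha x hx y hy).imp (mem_map_of_mem _) (Or.imp (mem_map_of_mem _) (mem_map_of_mem _))
    obtain ⟨t, t1, t2, t3⟩ := meet_cyc h1 T₁ le_sup_left hb
    obtain ⟨s, s1, s2, s3⟩ := meet_cyc h2 T₂ le_sup_right hb
    obtain rfl := H9.GW.inv_unique t2 s2 t3 s3
    rw [show t = 1 from mem_bot.1 (hi ▸ mem_inf.2 ⟨t1, s1⟩), orderOf_one] at t3
    exact absurd t3 (by decide)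
  have dv : ¬ r ∣ Nat.card R → ∀ M : Subgroup (G ⧸ R), ⊤ ≤ N[M] → M ≠ ⊥ → r ∣ Nat.card M := by
    intro hd M hM h0
    by_contra hn
    rw [card_eq_card_quotient_mul_card_subgroup R, hr.dvd_mul] at hrG
    obtain ⟨a, oa⟩ := exists_prime_orderOf_dvd_card' r (hrG.resolve_right hd)
    have ca : Nat.card (zpowers a) = r := by rw [Nat.card_zpowers, oa]
    have ho : Odd (Nat.card ↥(M ⊓ C[zpowers a])) := by
      by_contra h
      exact no_two hr hodd hB (le_centralizer_iff.1 inf_le_right) ca.symm.dvd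
        (even_iff_two_dvd.1 (Nat.not_odd_iff_even.1 h))
    exact h0 (hA M hM (hm _ M (zpowers a) ⟨ca ▸ hr.coprime_iff_not_dvd.2 hn, le_top.trans hM,
      fun x hx t ht h1 h2 => (dec_of_odd ho t ht x hx h2 h1).symm⟩))
  have h0 : (⊤ : Subgroup (G ⧸ R)) ≠ ⊥ := fun e => hns (by
    have : R = ⊤ := by
      rw [← QuotientGroup.ker_mk' R, ← MonoidHom.comap_bot, ← e, comap_top]
    subst this
    exact Group.isSolvable_of_surjective (f := (⊤ : Subgroup G).subtype) fun x => ⟨⟨x, trivial⟩, rfl⟩)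
  obtain ⟨L, hL, -⟩ := exists_minNormal h0 le_normalizer
  have nL : ¬ Group.IsSolvable L := fun h => hL.ne_bot (hA L hL.norm h)
  have nC : ¬ IsMulCommutative L := fun h => nL (isSolvable_of_isMulCommutative h)
  have hC : ⊤ ≤ N[C[L]] := le_normalizer_centralizer hL.norm
  refine ⟨L, normalizer_eq_top_iff.1 (top_le_iff.1 hL.norm), ?_, nC, ?_⟩
  · obtain ⟨S, hS, hSL⟩ := exists_minNormal hL.ne_bot (le_normalizer (H := L))
    have nS : ¬ Group.IsSolvable S := fun h => by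
      obtain ⟨p, hp, hE⟩ := minnormal_solvable_abelem hS h
      exact hS.ne_bot (eq_bot_iff.2 ((hA _ (H83.norm_pCoreOf hL.norm) (isSolvable_of_isPGroup hp
        (H83.pCoreOf_isPGroup L))) ▸ H83.le_pCoreOf hSL hS.norm (H83.EA_isPGroup hE)))
    by_cases hn : ⊤ ≤ N[S]
    · obtain rfl := hL.eq hSL hS.ne_bot hn
      exact H18.OC.simple_of_min hS
    exfalso
    obtain ⟨g, -, hg⟩ := SetLike.not_le_iff_exists.1 hn
    have e1 : cj g L = L := cj_eq_self (hL.norm (mem_top g))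
    have h1 : L ≤ N[cj g S] := e1 ▸ (hS.cj g).norm
    have h2 : S ⊓ cj g S = ⊥ := hS.inf_eq_bot h1 fun hle => hg (cj_eq_self_iff.1
      (eq_of_le_of_card_ge hle (card_cj g S).le).symm)
    have h3 : cj g S ≤ L := e1 ▸ cj_mono hSL
    obtain ⟨k1, k2⟩ := key S (cj g S) nS (fun h => nS (cj_inv_cj g S ▸ H2.isSolvable_map _ h)) (by
      rw [← commutator_eq_bot_iff_le_centralizer, eq_bot_iff, ← h2]
      exact le_inf (H83.comm_le_left (h3.trans hS.norm)) (H83.comm_le_right (hSL.trans h1))) h2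
    have h4 : S ≤ O[{r}ᶜ](L) := le_piCoreOf ⟨hSL, hS.norm⟩ ((isPi_compl_singleton_iff hr).2 k2)
    exact (isPi_compl_singleton_iff hr).1 (isPi_piCoreOf _ L) (dv k1 _ (le_normalizer_piCoreOf hL.norm)
      fun e => hS.ne_bot (eq_bot_iff.2 (e ▸ h4)))
  · by_contra h
    obtain ⟨k1, k2⟩ := key C[L] L (fun h' => h (hA _ hC h')) nL le_rfl (by
      rw [inf_comm]
      exact hL.inf_eq_bot hC fun h' => nC (le_centralizer_iff_isMulCommutative.1 h'))
    exact k2 (dv k1 _ hC h)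

end Cfsg.Agent.FPN
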