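import Cfsg.Agent.S3017
import Cfsg.Agent.S3020
import Cfsg.Agent.H63.BG1
import Cfsg.Agent.H4.CoprimeAction

/-! Extremely closed abelian `p`-subgroups: the canonical transversal of the normalizer. -/

set_option autoImplicit false

namespace Cfsg.Agent.FPE

open Subgroup Cfsg Cfsg.Agent.H85 Cfsg.Agent.H81
open scoped commutatorElement

universe u

/-- the hypotheses -/
structure EC (p : ℕ) {G : Type*} [Group G] (H : Subgroup G) : Prop where
  pg : IsPGroup p H
  ab : ∀ a ∈ H, ∀ b ∈ H, a * b = b * a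
  cl : ∀ g : G, (H ⊔ cj g H) ⊓ normalizer (H : Set G) = H

/-- the canonical coset representatives -/
def Om (p : ℕ) {G : Type*} [Group G] (H : Subgroup G) (w : G) : Prop :=
  (orderOf w).Coprime p ∧ w ∈ H ⊔ cj w H

/-- `p'`-subgroups on which `H` acts without fixed points -/
structure Fam (p : ℕ) {G : Type*} [Group G] (H O : Subgroup G) : Prop where
  cop : (Nat.card O).Coprime p
  nrm : H ≤ normalizer (O : Set G)
  inf : ∀ x ∈ O, x ∈ normalizer (H : Set G) → x = 1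

variable {p : ℕ} {G : Type*} [Group G] {H O : Subgroup G}

theorem Fam.ord (hO : Fam p H O) {x : G} (hx : x ∈ O) : (orderOf x).Coprime p :=
  hO.cop.coprime_dvd_left (O.orderOf_dvd_natCard hx)

theorem Fam.mem (h : EC p H) (hO : Fam p H O) {x : G} (hx : x ∈ O ⊔ H)
    (hc : (orderOf x).Coprime p) : x ∈ O := (pquot_sup h.pg hO.nrm).mem hx hc

theorem om_one : Om p H 1 := ⟨by simp, one_mem _⟩

theorem Om.conj {w n : G} (hw : Om p H w) (hn : n ∈ normalizer (H : Set G)) :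
    Om p H (n * w * n⁻¹) := by
  refine ⟨by rw [H10.orderOf_conj]; exact hw.1, ?_⟩
  have := conj_mem_cj (g := n) hw.2
  rwa [cj_sup, cj_eq_of_mem_normalizer hn, ← cj_mul,
    show cj (n * w) H = cj (n * w * n⁻¹) H by
      rw [cj_mul _ n⁻¹, cj_eq_of_mem_normalizer (inv_mem hn)]] at this

theorem Om.map {G' : Type*} [Group G'] (f : G →* G') {w : G} (hw : Om p H w) :
    Om p (H.map f) (f w) :=
  ⟨hw.1.coprime_dvd_left (orderOf_map_dvd f w), by
    rw [← map_cj, ← Subgroup.map_sup]; exact mem_map_of_mem f hw.2⟩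

theorem om_sub {K : Subgroup G} (hK : H ≤ K) (w : K) : Om p (H.subgroupOf K) w ↔ Om p H w := by
  refine ⟨fun h => by simpa [map_subgroupOf_eq_of_le hK] using h.map K.subtype, fun h => ⟨?_, ?_⟩⟩
  · rw [← Subgroup.orderOf_coe]; exact h.1
  · rw [← mem_map_iff_mem K.subtype_injective, Subgroup.map_sup, map_cj,
      map_subgroupOf_eq_of_le hK]
    exact h.2

theorem EC.sub (h : EC p H) {K : Subgroup G} (hK : H ≤ K) : EC p (H.subgroupOf K) := by
  refine ⟨h.pg.comap_subtype, fun a ha b hb => Subtype.ext (h.ab _ ha _ hb), fun k => ?_⟩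
  refine le_antisymm ?_ (le_inf le_sup_left le_normalizer)
  rintro x ⟨hx, hxN⟩
  rw [← subgroupOf_normalizer_eq hK] at hxN
  have h1 : H.subgroupOf K ⊔ cj k (H.subgroupOf K) ≤ (H ⊔ cj (k : G) H).subgroupOf K := by
    rw [cj_subgroupOf]
    exact sup_le (comap_mono le_sup_left) (comap_mono le_sup_right)
  exact (h.cl k).le ⟨h1 hx, hxN⟩

theorem EC.quo (h : EC p H) {G' : Type*} [Group G'] (f : G →* G') (hf : Function.Surjective f)
    (hk : f.ker ≤ H) : EC p (H.map f) := by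
  refine ⟨h.pg.map f, ?_, fun g' => ?_⟩
  · rintro _ ⟨a, ha, rfl⟩ _ ⟨b, hb, rfl⟩
    rw [← map_mul, ← map_mul, h.ab a ha b hb]
  obtain ⟨g, rfl⟩ := hf g'
  refine le_antisymm ?_ (le_inf le_sup_left le_normalizer)
  rw [← map_cj, ← Subgroup.map_sup]
  rintro _ ⟨⟨x, hx, rfl⟩, hxN⟩
  refine mem_map_of_mem f ((h.cl g).le ⟨hx, ?_⟩)
  have := le_normalizer_comap f (H := H.map f) hxN
  rwa [comap_map_eq, sup_eq_left.2 hk] at this

variable [Finite G] [hp : Fact p.Prime]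

theorem EC.twist (h : EC p H) (g : G) : ∃ O : Subgroup G, Fam p H O ∧ O ⊔ H = H ⊔ cj g H ∧
    ∃ y ∈ O, y⁻¹ * g ∈ normalizer (H : Set G) := by
  set L := H ⊔ cj g H with hL
  have hS : IsSyl p H L := by
    obtain ⟨R, hR, hle⟩ := exists_isSyl_ge (H := L) h.pg le_sup_left
    have : H = R := by
      by_contra hne
      have := lt_inf_normalizer_of_lt hR.isPGroup (lt_of_le_of_ne hle hne)
      exact (this.trans_le (inf_le_inf_right _ hR.le)).ne (h.cl g).symm
    exact this ▸ hR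
  obtain ⟨h1, h2⟩ := S3020.result H h.pg ⟨⟨fun a b => Subtype.ext (h.ab _ a.2 _ b.2)⟩⟩ h.cl g L rfl
  have hn := hS.le.trans (le_normalizer.trans (H3.normalizer_le_normalizer_map_pPrimeCore (p := p) L))
  rw [sup_comm] at h1
  refine ⟨_, ⟨H3.map_pPrimeCore_coprime L, hn, fun x hx hxN => ?_⟩, h1, ?_⟩
  · exact mem_bot.1 (h2.le ⟨(h.cl g).le ⟨map_subtype_le _ hx, hxN⟩, hx⟩)
  have hS' : IsSyl p (cj g H) L := hS.of_card_le (isPGroup_cj g h.pg) le_sup_right (card_cj g H).ge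
  obtain ⟨l, hl, hlg⟩ := hS.exists_cj_eq hS'
  rw [← h1] at hl
  obtain ⟨y, hy, a, ha, rfl⟩ := (mem_sup_of_le_normalizer hn).mp hl
  refine ⟨y, hy, ?_⟩
  rw [cj_mul, cj_eq_of_mem ha] at hlg
  rw [← cj_eq_iff_mem_normalizer, cj_mul, ← hlg, cj_inv_cj]

theorem Fam.om (h : EC p H) (hO : Fam p H O) {w : G} (hw : w ∈ O) : Om p H w := by
  obtain ⟨O', hO', h1, y, hy, hn⟩ := h.twist w
  have h2 : y ∈ O := hO.mem h ((le_sup_left.trans h1.le).trans
    (sup_le le_sup_right (cj_le_of_mem le_sup_right (mem_sup_left hw))) hy) (hO'.ord hy)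
  have h3 := hO.inf _ (mul_mem (inv_mem h2) hw) hn
  refine ⟨hO.ord hw, h1.le (mem_sup_left ?_)⟩
  rwa [← inv_mul_eq_one.1 h3]

theorem Om.fam (h : EC p H) {w : G} (hw : Om p H w) :
    ∃ O : Subgroup G, Fam p H O ∧ w ∈ O ∧ O ⊔ H = H ⊔ cj w H := by
  obtain ⟨O, hO, h1, -⟩ := h.twist w
  exact ⟨O, hO, hO.mem h (h1.ge hw.2) hw.1, h1⟩

theorem EC.rep (h : EC p H) (g : G) : ∃ w, Om p H w ∧ w⁻¹ * g ∈ normalizer (H : Set G) := by
  obtain ⟨O, hO, -, y, hy, hn⟩ := h.twist g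
  exact ⟨y, hO.om h hy, hn⟩

theorem EC.uniq (h : EC p H) {a b : G} (ha : Om p H a) (hb : Om p H b)
    (hn : a⁻¹ * b ∈ normalizer (H : Set G)) : a = b := by
  obtain ⟨O, hO, h1, h2⟩ := ha.fam h
  have h3 : cj b H = cj a H := by
    rw [← mul_inv_cancel_left a b, cj_mul, cj_eq_of_mem_normalizer hn]
  exact inv_mul_eq_one.1 (hO.inf _ (mul_mem (inv_mem h1) (hO.mem h (by
    rw [h2, ← h3]; exact hb.2) hb.1)) hn)

theorem Om.inv (h : EC p H) {w : G} (hw : Om p H w) : Om p H w⁻¹ := by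
  obtain ⟨O, hO, h1, -⟩ := hw.fam h
  exact hO.om h (inv_mem h1)

theorem Om.comm (h : EC p H) {w a : G} (hw : Om p H w) (ha : a ∈ H) :
    Om p H (w * a * w⁻¹ * a⁻¹) := by
  obtain ⟨O, hO, h1, -⟩ := hw.fam h
  have := mul_mem h1 (nconj_mem (hO.nrm ha) (inv_mem h1))
  exact hO.om h (by simpa only [mul_assoc] using this)

theorem Om.eq_comm (h : EC p H) {w a : G} (hw : Om p H w) (ha : zpowers a = H) :
    ∃ v, Om p H v ∧ v * a * v⁻¹ * a⁻¹ = w := by
  obtain ⟨O, hO, h1, -⟩ := hw.fam h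
  have haH : a ∈ H := ha ▸ mem_zpowers a
  let f : O → O := fun v => ⟨v * a * (v : G)⁻¹ * a⁻¹, by
    simpa only [mul_assoc] using mul_mem v.2 (nconj_mem (hO.nrm haH) (inv_mem v.2))⟩
  have hf : Function.Injective f := fun u v huv => by
    have h2 : (u : G) * a * (u : G)⁻¹ = v * a * (v : G)⁻¹ :=
      mul_right_cancel (congrArg Subtype.val huv)
    refine Subtype.ext (inv_mul_eq_one.1 (hO.inf _ (mul_mem (inv_mem u.2) v.2) ?_))
    rw [← cj_eq_iff_mem_normalizer, ← ha, cj_zpowers]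
    congr 1
    calc _ = (u : G)⁻¹ * (v * a * (v : G)⁻¹) * u := by group
      _ = a := by rw [← h2]; group
  obtain ⟨v, hv⟩ := Finite.surjective_of_injective hf ⟨w, h1⟩
  exact ⟨v, hO.om h v.2, congrArg Subtype.val hv⟩

omit hp in
theorem inv_of_mul {P : G → Prop} {a : G} (h : ∀ x, P x → P (x * a)) :
    ∀ x, P x → P (x * a⁻¹) := fun x hx => by
  have : ∀ m : ℕ, P (x * a ^ m) := fun m => by
    induction m with
    | zero => simpa using hx
    | succ m ih => rw [pow_succ, ← mul_assoc]; exact h _ ih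
  have h2 : a⁻¹ = a ^ (orderOf a - 1) := by
    apply inv_eq_of_mul_eq_one_right
    rw [← pow_succ', Nat.sub_add_cancel (orderOf_pos a), pow_orderOf_eq_one]
  rw [h2]; exact this _

/-- `Ω ∩ K` is closed under products. -/
def Cl (p : ℕ) (H K : Subgroup G) : Prop :=
  ∀ a ∈ K, ∀ b ∈ K, Om p H a → Om p H b → Om p H (a * b)

theorem Cl.exists_fam (h : EC p H) {K : Subgroup G} (hK : H ≤ K) (hc : Cl p H K) :
    ∃ F : Subgroup G, Fam p H F ∧ ∀ x, x ∈ F ↔ x ∈ K ∧ Om p H x := by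
  let F : Subgroup G :=
    { carrier := {x | x ∈ K ∧ Om p H x}
      mul_mem' := fun {a b} ha hb => ⟨mul_mem ha.1 hb.1, hc a ha.1 b hb.1 ha.2 hb.2⟩
      one_mem' := ⟨one_mem _, om_one⟩
      inv_mem' := fun {a} ha => ⟨inv_mem ha.1, ha.2.inv h⟩ }
  refine ⟨F, ⟨?_, fun a ha => mem_normalizer_of_cj_le ?_, fun x hx hn => ?_⟩, fun _ => Iff.rfl⟩
  · refine (hp.out.coprime_iff_not_dvd.2 fun hd => ?_).symm
    obtain ⟨x, hx, ox⟩ := H3.exists_mem_orderOf_eq_prime hp.out hd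
    exact hp.out.one_lt.ne' (by simpa [ox] using hx.2.1)
  · rintro _ ⟨x, hx, rfl⟩
    exact ⟨mul_mem (mul_mem (hK ha) hx.1) (inv_mem (hK ha)), hx.2.conj (le_normalizer ha)⟩
  · exact (h.uniq om_one hx.2 (by simpa using hn)).symm

theorem EC.dec (h : EC p H) (hO : Fam p H O) {Y : Subgroup G} (hY : H ≤ normalizer (Y : Set G))
    {z w : G} (hz : z ∈ H) (hw : w ∈ O) (hc : ∀ a ∈ zpowers z, ⁅a, w⁆ ∈ Y) :
    ∃ y ∈ O ⊓ Y, y * w ∈ centralizer {z} := by
  have hzH := zpowers_le.2 hz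
  obtain ⟨k, hk⟩ := (h.pg.to_le hzH).exists_card_eq
  obtain ⟨n, hn, h1⟩ := H4.exists_centralizer_of_fixed_mod (A := zpowers z) (N := O ⊓ Y) (k := w)
    (hzH.trans (le_normalizer_inf hO.nrm hY))
    (by rw [hk]; exact ((hO.cop.coprime_dvd_left (card_dvd_of_le inf_le_left)).pow_right k).symm)
    (Or.inl (Group.isSolvable_of_comm fun a b => Subtype.ext (h.ab _ (hzH a.2) _ (hzH b.2))))
    fun a ha => mem_inf.2 ⟨mul_mem (nconj_mem (hO.nrm (hzH ha)) hw) (inv_mem hw), hc a ha⟩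
  exact ⟨n, hn, centralizer_le (Set.singleton_subset_iff.2 (mem_zpowers z)) h1⟩

theorem EC.good (h : EC p H) {z : G} (hz : z ∈ H) (hc : Cl p H (centralizer {z})) {w u : G}
    (hw : Om p H w) (hu : Om p H u) (huz : u ∈ centralizer {z}) : Om p H (w * u) := by
  obtain ⟨O, hO, h1, -⟩ := hw.fam h
  obtain ⟨O', hO', h2, -⟩ := h.twist (w * u)
  obtain ⟨y, hy, hyw⟩ := h.dec hO (Y := H ⊔ cj (w * u) H) (le_sup_left.trans le_normalizer) hz h1
    fun a ha => by
      have h3 : Commute u a := by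
        obtain ⟨k, rfl⟩ := ha
        exact Commute.zpow_right (mem_cent_singleton.1 huz) k
      have h4 := mul_mem_sup (zpowers_le.2 hz ha)
        (conj_mem_cj (g := w * u) (inv_mem (zpowers_le.2 hz ha)))
      rwa [show a * (w * u * a⁻¹ * (w * u)⁻¹) = ⁅a, w⁆ by
        rw [commutatorElement_def, mul_assoc w u, h3.inv_right.eq]; group] at h4
  have h3 := hc _ hyw u huz (hO.om h (mul_mem hy.1 h1)) hu
  have h5 : H ⊔ cj (y * w * u) H ≤ H ⊔ cj (w * u) H := by
    rw [mul_assoc, cj_mul y]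
    exact sup_le le_sup_left (cj_le_of_mem le_sup_right hy.2)
  have := O'.mul_mem (O'.inv_mem (hO'.mem h (h2.ge hy.2) (hO.ord hy.1)))
    (hO'.mem h (h2.ge (h5 h3.2)) h3.1)
  exact hO'.om h (by simpa only [mul_assoc, inv_mul_cancel_left] using this)

theorem EC.noncyclic (h : EC p H) (hn : ¬ IsCyclic H)
    (hc : ∀ z ∈ H, z ≠ 1 → Cl p H (centralizer {z})) : Cl p H ⊤ := by
  let J : Subgroup G :=
    { carrier := {j | ∀ w, Om p H w → Om p H (w * j)}
      mul_mem' := fun {a b} ha hb w hw => by rw [← mul_assoc]; exact hb _ (ha w hw)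
      one_mem' := fun w hw => by rwa [mul_one]
      inv_mem' := fun {a} ha => inv_of_mul ha }
  intro a _ b _ ha hb
  obtain ⟨O, hO, h1, -⟩ := hb.fam h
  obtain ⟨k, hk⟩ := h.pg.exists_card_eq
  exact H63.coprime_abelian_gen_cent1 (H := J) ⟨⟨fun a b => Subtype.ext (h.ab _ a.2 _ b.2)⟩⟩ hn
    hO.nrm (by rw [hk]; exact (hO.cop.pow_right k).symm)
    (fun z hz h2 u hu w hw => h.good hz (hc z hz h2) hw (hO.om h hu.1) hu.2) h1 a ha

theorem cop_mul_of_center (h : ((center G).index).Coprime p) {a b : G}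
    (ha : (orderOf a).Coprime p) (hb : (orderOf b).Coprime p) : (orderOf (a * b)).Coprime p := by
  have h1 : (a * b) ^ (center G).index = a ^ (center G).index * b ^ (center G).index :=
    congrArg Subtype.val ((MonoidHom.transferCenterPow G).map_mul a b)
  have h2 : Commute (a ^ (center G).index) (b ^ (center G).index) :=
    (mem_center_iff.1 (MonoidHom.transferCenterPow G b).2 _)
  refine (Nat.Coprime.mul_left h (ha.mul_left hb)).coprime_dvd_left (orderOf_dvd_of_pow_eq_one ?_)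
  rw [pow_mul, h1, h2.mul_pow, ← pow_mul, ← pow_mul, mul_comm _ (_ * _), mul_assoc, pow_mul,
    pow_orderOf_eq_one, one_pow, one_mul, mul_left_comm, pow_mul, pow_orderOf_eq_one, one_pow]

theorem EC.central (h : EC p H) {Z : Subgroup G} [Z.Normal] (hZ : Z ≤ H) (hc : Z ≤ center G)
    (ih : Cl p (H.map (QuotientGroup.mk' Z)) ⊤) : Cl p H ⊤ := by
  intro a _ b _ ha hb
  have hk : (QuotientGroup.mk' Z).ker ≤ H := by rwa [QuotientGroup.ker_mk']
  obtain ⟨F, hF, h1⟩ := ih.exists_fam (h.quo _ (QuotientGroup.mk'_surjective Z) hk) le_top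
  have ha' : a ∈ F.comap (QuotientGroup.mk' Z) := (h1 _).2 ⟨trivial, ha.map _⟩
  have hb' : b ∈ F.comap (QuotientGroup.mk' Z) := (h1 _).2 ⟨trivial, hb.map _⟩
  constructor
  · have h2 : ((center (F.comap (QuotientGroup.mk' Z))).index).Coprime p := by
      refine Nat.Coprime.coprime_dvd_left (index_dvd_of_le
        (H := Z.subgroupOf (F.comap (QuotientGroup.mk' Z))) fun z hz => mem_center_iff.2 fun g =>
          Subtype.ext (mem_center_iff.1 (hc hz) g)) ?_
      have h3 := relIndex_comap (⊥ : Subgroup (G ⧸ Z)) (QuotientGroup.mk' Z)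
        (F.comap (QuotientGroup.mk' Z))
      rw [MonoidHom.comap_bot, QuotientGroup.ker_mk', map_comap_eq_self_of_surjective
        (QuotientGroup.mk'_surjective Z), relIndex_bot_left] at h3
      exact (h3 ▸ hF.cop :)
    have := cop_mul_of_center h2 (a := ⟨a, ha'⟩) (b := ⟨b, hb'⟩)
      (by rw [← Subgroup.orderOf_coe]; exact ha.1) (by rw [← Subgroup.orderOf_coe]; exact hb.1)
    rwa [← Subgroup.orderOf_coe] at this
  · have h2 := ((h1 _).1 (mul_mem ha' hb')).2.2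
    rw [← map_mul, ← map_cj, ← Subgroup.map_sup, ← mem_comap, comap_map_eq,
      sup_eq_left.2 (hk.trans le_sup_left)] at h2
    exact h2

end Cfsg.Agent.FPE
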