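import Cfsg.Agent.H85.FPExt1

/-! Extremely closed cyclic `p`-subgroups. -/

set_option autoImplicit false

namespace Cfsg.Agent.FPE

open Subgroup Cfsg Cfsg.Agent.H85 Cfsg.Agent.H81
open scoped commutatorElement

variable {p : ℕ} {G : Type*} [Group G] {H : Subgroup G} {x : G}

theorem gen_conj (hx : zpowers x = H) {m : G} (hm : m ∈ normalizer (H : Set G)) :
    zpowers (m * x * m⁻¹) = H := by
  rw [← cj_zpowers, hx, cj_eq_of_mem_normalizer hm]

variable [Finite G] [hp : Fact p.Prime]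

theorem EC.conj_iff (h : EC p H) (hx : zpowers x = H) {k : G} :
    IsConj x k ↔ ∃ w, Om p H w ∧ ∃ m ∈ normalizer (H : Set G), k = w * (m * x * m⁻¹) := by
  constructor
  · intro hk
    obtain ⟨g, rfl⟩ := isConj_iff.1 hk
    obtain ⟨w, hw, hn⟩ := h.rep g
    exact ⟨_, hw.comm h (nconj_mem hn (hx ▸ mem_zpowers x)), _, hn, by group⟩
  · rintro ⟨w, hw, m, hm, rfl⟩
    obtain ⟨v, -, hv⟩ := hw.eq_comm h (gen_conj hx hm)
    exact isConj_iff.2 ⟨v * m, by rw [← hv]; group⟩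

theorem EC.caseA (h : EC p H) (hx : zpowers x = H) (ih : ∀ K, K ≠ ⊤ → H ≤ K → Cl p H K) {n w : G}
    (hn : n ∈ normalizer (H : Set G)) (hw : w ∈ H) (hw1 : w ≠ 1) (h1 : n * x * n⁻¹ = x * w)
    (h2 : n * w * n⁻¹ = w) (hc : Cl p H (centralizer {w})) : Cl p H ⊤ := by
  have hxH : x ∈ H := hx ▸ mem_zpowers x
  let S : Subgroup G :=
    { carrier := {s | ∀ k, IsConj x k → IsConj x (k * s)}
      mul_mem' := fun {a b} ha hb k hk => by rw [← mul_assoc]; exact hb _ (ha k hk)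
      one_mem' := fun k hk => by rwa [mul_one]
      inv_mem' := fun {a} ha => inv_of_mul ha }
  haveI : S.Normal := ⟨fun s hs g k hk => by
    have := (hs _ (hk.trans (isConj_iff.2 ⟨g⁻¹, rfl⟩))).trans (isConj_iff.2 ⟨g, rfl⟩)
    rwa [show g * (g⁻¹ * k * g⁻¹⁻¹ * s) * g⁻¹ = k * (g * s * g⁻¹) by group] at this⟩
  have hSn : H ≤ normalizer (S : Set G) := by rw [normalizer_eq_top]; exact le_top
  have h3 : ∀ i : ℕ, n ^ i * x * (n ^ i)⁻¹ = x * w ^ i := fun i => by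
    induction i with
    | zero => simp
    | succ i ih =>
      calc _ = n * (n ^ i * x * (n ^ i)⁻¹) * n⁻¹ := by rw [pow_succ']; group
        _ = n * x * n⁻¹ * (n * w * n⁻¹) ^ i := by rw [ih, conj_pow]; group
        _ = _ := by rw [h1, h2, pow_succ', mul_assoc]
  have hwS : w ∈ S := fun k hk => by
    obtain ⟨v, hv, m, hm, rfl⟩ := (h.conj_iff hx).1 hk
    obtain ⟨j, hj⟩ := mem_powers_iff_mem_zpowers.2 (hx.ge (nconj_mem' hm hxH))
    obtain ⟨a, rfl⟩ := mem_powers_iff_mem_zpowers.2 (hx.ge hw)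
    refine (h.conj_iff hx).2 ⟨v, hv, m * n ^ j, mul_mem hm (pow_mem hn j), ?_⟩
    have h4 : m⁻¹ * x ^ a * m = (x ^ a) ^ j := by
      rw [← pow_mul, mul_comm a, pow_mul, show x ^ j = m⁻¹ * x * m⁻¹⁻¹ by rw [inv_inv]; exact hj,
        conj_pow, inv_inv]
    calc _ = v * (m * (x * (m⁻¹ * x ^ a * m)) * m⁻¹) := by group
      _ = _ := by rw [h4, ← h3]; group
  have h4 : ∀ s ∈ S, ∃ e ∈ H, Om p H (x * s * e) := fun s hs => by
    obtain ⟨v, hv, m, hm, h5⟩ := (h.conj_iff hx).1 (hs x (IsConj.refl x))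
    exact ⟨_, inv_mem (nconj_mem hm hxH), by rwa [h5, mul_inv_cancel_right]⟩
  obtain ⟨F, hF, h5⟩ := (ih (S ⊔ H) (fun h5 => by
    obtain ⟨s, hs, a, ha, rfl⟩ := (mem_sup_of_le_normalizer hSn).1 (h5.ge (mem_top n))
    obtain ⟨e, he, h6⟩ := h4 s hs
    have h7 : s ∈ normalizer (H : Set G) := (mul_mem_cancel_right (le_normalizer ha)).1 hn
    have h8 := h.uniq om_one h6 (by
      simpa using mul_mem (mul_mem (le_normalizer hxH) h7) (le_normalizer he))
    have h9 : s ∈ H := (mul_mem_cancel_left hxH).1 ((mul_mem_cancel_right he).1 (h8 ▸ one_mem H))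
    rw [h.ab _ (mul_mem h9 ha) _ hxH, mul_inv_cancel_right] at h1
    exact hw1 (by simpa using h1)) le_sup_right).exists_fam h le_sup_right
  have h6 : ∀ s ∈ S, (orderOf s).Coprime p → s ∈ F := fun s hs => by
    obtain ⟨e, he, h6⟩ := h4 s hs
    refine hF.mem h ((mul_mem_cancel_left (mem_sup_right hxH)).1
      ((mul_mem_cancel_right (mem_sup_right he)).1 (mem_sup_left ((h5 _).2 ⟨?_, h6⟩))))
    exact mul_mem (mul_mem (mem_sup_right hxH) (mem_sup_left hs)) (mem_sup_right he)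
  have h7 : ∀ a, Om p H a → ∃ y ∈ S, (orderOf y).Coprime p ∧ Om p H (y⁻¹ * a) ∧
      y⁻¹ * a ∈ centralizer {w} := fun a ha => by
    obtain ⟨O, hO, h7, -⟩ := ha.fam h
    obtain ⟨y, hy, h8⟩ := h.dec hO hSn hw h7 fun b hb => by
      rw [commutatorElement_def, mul_assoc, mul_assoc, ← mul_assoc a]
      exact mul_mem (zpowers_le.2 hwS hb) (Normal.conj_mem ‹_› _ (inv_mem (zpowers_le.2 hwS hb)) a)
    exact ⟨y⁻¹, inv_mem hy.2, hO.ord (inv_mem hy.1), by
      rw [inv_inv]; exact ⟨hO.om h (mul_mem hy.1 h7), h8⟩⟩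
  intro a _ b _ ha hb
  obtain ⟨y, hy, oy, a1, a2⟩ := h7 a ha
  obtain ⟨z, hz, oz, b1, b2⟩ := h7 b hb
  have := h.good hw hc (h.good hw hc (hF.om h (mul_mem (h6 y hy oy) (h6 _
    (Normal.conj_mem ‹_› _ hz (y⁻¹ * a)) (by rwa [H10.orderOf_conj])))) a1 a2) b1 b2
  rwa [show y * (y⁻¹ * a * z * (y⁻¹ * a)⁻¹) * (y⁻¹ * a) * (z⁻¹ * b) = a * b by group] at this

theorem improve (hp2 : p ≠ 2) (hx : IsPGroup p (zpowers x)) {n : G} {m : ℕ}
    (h1 : n * x * n⁻¹ = x ^ (m + 1)) (h2 : x ^ m ≠ 1) (h3 : p ∣ m) :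
    ∃ i j : ℕ, x ^ j ≠ 1 ∧ n ^ i * x * (n ^ i)⁻¹ = x * x ^ j ∧ n ^ i * x ^ j * (n ^ i)⁻¹ = x ^ j := by
  obtain ⟨k, hk⟩ := hx.exists_card_eq
  rw [Nat.card_zpowers] at hk
  have h4 : ∀ i : ℕ, n ^ i * x * (n ^ i)⁻¹ = x ^ (m + 1) ^ i := fun i => by
    induction i with
    | zero => simp
    | succ i ih =>
      calc _ = n * (n ^ i * x * (n ^ i)⁻¹) * n⁻¹ := by rw [pow_succ']; group
        _ = _ := by rw [ih, ← conj_pow, h1, ← pow_mul, ← pow_succ']
  have hm : m ≠ 0 := by rintro rfl; simp at h2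
  have h5 : ¬ k ≤ padicValNat p m := fun h5 =>
    h2 (orderOf_dvd_iff_pow_eq_one.1 (hk ▸ (padicValNat_dvd_iff_le hm).2 h5))
  set i := p ^ (k - 1 - padicValNat p m) with hi
  have h6 := padicValNat.pow_sub_pow (p := p) (hp.out.odd_of_ne_two hp2) (x := m + 1) (y := 1)
    (by omega) (by simpa using h3) (fun h6 => hp.out.not_dvd_one ((Nat.dvd_add_right h3).1 h6))
    (n := i) (pow_ne_zero _ hp.out.ne_zero)
  rw [hi, padicValNat.prime_pow, ← hi, one_pow, Nat.add_sub_cancel] at h6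
  have h7 : 1 < (m + 1) ^ i := Nat.one_lt_pow (pow_ne_zero _ hp.out.ne_zero) (by omega)
  have h8 : m ∣ (m + 1) ^ i - 1 := by simpa using Nat.sub_dvd_pow_sub_pow (m + 1) 1 i
  obtain ⟨j, hj⟩ : ∃ j, (m + 1) ^ i = j + 1 := ⟨(m + 1) ^ i - 1, by omega⟩
  rw [hj, Nat.add_sub_cancel] at h6 h8
  have hj0 : j ≠ 0 := by omega
  refine ⟨i, j, fun h9 => ?_, by rw [h4, hj, pow_succ'], ?_⟩
  · have := (padicValNat_dvd_iff_le hj0).1 (hk ▸ orderOf_dvd_of_pow_eq_one h9)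
    omega
  · have h9 : p ^ (k - 1) * p ∣ j * j :=
      Nat.mul_dvd_mul ((padicValNat_dvd_iff_le hj0).2 (by omega)) (h3.trans h8)
    rw [← pow_succ, show k - 1 + 1 = k by omega, ← hk, orderOf_dvd_iff_pow_eq_one] at h9
    rw [← conj_pow, h4, hj, ← pow_mul, add_mul, pow_add, h9, one_mul, one_mul]

omit [Finite G] in
theorem shift_zero {k : ℕ} (hx : x ^ p ^ k = 1) (J : Finset ℕ) (hJ : ¬ p ∣ J.card) (f : G → ZMod p)
    (h : ∀ g, ∑ j ∈ J, f (x ^ j * g) = 0) (g : G) : f g = 0 := by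
  let S : Module.End (ZMod p) (G → ZMod p) := LinearMap.funLeft (ZMod p) (ZMod p) (x * ·)
  have h1 : ∀ (j : ℕ) (f : G → ZMod p) (g : G), (S ^ j) f g = f (x ^ j * g) := fun j => by
    induction j with
    | zero => simp
    | succ j ih =>
      intro f g
      rw [pow_succ, Module.End.mul_apply, ih, pow_succ', mul_assoc]
      rfl
  have h2 : (∑ j ∈ J, S ^ j) ^ p ^ k = ∑ j ∈ J, S ^ (j * p ^ k) := by
    have := congrArg (Polynomial.aeval S) (sum_pow_char_pow (R := Polynomial (ZMod p)) p k J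
      fun j => Polynomial.X ^ j)
    simpa [← pow_mul] using this
  have h3 : (∑ j ∈ J, S ^ j) f = 0 := funext fun g => by simpa [h1] using h g
  have h4 : ((∑ j ∈ J, S ^ j) ^ p ^ k) f = 0 := by
    obtain ⟨q, hq⟩ := Nat.exists_eq_succ_of_ne_zero (pow_ne_zero k hp.out.ne_zero)
    rw [hq, pow_succ, Module.End.mul_apply, h3, map_zero]
  have h5 := congrFun h4 g
  simp only [h2, LinearMap.sum_apply, Finset.sum_apply, h1] at h5
  simp only [mul_comm _ (p ^ k), pow_mul, hx,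
    one_pow, one_mul, Finset.sum_const, nsmul_eq_mul, Pi.zero_apply, mul_eq_zero] at h5
  exact h5.resolve_left fun h6 => hJ ((ZMod.natCast_eq_zero_iff _ _).1 h6)

omit [Finite G] in
theorem not_dvd_of_gen (hx : IsPGroup p (zpowers x)) (hx1 : x ≠ 1) {i : ℤ}
    (h : zpowers (x ^ i) = zpowers x) : ¬ (p : ℤ) ∣ i := fun hd => by
  obtain ⟨c, hc⟩ := h.ge (mem_zpowers x)
  obtain ⟨k, hk⟩ := hx ⟨x, mem_zpowers x⟩
  have h1 : (orderOf x : ℤ) ∣ i * c - 1 := by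
    rw [orderOf_dvd_iff_zpow_eq_one, zpow_sub, zpow_mul, zpow_one, mul_inv_eq_one]; exact hc
  obtain ⟨j, -, hj⟩ := (Nat.dvd_prime_pow hp.out).1
    (orderOf_dvd_of_pow_eq_one (congrArg Subtype.val hk : x ^ p ^ k = 1))
  have h2 : (p : ℤ) ∣ orderOf x := Int.natCast_dvd_natCast.2 (hj ▸ dvd_pow_self p (by
    rintro rfl; exact hx1 (orderOf_eq_one_iff.1 hj)))
  exact hp.out.not_dvd_one (Int.natCast_dvd_natCast.1
    ((Int.dvd_iff_dvd_of_dvd_sub (h2.trans h1)).1 (hd.mul_right c)))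

theorem gen_pow (hx : IsPGroup p (zpowers x)) {m : ℕ} (hm : ¬ p ∣ m) :
    zpowers (x ^ m) = zpowers x := by
  obtain ⟨k, hk⟩ := hx.exists_card_eq
  rw [Nat.card_zpowers] at hk
  exact le_antisymm (zpowers_le.2 (pow_mem (mem_zpowers x) m)) (zpowers_le.2
    (mem_of_pow_mem_of_coprime (hk ▸ (hp.out.coprime_iff_not_dvd.2 hm).pow_left k) (mem_zpowers _)))

open Classical in
theorem EC.card_split [Fintype G] (h : EC p H) (hx : zpowers x = H) (P : G → Prop) :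
    (Finset.univ.filter fun k => IsConj x k ∧ P k).card =
      ∑ j ∈ (Finset.range (orderOf x)).filter
        (fun j => ∃ m ∈ normalizer (H : Set G), m * x * m⁻¹ = x ^ j),
        (Finset.univ.filter fun w => Om p H w ∧ P (w * x ^ j)).card := by
  have hxH : x ∈ H := hx ▸ mem_zpowers x
  rw [← Finset.card_sigma]
  refine (Finset.card_bij (fun a _ => a.2 * x ^ a.1) ?_ ?_ ?_).symm
  · rintro ⟨j, w⟩ ha
    simp only [Finset.mem_sigma, Finset.mem_filter, Finset.mem_univ, true_and] at ha ⊢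
    obtain ⟨⟨-, m, hm, h1⟩, h2, h3⟩ := ha
    exact ⟨(h.conj_iff hx).2 ⟨w, h2, m, hm, by rw [h1]⟩, h3⟩
  · rintro ⟨j, w⟩ ha ⟨i, v⟩ hb e
    simp only [Finset.mem_sigma, Finset.mem_filter, Finset.mem_univ, true_and,
      Finset.mem_range] at ha hb e
    obtain rfl := h.uniq ha.2.1 hb.2.1 (by
      rw [show w⁻¹ * v = x ^ j * (x ^ i)⁻¹ by rw [eq_mul_inv_of_mul_eq e]; group]
      exact le_normalizer (mul_mem (pow_mem hxH j) (inv_mem (pow_mem hxH i))))
    obtain rfl := pow_injOn_Iio_orderOf ha.1.1 hb.1.1 (mul_left_cancel e)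
    rfl
  · intro k hk
    simp only [Finset.mem_filter, Finset.mem_univ, true_and] at hk
    obtain ⟨w, hw, m, hm, rfl⟩ := (h.conj_iff hx).1 hk.1
    obtain ⟨j, hj⟩ := mem_powers_iff_mem_zpowers.2 (hx.ge (nconj_mem hm hxH))
    have h1 : m * x * m⁻¹ = x ^ (j % orderOf x) := by rw [pow_mod_orderOf]; exact hj.symm
    refine ⟨⟨j % orderOf x, w⟩, ?_, by rw [h1]⟩
    simp only [Finset.mem_sigma, Finset.mem_filter, Finset.mem_univ, true_and, Finset.mem_range]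
    exact ⟨⟨Nat.mod_lt _ (orderOf_pos x), m, hm, h1⟩, hw, h1 ▸ hk.2⟩

theorem EC.sharp (h : EC p H) (hx : zpowers x = H) (hx1 : x ≠ 1)
    (hg : ∀ a, zpowers a = H → ∀ m ∈ normalizer (H : Set G), m * a * m⁻¹ ≠ a →
      zpowers (m * a * m⁻¹ * a⁻¹) = H) {a b g : G} (ha : Om p H a) (hb : Om p H b)
    (hn : g⁻¹ * (a⁻¹ * b) * g ∈ normalizer (H : Set G)) : a = b := by
  classical
  haveI := Fintype.ofFinite G
  have hxp : IsPGroup p (zpowers x) := hx ▸ h.pg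
  set J := (Finset.range (orderOf x)).filter
    (fun j => ∃ m ∈ normalizer (H : Set G), m * x * m⁻¹ = x ^ j) with hJ
  let c : G → ℕ := fun g' =>
    (Finset.univ.filter fun w => Om p H w ∧ (a * g)⁻¹ * w * g' ∈ normalizer (H : Set G)).card
  have h1 : ∀ g', ∑ j ∈ J, 1 = ∑ j ∈ J, c (x ^ j * g') := fun g' => by
    have h1 := h.card_split hx fun k => (a * g)⁻¹ * k * g' ∈ normalizer (H : Set G)
    have h2 := h.card_split hx fun k => k * ((a * g)⁻¹ * g') ∈ normalizer (H : Set G)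
    rw [← hJ] at h1 h2
    simp only [mul_assoc] at h1 h2
    simp only [c, mul_assoc]
    refine Eq.trans (Finset.sum_congr rfl fun j _ => ?_) ((h2.symm.trans ?_).trans h1)
    · obtain ⟨w, hw, h3⟩ := h.rep (x ^ j * ((a * g)⁻¹ * g'))
      refine (Finset.card_eq_one.2 ⟨w⁻¹, Finset.eq_singleton_iff_unique_mem.2 ⟨by
        simpa using ⟨hw.inv h, by simpa using h3⟩, fun v hv => ?_⟩⟩).symm
      simp only [Finset.mem_filter, Finset.mem_univ, true_and] at hv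
      rw [h.uniq hw (hv.1.inv h) (by simpa [mul_assoc] using mul_mem h3 (inv_mem hv.2)), inv_inv]
    · refine Finset.card_equiv (MulAut.conj (a * g)).toEquiv fun k => ?_
      simp only [Finset.mem_filter, Finset.mem_univ, true_and]
      refine and_congr ⟨fun h3 => h3.trans (isConj_iff.2 ⟨a * g, rfl⟩),
        fun h3 => h3.trans (isConj_iff.2 ⟨a * g, rfl⟩).symm⟩ ?_
      simp [mul_assoc]
  have h2 : ¬ p ∣ J.card := by
    have h2 : J.card ≤ (Finset.univ.erase (0 : ZMod p)).card := by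
      refine Finset.card_le_card_of_injOn (fun j => (j : ZMod p)) (fun j hj => ?_)
        fun i hi j hj e => ?_
      · obtain ⟨-, m, hm, h2⟩ := Finset.mem_filter.1 hj
        simpa [ZMod.natCast_eq_zero_iff, Int.natCast_dvd_natCast] using
          not_dvd_of_gen hxp hx1 (i := j) (by rw [zpow_natCast, ← h2, gen_conj hx hm, hx])
      · obtain ⟨i1, m, hm, h2⟩ := Finset.mem_filter.1 hi
        obtain ⟨j1, n, hn, h3⟩ := Finset.mem_filter.1 hj
        have h4 : n * m⁻¹ * (m * x * m⁻¹) * (n * m⁻¹)⁻¹ = x ^ j := by rw [← h3]; group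
        by_contra h5
        refine not_dvd_of_gen hxp hx1 (i := j - i) ?_ ((ZMod.intCast_zmod_eq_zero_iff_dvd _ _).1
          (by simpa [sub_eq_zero] using e.symm))
        rw [zpow_sub, zpow_natCast, zpow_natCast, hx, ← h4, ← h2]
        refine hg _ (gen_conj hx hm) _ (mul_mem hn (inv_mem hm)) fun h6 => h5 ?_
        exact pow_injOn_Iio_orderOf (Finset.mem_range.1 i1) (Finset.mem_range.1 j1)
          (h2.symm.trans (h6.symm.trans h4))
    rw [Finset.card_erase_of_mem (Finset.mem_univ _), Finset.card_univ, ZMod.card] at h2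
    have h3 : 0 < J.card := Finset.card_pos.2 ⟨1 % orderOf x, Finset.mem_filter.2
      ⟨Finset.mem_range.2 (Nat.mod_lt _ (orderOf_pos x)), 1, one_mem _, by simp⟩⟩
    exact fun h4 => by have := Nat.le_of_dvd h3 h4; omega
  obtain ⟨k, hk⟩ := hxp ⟨x, mem_zpowers x⟩
  have h3 : ∀ g', 1 ≤ c g' := fun g' => Nat.pos_of_ne_zero fun h3 => by
    simpa [h3] using shift_zero (congrArg Subtype.val hk : x ^ p ^ k = 1) J h2
      (fun g' => (c g' : ZMod p) - 1) (fun g' => by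
        rw [Finset.sum_sub_distrib, ← Nat.cast_sum, ← h1]; simp) g'
  have h4 := (Finset.sum_eq_sum_iff_of_le fun j _ => h3 _).1 (h1 (x⁻¹ * g)) (1 % orderOf x)
    (Finset.mem_filter.2 ⟨Finset.mem_range.2 (Nat.mod_lt _ (orderOf_pos x)), 1, one_mem _, by simp⟩)
  rw [pow_mod_orderOf, pow_one, mul_inv_cancel_left] at h4
  exact Finset.card_le_one.1 h4.ge a (by simpa using ha) b (by simpa [mul_assoc] using ⟨hb, by
    simpa [mul_assoc] using hn⟩)

theorem EC.caseB (h : EC p H) (hp2 : p ≠ 2) (hx : zpowers x = H) (hx1 : x ≠ 1)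
    (hb : ∀ n ∈ normalizer (H : Set G), ∀ m : ℕ, n * x * n⁻¹ = x ^ (m + 1) → p ∣ m → x ^ m = 1) :
    Cl p H ⊤ := by
  have hxH : x ∈ H := hx ▸ mem_zpowers x
  have hg : ∀ a, zpowers a = H → ∀ n ∈ normalizer (H : Set G), n * a * n⁻¹ ≠ a →
      zpowers (n * a * n⁻¹ * a⁻¹) = H := fun a ha n hn h1 => by
    obtain ⟨i, rfl⟩ := mem_powers_iff_mem_zpowers.2 (hx.ge (ha.le (mem_zpowers a)))
    obtain ⟨m, hm⟩ := mem_powers_iff_mem_zpowers.2
      (hx.ge (mul_mem (nconj_mem hn hxH) (inv_mem hxH)))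
    have h2 : n * x * n⁻¹ = x ^ (m + 1) := by rw [pow_succ, show x ^ m = _ from hm]; group
    have h3 : n * x ^ i * n⁻¹ = (x ^ i) ^ m * x ^ i := by
      rw [← conj_pow, h2, ← pow_succ, ← pow_mul, ← pow_mul, mul_comm]
    rw [h3, mul_inv_cancel_right, gen_pow (ha ▸ h.pg) fun h4 => h1 ?_, ha]
    rw [h3, ← pow_mul, mul_comm i, pow_mul, hb n hn m h2 h4, one_pow, one_mul]
  have h1 : ∀ a, zpowers a = H → ∀ o w, Om p H o → Om p H w →
      Om p H (o * w * a * o⁻¹ * a⁻¹) := fun a ha o w ho hw => by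
    obtain ⟨v, hv, m, hm, h1⟩ := (h.conj_iff ha).1 (((h.conj_iff ha).2
      ⟨w, hw, 1, one_mem _, rfl⟩).trans (isConj_iff.2 ⟨o, rfl⟩))
    by_cases h2 : m * a * m⁻¹ = a
    · rwa [show o * w * a * o⁻¹ * a⁻¹ = v by rw [eq_mul_inv_of_mul_eq h1.symm, h2]; group]
    have h3 := hg a ha m hm h2
    obtain ⟨u, -, hu⟩ := hv.eq_comm h h3
    have h4 : (o⁻¹ * u)⁻¹ * (w⁻¹⁻¹ * (o⁻¹ * a * o⁻¹⁻¹ * a⁻¹)⁻¹) * (o⁻¹ * u) =
        m * a * m⁻¹ * a⁻¹ := by
      calc _ = u⁻¹ * (o * (w * (1 * a * 1⁻¹)) * o⁻¹ * a⁻¹) * u := by group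
        _ = _ := by rw [h1, ← hu]; group
    have h5 := h.sharp hx hx1 hg (hw.inv h) (((ho.inv h).comm h (ha.le (mem_zpowers a))).inv h)
      (h4 ▸ le_normalizer (h3.le (mem_zpowers _)))
    rw [← h5, inv_mul_cancel, mul_one, inv_mul_cancel] at h4
    rw [← h4, zpowers_one_eq_bot] at h3
    exact absurd (mem_bot.1 (h3.ge hxH)) hx1
  intro a _ b _ ha hb
  obtain ⟨o, ho, h2⟩ := (hb.conj (inv_mem (le_normalizer hxH))).eq_comm h hx
  obtain ⟨⟨w, hw⟩, h3⟩ := Finite.surjective_of_injective (f := fun w : {w // Om p H w} =>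
    (⟨_, h1 x hx o w ho w.2⟩ : {w // Om p H w})) (fun u v e => Subtype.ext (by simpa using e)) ⟨a, ha⟩
  have h4 := h1 (x ^ 2) ((gen_pow (hx ▸ h.pg) fun h4 =>
    hp2 ((Nat.prime_dvd_prime_iff_eq hp.out Nat.prime_two).1 h4)).trans hx) o w ho hw
  rwa [show o * w * x ^ 2 * o⁻¹ * (x ^ 2)⁻¹ = a * b by
    calc _ = o * w * x * o⁻¹ * x⁻¹ * (x * (o * x * o⁻¹ * x⁻¹) * x⁻¹) := by rw [sq]; group
      _ = _ := by rw [h2, show o * w * x * o⁻¹ * x⁻¹ = a from congrArg Subtype.val h3]; group] at h4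

end Cfsg.Agent.FPE
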