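import Cfsg.Agent.H85.FPDefs
import Cfsg.Agent.H53.OCBad
import Cfsg.Agent.H83.Misc
import Cfsg.Agent.H51.Thompson
import Cfsg.Agent.H1.Card

/-! Toolbox for the construction of `Y`. -/

set_option autoImplicit false

namespace Cfsg.Agent.FPK

open Subgroup Cfsg Cfsg.Agent.H83 Cfsg.Agent.H85.FP
open Cfsg.Agent.H53.OC (odd_res mem_cent_iff factTwo le_normalizer_of_cj)
open scoped commutatorElement

universe u

variable {Γ : Type u} [Group Γ] {G A S Y P O M H C K D N V B : Subgroup Γ}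

theorem odd_iff_cop {n : ℕ} : Odd n ↔ n.Coprime 2 := Nat.coprime_two_right.symm

theorem pow_mul_mem {W : Subgroup Γ} {y w : Γ} (hy : y ∈ normalizer (W : Set Γ)) (hw : w ∈ W)
    (n : ℕ) : ∃ w' ∈ W, (y * w) ^ n = y ^ n * w' := by
  induction n with
  | zero => exact ⟨1, W.one_mem, by simp⟩
  | succ n ih =>
    obtain ⟨w', h1, h2⟩ := ih
    refine ⟨y⁻¹ * w' * y * w, W.mul_mem (conj_mem' le_rfl hy h1) hw, ?_⟩
    rw [pow_succ, h2, pow_succ]; group

theorem pMod_cj {D C : Subgroup Γ} (h : PMod 2 D C) (g : Γ) : PMod 2 (cj g D) (cj g C) := by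
  intro d hd
  obtain ⟨k, hk⟩ := h _ (mem_cj.1 hd)
  refine ⟨k, mem_cj.2 ?_⟩
  have := conj_pow' g⁻¹ d (2 ^ k)
  rw [inv_inv] at this
  rwa [← this]

variable [Finite Γ]

/-- `O₂(H mod C)`. -/
theorem exists_rad (hn : H ≤ normalizer (C : Set Γ)) :
    ∃ K : Subgroup Γ, K ≤ H ∧ PMod 2 K C ∧
      (∀ K' : Subgroup Γ, K' ≤ H → H ≤ normalizer (K' : Set Γ) → PMod 2 K' C → K' ≤ K) ∧
      ∀ g ∈ normalizer (H : Set Γ), g ∈ normalizer (C : Set Γ) → g ∈ normalizer (K : Set Γ) := by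
  obtain ⟨K, ⟨h1, h2, h3⟩, hm⟩ := Set.Finite.exists_maximal (Set.toFinite
    {K : Subgroup Γ | K ≤ H ∧ H ≤ normalizer (K : Set Γ) ∧ PMod 2 K C})
    ⟨⊥, bot_le, le_normalizer_of_normal, PMod.of_le bot_le⟩
  have key : ∀ K' : Subgroup Γ, K' ≤ H → H ≤ normalizer (K' : Set Γ) → PMod 2 K' C → K' ≤ K :=
    fun K' a b c => le_sup_left.trans (hm (y := K' ⊔ K) ⟨sup_le a h1, le_norm_sup b h2,
      c.sup h3 (le_norm_sup (a.trans h2) (a.trans hn)) (a.trans hn) (h1.trans hn)⟩ le_sup_right)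
  refine ⟨K, h1, h3, key, fun g hg hc => H85.mem_normalizer_of_cj_le (key _ ?_ ?_ ?_)⟩
  · exact cj_le_of_norm h1 hg
  · have := cj_mono g h2
    rwa [cj_normalizer, cj_eq_self hg] at this
  · have := pMod_cj h3 g
    rwa [cj_eq_self hc] at this

/-- A central Sylow `2`-subgroup of a group generated by elements of odd order is trivial. -/
theorem syl_le_of_res (hD : IsSylowIn 2 D K) (hK : resOf 2 K = K)
    (hn : K ≤ normalizer (N : Set Γ)) (hc : ∀ d ∈ D, ∀ k ∈ K, ⁅d, k⁆ ∈ N) : D ≤ N := by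
  haveI : (N.subgroupOf K).Normal := normal_subgroupOf_of_le_normalizer hn
  set f := QuotientGroup.mk' (N.subgroupOf K) with hf
  have h1 := (isSylowIn_top hD.toSylow).map f
  have h2 := odd_res h1 (by
    rintro _ ⟨k, -, rfl⟩ _ ⟨d, hd, rfl⟩
    rw [← commutatorElement_eq_one_iff_mul_comm, ← map_commutatorElement]
    exact (QuotientGroup.eq_one_iff _).2 (hc _ hd _ k.2))
  rw [← map_resOf, resOf_top, ← resOf_subgroupOf, hK, subgroupOf_self] at h2
  intro d hd
  obtain ⟨k, hk⟩ := isPGroup_iff.1 hD.isPGroup d hd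
  have h3 : f ⟨d, hD.le hd⟩ = 1 := eq_one_of_ppow (k := k)
    (by rw [← map_pow, show (⟨d, hD.le hd⟩ : K) ^ 2 ^ k = 1 from Subtype.ext hk, map_one])
    (coprime_orderOf_of_mem (odd_iff_cop.1 h2) ⟨_, mem_top _, rfl⟩)
  exact (QuotientGroup.eq_one_iff (N := N.subgroupOf K) _).1 h3

omit [Finite Γ] in
/-- `2`-elements of `O²(P)` lie in its derived subgroup. -/
theorem mem_comm_res {x : Γ} (hx : x ∈ resOf 2 P) {k : ℕ} (hk : x ^ 2 ^ k = 1) :
    x ∈ ⁅resOf 2 P, resOf 2 P⁆ := by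
  set K := resOf 2 P with hK
  have hn : K ≤ normalizer ((⁅K, K⁆ : Subgroup Γ) : Set Γ) := le_norm_comm le_normalizer le_normalizer
  haveI : ((⁅K, K⁆ : Subgroup Γ).subgroupOf K).Normal := normal_subgroupOf_of_le_normalizer hn
  set f := QuotientGroup.mk' ((⁅K, K⁆ : Subgroup Γ).subgroupOf K) with hf
  have hc : ∀ a b : K, Commute (f a) (f b) := fun a b => by
    rw [← commutatorElement_eq_one_iff_commute, ← map_commutatorElement]
    exact (QuotientGroup.eq_one_iff _).2 (commutator_mem_commutator a.2 b.2)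
  have h1 : ∀ y, y ∈ closure {x : Γ | x ∈ P ∧ (orderOf x).Coprime 2} →
      ∃ hy : y ∈ K, ∃ n : ℕ, n.Coprime 2 ∧ f ⟨y, hy⟩ ^ n = 1 := by
    intro y hy
    induction hy using closure_induction with
    | mem y hy => exact ⟨mem_resOf hy.1 hy.2, orderOf y, hy.2, by
        rw [← map_pow, show (⟨y, mem_resOf hy.1 hy.2⟩ : K) ^ orderOf y = 1 from
          Subtype.ext (pow_orderOf_eq_one y), map_one]⟩
    | one => exact ⟨K.one_mem, 1, by simp, by rw [pow_one]; exact map_one f⟩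
    | mul a b _ _ ha hb =>
      obtain ⟨ha, n, h1, h2⟩ := ha
      obtain ⟨hb, m, h3, h4⟩ := hb
      refine ⟨K.mul_mem ha hb, n * m, Nat.Coprime.mul_left h1 h3, ?_⟩
      rw [show (⟨a * b, K.mul_mem ha hb⟩ : K) = ⟨a, ha⟩ * ⟨b, hb⟩ from rfl, map_mul, (hc _ _).mul_pow,
        pow_mul, h2, mul_comm n m, pow_mul, h4]; simp
    | inv a _ ha =>
      obtain ⟨ha, n, h1, h2⟩ := ha
      refine ⟨K.inv_mem ha, n, h1, ?_⟩
      rw [show (⟨a⁻¹, K.inv_mem ha⟩ : K) = ⟨a, ha⟩⁻¹ from rfl, map_inv, inv_pow, h2, inv_one]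
  obtain ⟨hy, n, h2, h3⟩ := h1 x (by rw [← resOf_eq]; exact hx)
  rw [← map_pow] at h3
  exact mem_of_pelt_of_pow_mem hk
    ((QuotientGroup.eq_one_iff (N := (⁅K, K⁆ : Subgroup Γ).subgroupOf K) _).1 h3) h2

/-- The inequality for a maximal elementary abelian subgroup. -/
theorem max_ineq (hB : B ∈ H51.maxEA 2 S) (hV : V ≤ S) (he : IsElementaryAbelian 2 V) :
    Nat.card V * Nat.card ↥(B ⊓ centralizer (V : Set Γ)) ≤
      Nat.card B * Nat.card ↥(V ⊓ centralizer (B : Set Γ)) := by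
  have h1 := hB.2.2 (B ⊓ centralizer (V : Set Γ) ⊔ V) (sup_le (inf_le_left.trans hB.1) hV)
    (EA_sup (EA_mono hB.2.1 inf_le_left) he inf_le_right)
  have h2 := H1.card_sup_mul_card_inf_of_le_normalizer
    (le_norm_of_le_cent (inf_le_right : B ⊓ centralizer (V : Set Γ) ≤ _))
  rw [mul_comm, ← h2]
  exact Nat.mul_le_mul h1 (card_le_of_le (le_inf inf_le_right
    (inf_le_left.trans (inf_le_left.trans (EA_le_cent hB.2.1)))))

/-- Small elements of `G` centralize `V`. -/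
def NoS (G V : Subgroup Γ) : Prop := ∀ b ∈ G, Small V b → b ∈ centralizer (V : Set Γ)

/-- No `2F`-offenders on `V` in `G`. -/
def NoF (G V : Subgroup Γ) : Prop :=
  ∀ B : Subgroup Γ, B ≤ G ⊓ normalizer (V : Set Γ) → IsElementaryAbelian 2 B →
    Nat.card V * Nat.card ↥(B ⊓ centralizer (V : Set Γ)) ≤
      2 * Nat.card B * Nat.card ↥(V ⊓ centralizer (B : Set Γ)) → B ≤ centralizer (V : Set Γ)

omit [Finite Γ] in
theorem small_cj {b : Γ} (h : Small V b) (g : Γ) : Small (cj g V) (g * b * g⁻¹) where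
  nrm := by rw [← cj_normalizer]; exact conj_mem_cj h.nrm
  sq := by
    rw [← cj_centralizer, show g * b * g⁻¹ * (g * b * g⁻¹) = g * (b * b) * g⁻¹ by group]
    exact conj_mem_cj h.sq
  card := by
    have : centralizer ({g * b * g⁻¹} : Set Γ) = cj g (centralizer ({b} : Set Γ)) := by
      ext x
      rw [mem_cj, mem_centralizer_singleton_iff, mem_centralizer_singleton_iff]
      constructor
      · intro h; calc _ = g⁻¹ * (x * (g * b * g⁻¹)) * g := by group
          _ = _ := by rw [h]; group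
      · intro h; calc _ = g * (g⁻¹ * x * g * b) * g⁻¹ := by group
          _ = _ := by rw [h]; group
    rw [this, ← cj_inf, card_cj, card_cj]; exact h.card

omit [Finite Γ] in
theorem NoS.cj (h : NoS G V) {g : Γ} (hg : g ∈ G) : NoS G (cj g V) := fun b hb hs => by
  have h1 := small_cj hs g⁻¹
  rw [cj_inv_cj] at h1
  have h2 := h _ (G.mul_mem (G.mul_mem (G.inv_mem hg) hb) (G.inv_mem (G.inv_mem hg))) h1
  rw [← cj_centralizer, mem_cj]
  rwa [inv_inv] at h2

omit [Finite Γ] in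
theorem NoF.cj (h : NoF G V) {g : Γ} (hg : g ∈ G) : NoF G (cj g V) := fun B hB he hc => by
  have h1 := h (H83.cj g⁻¹ B) (by
    rw [cj_le_iff, inv_inv, cj_inf, cj_normalizer, cj_eq_self (le_normalizer hg)]
    exact hB) (EA_cj he _) (by
    rw [← card_cj g V, ← card_cj g (_ ⊓ _), ← card_cj g (V ⊓ _), card_cj g⁻¹, cj_inf, cj_inf,
      cj_centralizer, cj_centralizer, cj_cj_inv]
    exact hc)
  rwa [cj_le_iff, inv_inv, cj_centralizer] at h1

/-- An element centralizing a subgroup of index at most two is small. -/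
theorem small_of_index {Z : Subgroup Γ} (he : IsElementaryAbelian 2 V) (hZ : Z ≤ V)
    (hc : Nat.card V ≤ 2 * Nat.card Z) {x : Γ} (hx : x ∈ normalizer (V : Set Γ))
    (h1 : x ∈ centralizer (Z : Set Γ)) : Small V x where
  nrm := hx
  sq := by
    rw [mem_cent_iff]
    intro v hv
    by_cases h2 : v ∈ Z
    · exact mem_cent_iff.1 (mul_mem h1 h1) v h2
    have h3 : x * v * x⁻¹ ∉ Z := fun h => h2 (by
      have := mem_cent_iff.1 (inv_mem h1) _ h
      rw [show x⁻¹ * (x * v * x⁻¹) * x⁻¹⁻¹ = v by group] at this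
      rwa [this])
    have h4 := mul_mem_of_card_le_two_mul hZ hc (V.inv_mem hv) (conj_mem le_rfl hx hv)
      (fun h => h2 (inv_mem_iff.1 h)) h3
    have h5 := mem_cent_iff.1 h1 _ h4
    have h6 := (isEA_iff.1 he).2 _ (hZ h4)
    calc _ = x * v * x⁻¹ * (x * (v⁻¹ * (x * v * x⁻¹)) * x⁻¹) := by group
      _ = v * (v⁻¹ * (x * v * x⁻¹)) ^ 2 := by rw [h5, pow_two]; group
      _ = v := by rw [h6, mul_one]
  card := hc.trans (Nat.mul_le_mul (by norm_num) (card_le_of_le (le_inf hZ fun z hz =>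
    mem_centralizer_singleton_iff.2 (h1 z hz))))

omit [Finite Γ] in
theorem ya_SY (e : Env G A S) (h : YA G A S Y) : S ≤ normalizer (Y : Set Γ) :=
  (le_inf e.syl.le (le_normalizer.trans
    (H51.normalizer_le_normalizer_thompsonSubgroupOf 2 S))).trans h.nJ

omit [Finite Γ] in
theorem ya_noS (e : Env G A S) (h : YA G A S Y) : NoS G Y := fun b hb hs => by
  obtain ⟨K, h1, h2, h3, h4⟩ := e.ns Y h.le h.ea (ya_SY e h) h.AY b hb hs
  exact h.red K h2 h3 h4 h1

theorem ya_noF (n2 : N2Stmt.{u}) (e : Env G A S) (h : YA G A S Y) : NoF G Y := fun B hB he hc =>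
  n2 Γ _ Y B (e.sol Y h.le h.ne (ya_SY e h) h.AY) h.ea inf_le_right h.red
    (fun b hb => ya_noS e h b hb.1) hB he hc

section MP

variable (e : Env G A S) (hy : YA G A S Y) (h : MP G A S Y P O M)
include e h

omit [Finite Γ] in
theorem mp_syl : IsSylowIn 2 S P := e.syl.mono h.SP h.PG

omit [Finite Γ] in
theorem mp_QS : pCoreOf 2 P ≤ S := (mp_syl e h).pCoreOf_le

omit [Finite Γ] e in
theorem mp_MP : M ≤ P := h.hM ▸ inf_le_left

omit [Finite Γ] e in
theorem mp_OM : O ≤ M := h.hM ▸ le_inf h.OP (le_norm_of_le le_sup_right)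

omit [Finite Γ] e in
theorem mp_NM : P ⊓ normalizer (Y : Set Γ) ≤ M :=
  h.hM ▸ le_inf inf_le_left (le_norm_sup inf_le_right (inf_le_left.trans h.PO))

omit [Finite Γ] e in
theorem mp_eq_of (h1 : S ≤ K) (h2 : K ≤ P) (h3 : A ≤ normalizer (K : Set Γ)) (h4 : ¬ K ≤ M) : K = P :=
  by_contra fun hne => h4 (h.min K h1 (lt_of_le_of_ne h2 hne) h3)

omit e in
theorem mp_OQ : O ≤ centralizer (pCoreOf 2 P : Set Γ) :=
  le_cent_of_coprime (pCoreOf_isPGroup P) (odd_iff_cop.1 h.odd) ((pCoreOf_le P).trans h.PO)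
    (h.OP.trans (le_norm_pCoreOf P))

/-- Normal invariant subgroups inside `M` are `2`-closed. -/
theorem mp_inf_le (h1 : N ≤ M) (h2 : P ≤ normalizer (N : Set Γ)) (h3 : A ≤ normalizer (N : Set Γ)) :
    S ⊓ N ≤ pCoreOf 2 P := by
  have h4 := (mp_syl e h).inf_normal (h1.trans (mp_MP h)) h2
  have h5 := h4.frattini_sup (h1.trans (mp_MP h)) h2
  have h6 := mp_eq_of h (K := P ⊓ normalizer ((S ⊓ N : Subgroup Γ) : Set Γ))
    (le_inf h.SP (le_norm_inf le_normalizer (h.SP.trans h2))) inf_le_left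
    (le_norm_inf h.AP (le_norm_norm (le_norm_inf e.AS h3)))
    fun hc => h.nn (h5.ge.trans (sup_le hc h1))
  exact le_pCoreOf (inf_le_left.trans h.SP) (h6.ge.trans inf_le_right) h4.isPGroup

include hy

omit [Finite Γ] in
theorem mp_SM : S ≤ M := (le_inf h.SP (ya_SY e hy)).trans (mp_NM h)

theorem mp_res_le (h1 : N ≤ P) (h2 : P ≤ normalizer (N : Set Γ)) (h3 : A ≤ normalizer (N : Set Γ))
    (h4 : ¬ N ≤ M) : resOf 2 P ≤ N := by
  have h5 := mp_eq_of h (K := S ⊔ N) le_sup_left (sup_le h.SP h1) (le_norm_sup e.AS h3)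
    fun hc => h4 (le_sup_right.trans hc)
  have h6 := resOf_sup_le (p := 2) (h.SP.trans h2)
  rwa [h5, resOf_eq_bot_of_isPGroup e.syl.isPGroup, bot_sup_eq] at h6

theorem mp_res_not_le : ¬ resOf 2 P ≤ M := fun hc =>
  h.nn ((mp_syl e h).resOf_sup.ge.trans (sup_le hc (mp_SM e hy h)))

/-- `O²(P)` is `2`-closed. -/
theorem mp_res_inf : S ⊓ resOf 2 P ≤ pCoreOf 2 P := by
  set K := resOf 2 P with hK
  have h1 : P ≤ normalizer ((⁅K, K⁆ : Subgroup Γ) : Set Γ) :=
    le_norm_comm (le_norm_resOf P) (le_norm_resOf P)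
  have h2 : A ≤ normalizer ((⁅K, K⁆ : Subgroup Γ) : Set Γ) :=
    le_norm_comm (norm_resOf h.AP) (norm_resOf h.AP)
  have h3 : ⁅K, K⁆ ≤ M := by
    by_contra hc
    have h4 := mp_res_le e hy h ((comm_le_left le_normalizer).trans (resOf_le P)) h1 h2 hc
    haveI := h.sol
    haveI : Group.IsSolvable K :=
      solvable_of_solvable_injective (inclusion_injective (resOf_le (p := 2) P))
    by_cases h0 : K = ⊥
    · exact mp_res_not_le e hy h (by rw [← hK, h0]; exact bot_le)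
    haveI := (nontrivial_iff_ne_bot K).2 h0
    refine (IsSolvable.commutator_lt_top_of_nontrivial K).ne (top_le_iff.1 fun x _ => ?_)
    have h5 := h4 x.2
    rw [← map_subtype_commutator] at h5
    exact coe_mem_map_subtype.1 h5
  refine le_trans (fun x hx => ?_) (mp_inf_le e h h3 h1 h2)
  obtain ⟨k, hk⟩ := isPGroup_iff.1 e.syl.isPGroup x hx.1
  exact ⟨hx.1, mem_comm_res hx.2 hk⟩

end MP

end Cfsg.Agent.FPK
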