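import Cfsg.Agent.H85.FPKit

/-! The minimal parabolic does not exist. -/

set_option autoImplicit false

namespace Cfsg.Agent.FPK

open Subgroup Cfsg Cfsg.Agent.H83 Cfsg.Agent.H85.FP
open Cfsg.Agent.H53.OC (mem_cent_iff factTwo)
open scoped commutatorElement

universe u

variable {Γ : Type u} [Group Γ] [Finite Γ] {G A S Y P O M B B₀ : Subgroup Γ} {y : Γ}

theorem dih_exists (d : Dih P O M B B₀ y) : ∃ c ∈ B, c ∉ B₀ := by
  by_contra hc
  push Not at hc
  have h1 := card_le_of_le (H := B) (K := B₀) hc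
  have h2 := Nat.card_pos (α := B₀)
  have := d.card
  omega

omit [Finite Γ] in
theorem closure_pair_le {K : Subgroup Γ} {a b : Γ} (ha : a ∈ K) (hb : b ∈ K) :
    closure ({a, b} : Set Γ) ≤ K := by
  rw [closure_le]
  rintro x (rfl | rfl)
  exacts [ha, hb]

variable (e : Env G A S) (hy : YA G A S Y) (h : MP G A S Y P O M)
include e hy h

theorem mp_case1 (hF : NoF G Y) (d : Dih P O M Y B₀ y) : False := by
  set Q := pCoreOf 2 P with hQ
  have QS : Q ≤ S := mp_QS e h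
  have BS : B₀ ≤ S := d.le.trans hy.le
  have Q1S : B₀ ⊔ Q ≤ S := sup_le BS QS
  have PQ : P ≤ normalizer (Q : Set Γ) := le_norm_pCoreOf P
  have hB : (B₀ ⊔ Q) ⊓ Y = B₀ := by
    rw [dedekind (BS.trans (h.SP.trans PQ)) d.le]
    exact sup_eq_left.2 ((inf_comm _ _).le.trans d.ge)
  have nB : B₀ ⊔ Q ≤ normalizer (B₀ : Set Γ) := by
    have := le_norm_inf (le_normalizer (H := B₀ ⊔ Q)) (Q1S.trans (ya_SY e hy))
    rwa [hB] at this
  have h1 : cj y B₀ ≤ B₀ ⊔ Q := cj_le_of_norm le_sup_left d.nrm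
  have cY : Y ≤ centralizer (Y : Set Γ) := EA_le_cent hy.ea
  have cY' : cj y Y ≤ centralizer (cj y Y : Set Γ) := EA_le_cent (EA_cj hy.ea y)
  obtain ⟨c, hc, hc0⟩ := dih_exists d
  obtain ⟨δ, hδ, m, hm, o, ho, hd⟩ := d.ti c hc hc0
  have ti : cj y B₀ ⊓ centralizer (Y : Set Γ) ≤ B₀ := by
    rintro a ⟨ha, hb⟩
    have h2 : δ ∈ centralizer ({a} : Set Γ) := closure_pair_le
      (mem_centralizer_singleton_iff.2 (hb c hc))
      (mem_centralizer_singleton_iff.2 (cY' (cj_mono y d.le ha) _ (conj_mem_cj hc))) hδ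
    have h3 := conj_mem' nB hm (mem_cj.1 ha)
    have h4 := mem_cent_iff.1 (inv_mem ho.2) _ (mem_sup_left h3)
    have h5 := mem_centralizer_singleton_iff.1 h2
    rw [show a = δ⁻¹ * (δ * a) by group, h5, hd]
    rw [show (y * m * o)⁻¹ * (a * (y * m * o)) = o⁻¹ * (m⁻¹ * (y⁻¹ * a * y) * m) * o⁻¹⁻¹ by group, h4]
    exact h3
  have h2 : cj y B₀ ≤ centralizer (Y : Set Γ) := by
    refine hF _ (h1.trans (Q1S.trans (le_inf e.syl.le (ya_SY e hy))))
      (EA_cj (EA_mono hy.ea d.le) y) ?_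
    rw [d.card, card_cj]
    refine Nat.mul_le_mul le_rfl (card_le_of_le (le_inf (ti.trans d.le) ?_))
    exact inf_le_left.trans (EA_le_cent (EA_cj (EA_mono hy.ea d.le) y))
  have h3 : cj y B₀ = B₀ := cj_eq_self (H85.mem_normalizer_of_cj_le ((le_inf le_rfl h2).trans ti))
  have h4 : ∀ q ∈ Q, ⁅q, c⁆ ∈ B₀ := fun q hq => d.ge ⟨
    comm_le_right (QS.trans (ya_SY e hy)) (commutator_mem_commutator hq hc),
    comm_le_left (hy.le.trans (h.SP.trans PQ)) (commutator_mem_commutator hq hc)⟩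
  have h5 : δ ∈ centMod (P ⊓ centralizer (B₀ : Set Γ)) Q B₀ (le_norm_of_le_cent inf_le_right) := by
    refine closure_pair_le (mem_centMod.2 ⟨mem_inf.2 ⟨h.SP (hy.le hc), cent_anti d.le (cY hc)⟩, h4⟩)
      (mem_centMod.2 ⟨mem_inf.2 ⟨conj_mem le_normalizer d.yP (h.SP (hy.le hc)), ?_⟩,
        fun q hq => ?_⟩) hδ
    · rw [← h3]; exact cent_anti (cj_mono y d.le) (cY' (conj_mem_cj hc))
    · rw [← h3, mem_cj, show y⁻¹ * ⁅q, y * c * y⁻¹⁆ * y = ⁅y⁻¹ * q * y, c⁆ by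
        simp only [commutatorElement_def]; group]
      exact h4 _ (conj_mem' PQ d.yP hq)
  obtain ⟨k, hk⟩ := coprime_orderOf_pow_ppow (p := 2) δ
  have h6 := pow_mem h5 (2 ^ k)
  have h7 := mem_cent_of_stable hk (EA_isPGroup (EA_mono hy.ea d.le)) h6.1.2 h6.2
  have h8 : δ ^ 2 ^ k ∈ M := sup_le (QS.trans (mp_SM e hy h)) (mp_OM h) (h.cen ⟨h6.1.1, h7⟩)
  obtain ⟨w, hw, h9⟩ := pow_mul_mem (W := B₀ ⊔ Q ⊔ O) (y := y) (w := m * o)
    (le_norm_sup (H := zpowers y) (zpowers_le.2 d.nrm) (zpowers_le.2 (h.PO d.yP)) (mem_zpowers y))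
    (mul_mem (mem_sup_left hm) (mem_sup_right ho.1)) (2 ^ k)
  rw [hd, mul_assoc, h9] at h8
  exact d.yM (mem_of_ppow_mem ((mul_mem_cancel_right
    (sup_le (Q1S.trans (mp_SM e hy h)) (mp_OM h) hw)).1 h8) (odd_iff_cop.1 d.odd))

omit hy in
theorem mp_MN (hQ : Y ≤ pCoreOf 2 P) : M ≤ normalizer (Y : Set Γ) := by
  have h1 : (Y ⊔ O) ⊓ pCoreOf 2 P = Y := by
    rw [dedekind (hQ.trans ((pCoreOf_le P).trans h.PO)) hQ]
    exact sup_eq_left.2 fun x hx => by
      rw [eq_one_of_mem_pgroup (pCoreOf_isPGroup P) hx.2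
        (coprime_orderOf_of_mem (odd_iff_cop.1 h.odd) hx.1)]
      exact one_mem _
  have h2 := le_norm_inf (h.hM.le.trans inf_le_right) ((mp_MP h).trans (le_norm_pCoreOf (p := 2) P))
  rwa [h1] at h2

/-- The centralizer of `Y` in `Q` is normal in `P` and `O²(P)` centralizes the quotient. -/
theorem mp_case2 (hF : NoF G Y) (hQ : Y ≤ pCoreOf 2 P) (hB : B ∈ H51.maxEA 2 S)
    (hBY : B ≤ centralizer (Y : Set Γ)) (d : Dih P O M B B₀ y) :
    P ≤ normalizer ((pCoreOf 2 P ⊓ centralizer (Y : Set Γ) : Subgroup Γ) : Set Γ) ∧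
      ⁅pCoreOf 2 P, resOf 2 P⁆ ≤ pCoreOf 2 P ⊓ centralizer (Y : Set Γ) := by
  set Q := pCoreOf 2 P with hQ'
  set V := cj y Y with hV
  have QS : Q ≤ S := mp_QS e h
  have Q1S : B₀ ⊔ Q ≤ S := sup_le (d.le.trans hB.1) QS
  have PQ : P ≤ normalizer (Q : Set Γ) := le_norm_pCoreOf P
  have SY := ya_SY e hy
  have VQ : V ≤ Q := cj_le_of_norm hQ (PQ d.yP)
  have eV : IsElementaryAbelian 2 V := EA_cj hy.ea y
  have nV : B₀ ⊔ Q ≤ normalizer (V : Set Γ) := by
    have := cj_mono y (Q1S.trans SY)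
    rwa [cj_eq_self d.nrm, cj_normalizer] at this
  have hne : V ≠ Y := fun hc => d.yM (mp_NM h ⟨d.yP, cj_eq_self_iff.1 hc⟩)
  have ti : ∀ c ∈ B, c ∉ B₀ → ∃ δ ∈ P, δ ∉ M ∧ cj δ⁻¹ V = Y ∧
      δ ∈ centralizer ((V ⊓ centralizer ({c} : Set Γ) : Subgroup Γ) : Set Γ) := fun c hc h0 => by
    obtain ⟨δ, hδ, m, hm, o, ho, hd⟩ := d.ti c hc h0
    have h1 : m * o ∈ M := mul_mem (mp_SM e hy h (Q1S hm)) (mp_OM h ho.1)
    refine ⟨δ, ?_, ?_, ?_, closure_pair_le
      (mem_centralizer_iff.2 fun z hz => mem_centralizer_singleton_iff.1 hz.2)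
      (cent_anti inf_le_left ?_) hδ⟩
    · rw [hd, mul_assoc]; exact mul_mem d.yP (mp_MP h h1)
    · rw [hd, mul_assoc, mul_mem_cancel_right h1]; exact d.yM
    · rw [hd, mul_assoc, mul_inv_rev, cj_mul, cj_inv_cj, cj_eq_self (inv_mem (mp_MN e h hQ h1))]
    · rw [← cj_centralizer]; exact conj_mem_cj (hBY hc)
  have h1 : B ⊓ centralizer (V : Set Γ) ≤ B₀ := fun c hc => by_contra fun h0 => by
    obtain ⟨δ, -, -, h2, h3⟩ := ti c hc.1 h0
    rw [inf_eq_left.2 fun z hz => mem_centralizer_singleton_iff.2 (hc.2 z hz)] at h3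
    exact hne (by rw [← h2, cj_eq_self (inv_mem (le_norm_of_le_cent le_rfl h3))])
  have h2 := max_ineq hB (VQ.trans QS) eV
  have h3 : B₀ ≤ centralizer (V : Set Γ) := by
    refine hF.cj (h.PG d.yP) _ (le_inf (d.le.trans (hB.1.trans e.syl.le)) (le_sup_left.trans nV))
      (EA_mono hB.2.1 d.le) ?_
    rw [← d.card]
    exact (Nat.mul_le_mul le_rfl (card_le_of_le (inf_le_inf_right _ d.le))).trans (h2.trans
      (Nat.mul_le_mul le_rfl (card_le_of_le (inf_le_inf_left _ (cent_anti d.le)))))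
  rw [le_antisymm h1 (le_inf d.le h3), d.card, mul_comm, mul_right_comm, mul_comm _ (Nat.card B₀)]
    at h2
  have h4 := Nat.le_of_mul_le_mul_left h2 Nat.card_pos
  obtain ⟨c, hc, hc0⟩ := dih_exists d
  obtain ⟨δ, hδ, hδM, h5, h6⟩ := ti c hc hc0
  have h7 : V ⊓ centralizer (B : Set Γ) ≤ V ⊓ centralizer ({c} : Set Γ) :=
    inf_le_inf_left _ (cent_le_cent_singleton hc)
  have h8 : V ⊓ centralizer (B : Set Γ) = Y ⊓ V := by
    refine le_antisymm (le_inf (h7.trans fun z hz => ?_) inf_le_left)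
      (le_inf inf_le_right (inf_le_left.trans (le_centralizer_iff.1 hBY)))
    rw [← h5, mem_cj, inv_inv, mem_cent_iff.1 h6 z hz]
    exact hz.1
  rw [h8] at h4 h7
  have h9 : Q ⊓ centralizer ((Y ⊓ V : Subgroup Γ) : Set Γ) = Q ⊓ centralizer (Y : Set Γ) :=
    le_antisymm (le_inf inf_le_left fun x hx => ya_noS e hy x (e.syl.le (QS hx.1))
      (small_of_index hy.ea inf_le_left (by rwa [card_cj] at h4) (SY (QS hx.1)) hx.2))
      (inf_le_inf_left _ (cent_anti inf_le_left))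
  have h10 : Q ⊓ centralizer ((Y ⊓ V : Subgroup Γ) : Set Γ) = Q ⊓ centralizer (V : Set Γ) :=
    le_antisymm (le_inf inf_le_left fun x hx => (ya_noS e hy).cj (h.PG d.yP) x (e.syl.le (QS hx.1))
      (small_of_index eV inf_le_right h4 (nV (mem_sup_right hx.1)) hx.2))
      (inf_le_inf_left _ (cent_anti inf_le_right))
  have AQ : A ≤ normalizer (Q : Set Γ) := norm_pCoreOf h.AP
  have A0 := le_norm_inf AQ (le_norm_cent hy.AY)
  have h11 : P ≤ normalizer ((Q ⊓ centralizer (Y : Set Γ) : Subgroup Γ) : Set Γ) :=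
    (mp_eq_of h (le_inf h.SP (le_norm_inf (h.SP.trans PQ) (le_norm_cent SY))) inf_le_left
      (le_norm_inf h.AP (le_norm_norm A0)) fun hc => d.yM (hc ⟨d.yP, cj_eq_self_iff.1 (by
        rw [cj_inf, cj_eq_self (PQ d.yP), cj_centralizer, ← h10, h9])⟩)).ge.trans inf_le_right
  refine ⟨h11, (le_centMod.1 (mp_res_le e hy h (N := centMod P Q _ h11) centMod_le
    (le_norm_centMod le_normalizer PQ h11) (le_norm_centMod h.AP AQ A0)
    fun hc => hδM (hc ⟨hδ, fun q hq => ?_⟩))).2⟩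
  rw [← h9]
  have h12 := cent_anti h7 h6
  refine ⟨comm_le_left PQ (commutator_mem_commutator hq hδ), Subgroup.mul_mem _ ?_ (Subgroup.inv_mem _ h12)⟩
  exact conj_mem (le_norm_cent (le_norm_inf (QS.trans SY) (le_sup_right.trans nV))) hq h12

theorem mp_case3 (n2 : N2Stmt.{u}) (hQ : Y ≤ pCoreOf 2 P) (hB : B ∈ H51.maxEA 2 S)
    (hBY : B ≤ centralizer (Y : Set Γ))
    (h1 : P ≤ normalizer ((pCoreOf 2 P ⊓ centralizer (Y : Set Γ) : Subgroup Γ) : Set Γ))
    (h2 : ⁅pCoreOf 2 P, resOf 2 P⁆ ≤ pCoreOf 2 P ⊓ centralizer (Y : Set Γ)) : B ≤ pCoreOf 2 P := by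
  set Q := pCoreOf 2 P with hQ'
  set Q0 := Q ⊓ centralizer (Y : Set Γ) with hQ0
  set K := resOf 2 P with hK
  set R := S ⊓ centralizer (Y : Set Γ) with hR
  set V := OZ 2 Q0 with hV
  have QS : Q ≤ S := mp_QS e h
  have SY := ya_SY e hy
  have PK : P ≤ normalizer (K : Set Γ) := le_norm_resOf P
  have PV : P ≤ normalizer (V : Set Γ) := norm_OZ h1
  have AV : A ≤ normalizer (V : Set Γ) :=
    norm_OZ (le_norm_inf (norm_pCoreOf h.AP) (le_norm_cent hy.AY))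
  have VS : V ≤ S := (OZ_le _).trans (inf_le_left.trans QS)
  have YV : Y ≤ V := le_OZ (le_inf hQ (EA_le_cent hy.ea)) (le_centralizer_iff.1 inf_le_right)
    (isEA_iff.1 hy.ea).2
  have CM : P ⊓ centralizer (V : Set Γ) ≤ M :=
    (inf_le_inf_left _ ((cent_anti YV).trans (le_norm_of_le_cent le_rfl))).trans (mp_NM h)
  have h3 : S ⊓ K ≤ Q0 := syl_le_of_res ((mp_syl e h).inf_normal (resOf_le P) PK) (resOf_resOf P)
    ((resOf_le P).trans h1) fun d hd k hk => h2 (commutator_mem_commutator (mp_res_inf e hy h hd) hk)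
  have h4 : R ⊔ K ≤ P := sup_le (inf_le_left.trans h.SP) (resOf_le P)
  have h5 : P ≤ normalizer ((R ⊔ K : Subgroup Γ) : Set Γ) :=
    (mp_syl e h).resOf_sup.ge.trans (sup_le (le_norm_of_le le_sup_right)
      (le_norm_sup (le_norm_inf le_normalizer (le_norm_cent SY)) (h.SP.trans PK)))
  have h6 : A ≤ normalizer ((R ⊔ K : Subgroup Γ) : Set Γ) :=
    le_norm_sup (le_norm_inf e.AS (le_norm_cent hy.AY)) (norm_resOf h.AP)
  have h7 : (R ⊔ K) ⊓ S ≤ centralizer (Y : Set Γ) := by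
    rw [dedekind (inf_le_left.trans (h.SP.trans PK)) inf_le_left]
    exact sup_le inf_le_right ((inf_comm _ _).le.trans (h3.trans inf_le_right))
  have red : Red (R ⊔ K) V := by
    obtain ⟨L, l1, l2, l3, l4⟩ := exists_rad (le_norm_cent (h4.trans PV))
    have PL : P ≤ normalizer (L : Set Γ) := fun g hg => l4 g (h5 hg) (le_norm_cent PV hg)
    have l5 := ((mp_syl e h).inf_normal (l1.trans h4) PL).le_sup_of_pMod
      (le_norm_cent (l1.trans (h4.trans PV))) l2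
    have l6 := mp_inf_le e h ((le_inf (l1.trans h4) (l5.trans (sup_le
      ((cent_anti YV).trans (le_norm_of_le_cent le_rfl)) (inf_le_left.trans SY)))).trans (mp_NM h))
      PL fun g hg => l4 g (h6 hg) (le_norm_cent AV hg)
    have l7 : S ⊓ L ≤ Q0 := le_inf l6 ((le_inf (inf_le_right.trans l1) inf_le_left).trans h7)
    exact fun K' a b c => (l3 K' a b c).trans (l5.trans (sup_le le_rfl (l7.trans (le_cent_OZ _))))
  haveI := h.sol
  have h8 := n2 Γ (R ⊔ K) V B (solvable_of_solvable_injective (inclusion_injective h4)) (EA_OZ _)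
    (h4.trans PV) red (fun b hb hs => by
      obtain ⟨L, l1, l2, l3, l4⟩ := e.ns V VS (EA_OZ _) (h.SP.trans PV) AV b (h.PG (h4 hb)) hs
      exact red (L ⊓ (R ⊔ K)) inf_le_right (le_norm_inf (h4.trans ((le_inf h.PG PV).trans l3))
        le_normalizer) (l4.mono inf_le_left le_rfl) ⟨l1, hb⟩)
    ((le_inf hB.1 hBY).trans le_sup_left) hB.2.1
    ((max_ineq hB VS (EA_OZ _)).trans (Nat.mul_le_mul (by omega) le_rfl))
  exact (le_inf hB.1 (le_inf (hB.1.trans h.SP) h8)).trans (mp_inf_le e h CM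
    (le_norm_inf le_normalizer (le_norm_cent PV)) (le_norm_inf h.AP (le_norm_cent AV)))

omit e hy h in
theorem mp (n2 : N2Stmt.{u}) (dih : DihStmt.{u}) : MPStmt.{u} := by
  intro Γ _ _ G A S Y P O M e hy h
  have hF := ya_noF n2 e hy
  by_cases hQ : Y ≤ pCoreOf 2 P
  · have hJ : ∀ B ∈ H51.maxEA 2 S, B ≤ centralizer (Y : Set Γ) := fun B hB =>
      hF B (hB.1.trans (le_inf e.syl.le (ya_SY e hy))) hB.2.1
        ((max_ineq hB hy.le hy.ea).trans (Nat.mul_le_mul (by omega) le_rfl))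
    obtain ⟨B, hB, B₀, y, d⟩ := dih Γ G A S Y P O M _ e hy h (H51.maxEA 2 S) (fun B hB => hB.2.1)
      (H51.thompsonSubgroupOf_eq 2 S).symm (H51.thompsonSubgroupOf_le 2 S)
      (le_normalizer.trans (H51.normalizer_le_normalizer_thompsonSubgroupOf 2 S))
      (e.AS.trans (H51.normalizer_le_normalizer_thompsonSubgroupOf 2 S)) fun hc => by
        have h1 := (le_norm_pCoreOf (p := 2) P).trans
          (H51.normalizer_le_normalizer_thompsonSubgroupOf 2 _)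
        rw [H51.thompsonSubgroupOf_eq_of_le hc (mp_QS e h)] at h1
        exact h.nn ((le_inf le_rfl ((le_inf h.PG h1).trans hy.nJ)).trans (mp_NM h))
    obtain ⟨h1, h2⟩ := mp_case2 e hy h hF hQ hB (hJ B hB) d
    obtain ⟨c, hc, hc0⟩ := dih_exists d
    exact hc0 (d.ge ⟨hc, mp_case3 e hy h n2 hQ hB (hJ B hB) h1 h2 hc⟩)
  · obtain ⟨B, hB, B₀, y, d⟩ := dih Γ G A S Y P O M Y e hy h {Y} (fun B hB => hB ▸ hy.ea)
      sSup_singleton hy.le (ya_SY e hy) hy.AY hQ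
    exact mp_case1 e hy h hF (hB ▸ d)

end Cfsg.Agent.FPK
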