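import Cfsg.Agent.H85.FPDih

/-! No `2F`-offenders, and the subgroup `Y`. -/

set_option autoImplicit false

namespace Cfsg.Agent.FPK

open Subgroup Cfsg Cfsg.Agent.H83 Cfsg.Agent.H85.FP
open Cfsg.Agent.H53.OC (mem_cent_iff factTwo le_normalizer_of_cj orb cj_le_orb orb_le le_orb norm_orb)
open Cfsg.Agent.H63 (quo coset cosetpre)
open scoped commutatorElement

universe u

variable {Γ : Type u} [Group Γ] [Finite Γ] {G A S Y H V B C : Subgroup Γ}

theorem two_mul_card_le (h : B < C) : 2 * Nat.card B ≤ Nat.card C := by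
  obtain ⟨k, hk⟩ := card_dvd_of_le h.le
  have h1 : k ≠ 1 := fun h1 => h.ne (eq_of_le_of_card_ge h.le (by rw [hk, h1, mul_one]))
  have h2 : k ≠ 0 := fun h2 => (Nat.card_pos (α := C)).ne' (by rw [hk, h2, mul_zero])
  rw [hk, mul_comm]
  exact Nat.mul_le_mul le_rfl (by omega)

/-- An odd lift of an element of odd order. -/
theorem exists_odd_lift (hn : H ≤ normalizer (C : Set Γ)) {x : H63.Coset C} (hx : x ∈ quo H C)
    (ho : (orderOf x).Coprime 2) : ∃ y ∈ H, (orderOf y).Coprime 2 ∧ coset C y = x := by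
  obtain ⟨z, hz, hz1, rfl⟩ := H63.mem_quo.1 hx
  obtain ⟨a, y, ha, hy, h1, ⟨k, hk⟩, h2⟩ := exists_p_parts (p := 2) z
  have aH := hn (zpowers_le.2 hz ha)
  have h3 : coset C a = 1 := by
    refine eq_one_of_ppow (k := k) (by rw [← H63.coset_pow aH, hk, H63.coset_one])
      (ho.coprime_dvd_left (orderOf_dvd_of_mem_zpowers ?_))
    rw [← H63.quo_zpowers hz1]
    exact H63.coset_mem_quo aH ha
  refine ⟨y, zpowers_le.2 hz hy, h2, ?_⟩
  rw [h1, H63.coset_mul aH (hn (zpowers_le.2 hz hy)), h3, one_mul]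

/-- The dihedral configuration on a reduced module of a solvable group. -/
theorem exists_dih (hs : Group.IsSolvable H) (hn : H ≤ normalizer (V : Set Γ)) (hr : Red H V)
    (hB : B ≤ H) (he : IsElementaryAbelian 2 B) (hc : ¬ B ≤ centralizer (V : Set Γ)) :
    ∃ B₀ ≤ B, B ⊓ centralizer (V : Set Γ) ≤ B₀ ∧ Nat.card B = 2 * Nat.card B₀ ∧
      ∃ y ∈ H, (orderOf y).Coprime 2 ∧ y ∉ centralizer (V : Set Γ) ∧
        (∀ b ∈ B₀, y⁻¹ * (b * y * b⁻¹) ∈ centralizer (V : Set Γ)) ∧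
        ∀ c ∈ B, c ∉ B₀ → y * (c * y * c⁻¹) ∈ centralizer (V : Set Γ) := by
  set C := H ⊓ centralizer (V : Set Γ) with hC
  have HC : H ≤ normalizer (C : Set Γ) := le_norm_inf le_normalizer (le_norm_cent hn)
  have h1 : pCoreOf 2 (quo H C) = ⊥ := by
    have l1 : cosetpre C (pCoreOf 2 (quo H C)) ≤ H :=
      (H63.cosetpre_le_iff ⟨inf_le_left, HC⟩).2 (pCoreOf_le _)
    have l2 := hr _ l1 (H63.le_norm_cosetpre HC (le_norm_pCoreOf _)) fun x hx => by
      obtain ⟨k, hk⟩ := isPGroup_iff.1 (pCoreOf_isPGroup _) _ (H63.mem_cosetpre.1 hx).2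
      exact ⟨k, ((H63.coset_eq_one_iff (HC (l1 (pow_mem hx _)))).1
        (by rw [H63.coset_pow (HC (l1 hx)), hk])).2⟩
    rw [← H63.cosetpre_quo (pCoreOf 2 (quo H C))]
    exact H63.quo_eq_bot_of_le (le_inf l1 l2)
  have h2 := H67.cent_piCoreOf_le (π := {2}ᶜ) (H63.quo_isSolvable C hs) (by
    rw [compl_compl, ← H67.map_pCore_subtype Nat.prime_two]; exact h1)
  have o1 := H67.piCoreOf_normalIn {2}ᶜ (quo H C)
  have o3 := Nat.odd_iff.2 (Nat.two_dvd_ne_zero.1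
    ((H67.isPi_compl_singleton_iff Nat.prime_two).1 (H67.isPi_piCoreOf {2}ᶜ (quo H C))))
  generalize piCoreOf {2}ᶜ (quo H C) = F at h2 o1 o3
  have eB := H63.quo_isElementaryAbelian C he
  obtain ⟨C₀, h3, x, ⟨h4, h5⟩, h6, h7⟩ := dih_core (M := ⊥) o3 eB
    ((H63.quo_mono C hB).trans o1.2) fun h0 => hc fun b hb => by
      have l1 := H63.coset_mem_quo (HC (hB hb)) hb
      exact ((H63.coset_eq_one_iff (HC (hB hb))).1 (eq_one_of_mem_pgroup (EA_isPGroup eB) l1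
        (coprime_orderOf_of_mem (odd_iff_cop.1 o3) (h2 ⟨H63.quo_mono C hB l1,
          comm_eq_bot_iff.1 (le_bot_iff.1 h0) l1⟩)))).2
  obtain ⟨y, hy, h8, rfl⟩ := exists_odd_lift HC (o1.1 h4)
    (coprime_orderOf_of_mem (odd_iff_cop.1 o3) h4)
  refine ⟨cosetpre C C₀ ⊓ B, inf_le_right, le_inf (le_trans (inf_le_inf_right _ hB)
    (H63.le_cosetpre C₀)) inf_le_left, ?_, y, hy, h8, fun h0 => h6 (mem_bot.2
      (H63.coset_eq_one ⟨hy, h0⟩)), fun b hb => ?_, fun c hc hc0 => ?_⟩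
  · have := H63.relIndex_quo_eq (H63.le_cosetpre C₀) (hB.trans HC)
    rw [H63.cosetpre_quo, h3.2] at this
    rw [← H3.card_mul_relIndex (inf_le_right : cosetpre C C₀ ⊓ B ≤ B), inf_relIndex_right, ← this,
      mul_comm]
  · refine ((H63.coset_eq_iff (HC hy) (HC (conj_mem le_normalizer (hB hb.2) hy))).1 ?_).2
    rw [H63.coset_conj (HC (hB hb.2)) (HC hy), h5 _ (H63.mem_cosetpre.1 hb.1).2, mul_inv_cancel_right]
  · have l1 := HC (conj_mem le_normalizer (hB hc) hy)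
    refine ((H63.coset_eq_one_iff (mul_mem (HC hy) l1)).1 ?_).2
    rw [H63.coset_mul (HC hy) l1, H63.coset_conj (HC (hB hc)) (HC hy), h7 _
      (H63.coset_mem_quo (HC (hB hc)) hc) fun h0 => hc0 ⟨H63.mem_cosetpre.2 ⟨HC (hB hc), h0⟩, hc⟩,
      mul_inv_cancel]

theorem n2 : N2Stmt.{u} := by
  intro Γ _ _ H V B hs eV hn hr hS
  induction' hk : Nat.card B using Nat.strong_induction_on with k ih generalizing B
  subst hk
  intro hB he hi
  by_contra hc
  obtain ⟨B₀, h1, h2, h3, y, hy, h4, h5, h6, h7⟩ := exists_dih hs hn hr hB he hc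
  have pos := Nat.card_pos (α := B₀)
  obtain ⟨c, hc1, hc0⟩ : ∃ c ∈ B, c ∉ B₀ := by
    by_contra h0
    push Not at h0
    have := card_le_of_le (H := B) (K := B₀) h0
    omega
  have c2 : c * c = 1 := by rw [← pow_two]; exact (isEA_iff.1 he).2 c hc1
  have h8 : V ⊓ centralizer (B : Set Γ) < V ⊓ centralizer (B₀ : Set Γ) := by
    refine lt_of_le_of_ne (inf_le_inf_left _ (cent_anti h1)) fun h0 => ?_
    have yV : zpowers y ≤ normalizer (V : Set Γ) := zpowers_le.2 (hn hy)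
    have WV := comm_le_left yV
    have l1 : ∀ b ∈ B₀, ∀ v ∈ V, b * y * b⁻¹ * v * (b * y * b⁻¹)⁻¹ = y * v * y⁻¹ := fun b hb v hv =>
      calc _ = y * (y⁻¹ * (b * y * b⁻¹) * v * (y⁻¹ * (b * y * b⁻¹))⁻¹) * y⁻¹ := by group
        _ = _ := by rw [mem_cent_iff.1 (h6 b hb) v hv]
    have l2 : B₀ ≤ normalizer ((⁅V, zpowers y⁆ : Subgroup Γ) : Set Γ) :=
      le_normalizer_of_cj fun b hb => by
        rw [cj_comm, cj_eq_self (hn (hB (h1 hb))), show cj b (zpowers y) = _ from H85.cj_zpowers b y]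
        refine comm_zpowers_le ?_ fun v hv => ?_
        · rw [show b * y * b⁻¹ = y * (y⁻¹ * (b * y * b⁻¹)) by group]
          exact mul_mem (le_norm_comm yV le_normalizer (mem_zpowers y))
            (le_norm_of_le_cent le_rfl (cent_anti WV (h6 b hb)))
        · rw [show ⁅v, b * y * b⁻¹⁆ = v * (b * y * b⁻¹ * v⁻¹ * (b * y * b⁻¹)⁻¹) by
            rw [commutatorElement_def]; group, l1 b hb _ (V.inv_mem hv),
            show v * (y * v⁻¹ * y⁻¹) = ⁅v, y⁆ by rw [commutatorElement_def]; group]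
          exact commutator_mem_commutator hv (mem_zpowers y)
    refine inf_centralizer_ne_bot ((EA_isPGroup eV).to_le WV) (EA_isPGroup (EA_mono he h1)) l2
      (fun l3 => h5 (comm_eq_bot_iff.1 l3 (mem_zpowers y))) (eq_bot_iff.2 fun w hw => ?_)
    haveI := eV.1
    rw [← H4.centralizer_inf_commutator_eq_bot yV (coprime_zpowers h4 (EA_isPGroup eV))]
    have l3 : y * w * y⁻¹ ∈ V ⊓ centralizer (B : Set Γ) := h0 ▸ ⟨conj_mem le_rfl (hn hy) (WV hw.1),
      fun b hb => by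
        have l4 := hw.2 b hb
        calc _ = b * y * b⁻¹ * (b * w) * y⁻¹ := by group
          _ = b * y * b⁻¹ * w * (b * y * b⁻¹)⁻¹ * b := by rw [l4]; group
          _ = _ := by rw [l1 b hb w (WV hw.1)]⟩
    have l4 : w ∈ V ⊓ centralizer (B : Set Γ) := h0 ▸ ⟨WV hw.1, hw.2⟩
    have l5 := mem_cent_iff.1 (h7 c hc1 hc0) w (WV hw.1)
    have l6 := l3.2 c hc1
    have l7 := l4.2 c hc1
    have l8 : y * y * w * (y * y)⁻¹ = w :=
      calc _ = y * (y * w * y⁻¹ * c) * c⁻¹ * y⁻¹ := by group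
        _ = y * c * y * c⁻¹ * (c * w) * y⁻¹ * c⁻¹ * y⁻¹ := by rw [← l6]; group
        _ = y * (c * y * c⁻¹) * w * (y * (c * y * c⁻¹))⁻¹ := by rw [l7]; group
        _ = w := l5
    have l9 : y ^ 2 ^ 1 ∈ centralizer ({w} : Set Γ) := mem_centralizer_singleton_iff.2 (by
      rw [pow_one, pow_two]; exact mul_inv_eq_iff_eq_mul.1 l8)
    rw [H67.centralizer_zpowers]
    exact ⟨mem_centralizer_singleton_iff.2
      (mem_centralizer_singleton_iff.1 (mem_of_ppow_mem l9 h4)).symm, hw.1⟩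
  have h9 := ih _ (by omega) B₀ rfl (h1.trans hB) (EA_mono he h1)
    ((Nat.mul_le_mul le_rfl (card_le_of_le (inf_le_inf_right _ h1))).trans (hi.trans (by
      rw [h3, mul_assoc, mul_assoc, mul_assoc, mul_left_comm 2 (Nat.card B₀) (Nat.card _)]
      exact Nat.mul_le_mul le_rfl (Nat.mul_le_mul le_rfl (two_mul_card_le h8)))))
  refine hc0 (h2 ⟨hc1, hS c (hB hc1) ⟨hn (hB hc1), by rw [c2]; exact one_mem _, ?_⟩⟩)
  rw [le_antisymm h2 (le_inf h1 h9), h3] at hi
  have l1 := card_le_of_le (inf_le_inf_left V (cent_le_cent_singleton hc1))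
  refine Nat.le_of_mul_le_mul_right (hi.trans ?_) pos
  nlinarith

theorem ya : YAStmt.{u} := by
  intro Γ _ _ G A S e h0
  set J := thompsonSubgroupOf 2 S with hJ
  have SJ : S ≤ G ⊓ normalizer (J : Set Γ) :=
    le_inf e.syl.le (le_normalizer.trans (H51.normalizer_le_normalizer_thompsonSubgroupOf 2 S))
  have AL : A ≤ normalizer ((G ⊓ normalizer (J : Set Γ) : Subgroup Γ) : Set Γ) := le_norm_inf e.AG
    (le_norm_norm (e.AS.trans (H51.normalizer_le_normalizer_thompsonSubgroupOf 2 S)))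
  have h1 : OZ 2 S ≤ OZ 2 J := by
    obtain ⟨B, hB⟩ := H51.maxEA_nonempty 2 S
    refine le_OZ (le_trans ?_ (H51.le_thompsonSubgroupOf hB))
      ((OZ_le_cent S).trans (cent_anti (H51.thompsonSubgroupOf_le 2 S))) (isEA_iff.1 (EA_OZ S)).2
    rw [eq_of_le_of_card_ge (le_sup_right : B ≤ OZ 2 S ⊔ B) (hB.2.2 _ (sup_le (OZ_le S) hB.1)
      (EA_sup (EA_OZ S) hB.2.1 ((OZ_le_cent S).trans (cent_anti hB.1))))]
    exact le_sup_left
  have h2 : orb (G ⊓ normalizer (J : Set Γ)) (OZ 2 S) ≤ OZ 2 J :=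
    orb_le fun g hg => cj_le_of_norm h1 (norm_OZ le_rfl hg.2)
  refine ⟨orb (G ⊓ normalizer (J : Set Γ)) (OZ 2 S),
    h2.trans ((OZ_le J).trans (H51.thompsonSubgroupOf_le 2 S)),
    fun h => OZ_ne_bot e.syl.isPGroup h0 (le_bot_iff.1 ((le_orb _ _).trans h.le)),
    EA_mono (EA_OZ J) h2, le_normalizer_of_cj fun a ha => cj_le_iff.2 (orb_le fun g hg =>
      cj_le_iff.1 ?_), norm_orb _ _, fun K k1 k2 k3 => ?_⟩
  · rw [← cj_mul, show a * g = a * g * a⁻¹ * a by group, cj_mul, cj_eq_self (norm_OZ e.AS ha)]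
    exact cj_le_orb (conj_mem AL ha hg)
  have h3 := le_inf inf_le_left (norm_orb (G ⊓ normalizer (J : Set Γ)) (OZ 2 S))
  have h4 := ((e.syl.mono (SJ.trans h3) inf_le_left).inf_normal k1 k2).le_sup_of_pMod
    (le_norm_cent (k1.trans inf_le_right)) k3
  have h5 : K ≤ centralizer (OZ 2 S : Set Γ) :=
    h4.trans (sup_le (cent_anti (le_orb _ _)) (inf_le_left.trans (le_cent_OZ S)))
  refine le_centralizer_iff.1 (orb_le fun g hg => le_centralizer_iff.1 ?_)
  rw [← cj_centralizer, ← cj_eq_self (k2 (h3 hg))]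
  exact cj_mono g h5

theorem yAll : YStmt.{u} := yS ya (mp n2 dih)

end Cfsg.Agent.FPK
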