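import Cfsg.Agent.H85.FPMain
import Cfsg.Agent.S0117
import Cfsg.Agent.S0072
import Cfsg.Agent.H51.Thompson
import Cfsg.Agent.H67.Fit

/-! Coprime operator groups whose proper invariant subgroups of order divisible by `p` are
nilpotent. -/

set_option autoImplicit false

namespace Cfsg.Agent.FPN

open Cfsg Cfsg.Agent.H63 Cfsg.Agent.H67 Subgroup
open Cfsg.Agent.H85.FP (MainStmt Hyp)
open Cfsg.Agent.H53.OpK (dec_of_nilpotent dec_of_odd Dec)
open Cfsg.Agent.H7.FB SemidirectProduct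

universe u v

variable {Γ : Type u} [Group Γ] [Finite Γ]

theorem has_norm {p : ℕ} [Fact p.Prime] {G : Subgroup Γ} (W : Subgroup G)
    (h : Group.IsNilpotent ↥(G ⊓ N[W.map G.subtype])) : HasNormalPComplement p N[W] := by
  have h1 : NormalPCompl p (G ⊓ N[W.map G.subtype]) := normalPCompl_of_isNilpotent h
  rw [normalPCompl_iff_has] at h1
  have h2 := (H8.hasNormalPComplement_subgroupOf_iff inf_le_left).2 h1
  rwa [← map_subtype_normalizer, subgroupOf_map_subtype'] at h2

theorem nil_solv (hm : MainStmt.{u}) : ∀ (n : ℕ) (Γ : Type u) [Group Γ] [Finite Γ]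
    (G A : Subgroup Γ) (p : ℕ), Nat.card G = n → p.Prime → p ∣ Nat.card G → A ≤ N[G] →
    (Nat.card A).Coprime (Nat.card G) →
    (∀ K < G, A ≤ N[K] → p ∣ Nat.card K → Group.IsNilpotent K) → Group.IsSolvable G := by
  intro n
  induction n using Nat.strong_induction_on with | _ n ih =>
  intro Γ _ _ G A p hn hp hpG hAG hc h
  subst hn
  haveI := Fact.mk hp
  have ih' : ∀ (Γ' : Type u) [Group Γ'] [Finite Γ'] (G' A' : Subgroup Γ'),
      Nat.card G' < Nat.card G → A' ≤ N[G'] → (Nat.card A').Coprime (Nat.card G') →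
      (∀ K < G', A' ≤ N[K] → Group.IsNilpotent K) → Group.IsSolvable G' := by
    intro Γ' _ _ G' A' h1 h2 h3 h4
    by_cases h0 : G' = ⊥
    · subst h0; infer_instance
    obtain ⟨q, hq, hd⟩ := Nat.exists_prime_and_dvd (fun e => h0 (card_eq_one.1 e))
    exact ih _ h1 Γ' G' A' q rfl hq hd h2 h3 fun K a b _ => h4 K a b
  by_cases ho : Odd (Nat.card G)
  · exact S0205.result ho
  have h2 : 2 ∣ Nat.card G := even_iff_two_dvd.1 (Nat.not_odd_iff_even.1 ho)
  have hA : Group.IsSolvable A := S0205.result (FPK.odd_iff_cop.2 (hc.coprime_dvd_right h2))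
  have dv : ∀ {Z K : Subgroup Γ}, IsPGroup p Z → Z ≠ ⊥ → Z ≤ K → p ∣ Nat.card K :=
    fun hZ h0 hK => (hZ.card_eq_or_dvd.resolve_left fun e => h0 (card_eq_one.1 e)).trans
      (card_dvd_of_le hK)
  have hQ : ∀ Z ≤ G, IsPGroup p Z → Z ≠ ⊥ → A ≤ N[Z] →
      Group.IsSolvable G ∨ Group.IsNilpotent ↥(G ⊓ N[Z]) := by
    intro Z hZ hZp h0 hAZ
    rcases (inf_le_left : G ⊓ N[Z] ≤ G).lt_or_eq with h3 | h3
    · exact Or.inr (h _ h3 (le_normalizer_inf hAG (le_normalizer_normalizer hAZ))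
        (dv hZp h0 (le_inf hZ le_normalizer)))
    have hn : Z ⊴ G := ⟨hZ, inf_eq_left.1 h3⟩
    refine Or.inl (isSolvable_of_quo hn.2
      (isSolvable_of_isPGroup hp (hZp.to_le inf_le_left)) (ih' _ _ (A /ᵍ Z) (card_quo_lt hn h0)
        (quo_norms Z hAG) (coprime_quo Z hc) fun K hK hAK => ?_))
    rw [← cosetpre_quo K]
    refine quo_isNilpotent Z (h _ ?_ (le_norm_cosetpre hAZ hAK) (dv hZp h0 (le_cosetpre K)))
    rw [← quo_cosetpre_of_normal hn]
    exact cosetpre_lt_cosetpre.2 hK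
  obtain ⟨P, hP⟩ := H4.exists_invariant_sylow hAG hc (Or.inl hA) p
  have hS := syl_map_sylow P
  have hS0 : (P : Subgroup G).map G.subtype ≠ ⊥ := syl_ne_bot hS hpG
  have hK : HasNormalPComplement p G → Group.IsSolvable G := by
    intro h1
    have h3 := (normalPCompl_iff_has.2 h1).isSdp hS
    generalize (P : Subgroup G).map G.subtype = S at hP hS hS0 h3
    have hAO : A ≤ N[O[{p}ᶜ](G)] := le_normalizer_piCoreOf hAG
    refine h3.isSolvable (ih' _ _ (A ⊔ S) (card_lt_of_lt (h3.lt_left hS0)) (sup_le hAO h3.norm)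
      ?_ fun K hK hAK => ?_) (isSolvable_of_isPGroup hp (syl_isPGroup hS))
    · refine Nat.Coprime.coprime_dvd_left (card_sup_dvd (Or.inl hP)) (Nat.Coprime.mul_left
        (hc.coprime_dvd_right (card_dvd_of_le h3.le_left)) ?_)
      exact isPi_coprime (hall_isPi hS) (isPi_piCoreOf _ _)
    · refine isNilpotent_of_le (h (K ⊔ S) ?_ (le_normalizer_sup (le_sup_left.trans hAK) hP)
        (dv (syl_isPGroup hS) hS0 le_sup_right)) le_sup_left
      refine (sup_le (hK.le.trans h3.le_left) h3.le_right).lt_of_ne fun e => hK.ne ?_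
      rw [← h3.sup_inf_left hK.le (le_sup_right.trans hAK), e, inf_eq_right.2 h3.le_left]
  by_cases hp2 : p = 2
  · subst hp2
    rcases (inf_le_left : G ⊓ C[A] ≤ G).lt_or_eq with h3 | h3
    · have h4 : Dec (G ⊓ C[A]) := by
        by_cases h5 : Odd (Nat.card ↥(G ⊓ C[A]))
        · exact dec_of_odd h5
        · exact dec_of_nilpotent (h _ h3 (le_normalizer_inf hAG (le_normalizer_centralizer
            le_normalizer)) (even_iff_two_dvd.1 (Nat.not_odd_iff_even.1 h5)))
      exact hm Γ G A ⟨hc, hAG, fun x hx t ht h1 h2 => (h4 t ht x hx h2 h1).symm⟩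
    by_contra hns
    refine hns (hK ((S0072.result 2).2 fun Q hQp h0 => has_norm Q ((hQ _ (map_subtype_le Q)
      (hQp.map _) (fun e => h0 ((map_eq_bot_iff_of_injective _ G.subtype_injective).1 e))
        ?_).resolve_left hns)))
    exact (le_centralizer_iff.1 ((map_subtype_le Q).trans (inf_eq_left.1 h3))).trans
      (centralizer_le_normalizer _)
  · by_contra hns
    refine hns (hK ((S0117.result hp2 P).2 (has_norm _ ?_)))
    rw [H51.map_centerThompsonOf p _ G.subtype_injective]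
    exact (hQ _ ((H51.centerThompsonOf_le p _).trans (hall_le hS))
      ((syl_isPGroup hS).to_le (H51.centerThompsonOf_le p _))
      (H51.centerThompsonOf_ne_bot (syl_isPGroup hS) hS0)
      (hP.trans (H51.normalizer_le_normalizer_centerThompsonOf p _))).resolve_left hns

theorem s4241 (hm : MainStmt.{v}) {A : Type u} {G : Type v} [Group A] [Group G] [Finite A]
    [Finite G] [MulDistribMulAction A G]
    (hcop : (Nat.card A).Coprime (Nat.card G)) (p : ℕ) (hp : p.Prime) (hpG : p ∣ Nat.card G)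
    (hmax : ∀ H : Subgroup G, H ≠ ⊤ → (∀ a : A, ∀ x ∈ H, a • x ∈ H) →
      (∀ K : Subgroup G, H < K → (∀ a : A, ∀ x ∈ K, a • x ∈ K) → K = ⊤) → p ∣ Nat.card H →
        Group.IsNilpotent H) :
    Group.IsSolvable G := by
  have := finite_Hl (V := G)
  have key : ∀ H : Subgroup G, H ≠ ⊤ → (∀ a : A, ∀ x ∈ H, a • x ∈ H) → p ∣ Nat.card H →
      Group.IsNilpotent H := by
    intro H h1 h2 h3
    obtain ⟨M, hHM, hM⟩ := Finite.exists_le_maximal
      (p := fun M : Subgroup G => M ≠ ⊤ ∧ ∀ a : A, ∀ x ∈ M, a • x ∈ M) ⟨h1, h2⟩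
    refine isNilpotent_of_le (hmax M hM.prop.1 hM.prop.2 (fun K hK hKa => ?_)
      (h3.trans (card_dvd_of_le hHM))) hHM
    by_contra e
    exact hK.not_ge (hM.le_of_ge ⟨e, hKa⟩ hK.le)
  refine H18.OC.hol_solv (nil_solv hm _ _ _ ((MulDistribMulAction.toMulAut A G).range.map inr) p
    rfl hp (H18.OC.hol_card (G := G) ▸ hpG) (map_inr_le_normalizer _) ?_ fun K hK hn hd => ?_)
  · rw [card_map_of_injective inr_injective, H18.OC.hol_card]
    exact hcop.coprime_dvd_left (card_range_dvd _)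
  have e : (K.comap (inl : G →* Hl G)).map inl = K := map_comap_eq_self hK.le
  rw [← e] at hd ⊢
  rw [card_map_of_injective inl_injective] at hd
  refine H3.isNilpotent_map (key _ (fun e' => hK.ne ?_) (fun a x hx => ?_) hd) _
  · rw [← e, e', ← MonoidHom.range_eq_map]
  · have h1 := (mem_normalizer_iff.1 (hn ⟨_, ⟨a, rfl⟩, rfl⟩) _).1 hx
    rwa [← map_inv, ← inl_aut] at h1

end Cfsg.Agent.FPN
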