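import Cfsg.Agent.H85.FPN2
import Cfsg.Agent.H53.FMDefs

/-! The subgroup `Y` is invariant under the operator group. -/

set_option autoImplicit false

namespace Cfsg.Agent.FPK

open Subgroup Cfsg Cfsg.Agent.H83 Cfsg.Agent.H85.FP
open Cfsg.Agent.H53.OC (mem_cent_iff factTwo le_normalizer_of_cj)
open Cfsg.Agent.H63 (quo coset cosetpre)
open scoped commutatorElement

universe u

theorem yd_of_ya {Γ : Type u} [Group Γ] [Finite Γ] {G A S Y : Subgroup Γ} (e : Env G A S)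
    (hy : YA G A S Y) : YD G A S Y := by
  refine ⟨hy.le, hy.ne, hy.ea, (inf_le_inf_left _
    (H51.normalizer_le_normalizer_thompsonSubgroupOf 2 S)).trans hy.nJ, fun U h1 h2 h3 h4 => ?_⟩
  have hs := e.sol U h1 h2 h3 h4
  have SH : S ≤ G ⊓ normalizer (U : Set Γ) := le_inf e.syl.le h3
  have AH := le_norm_inf e.AG (le_norm_norm h4)
  have HG : G ⊓ normalizer (U : Set Γ) ≤ G := inf_le_left
  generalize G ⊓ normalizer (U : Set Γ) = H at hs SH AH HG
  have o0 := H63.piCoreOf_quo_self {2}ᶜ H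
  have o1 := H67.piCoreOf_normalIn {2}ᶜ H
  have o2 := H67.le_normalizer_piCoreOf (π := {2}ᶜ) AH
  have o3 := Nat.odd_iff.2 (Nat.two_dvd_ne_zero.1
    ((H67.isPi_compl_singleton_iff Nat.prime_two).1 (H67.isPi_piCoreOf {2}ᶜ H)))
  generalize piCoreOf {2}ᶜ H = O at o0 o1 o2 o3
  have hch : CharP 2 (quo H O) := by
    have := H3.charP'_of_solvable (p := 2) (H63.quo_isSolvable O hs) o0
    rwa [H3.CharP', ← H67.map_pCore_subtype Nat.prime_two] at this
  have YO : Y ≤ normalizer (O : Set Γ) := hy.le.trans (SH.trans o1.2)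
  by_cases hn : H ≤ normalizer ((Y ⊔ O : Subgroup Γ) : Set Γ)
  · exact ⟨O, o1.1, o1.2, o3, fun n hn' => frattini_odd (EA_isPGroup hy.ea) o3 YO (hn hn')⟩
  exfalso
  obtain ⟨P, ⟨SP, PH, AP, nn⟩, hm⟩ := Set.Finite.exists_minimal (Set.toFinite
    {K : Subgroup Γ | S ≤ K ∧ K ≤ H ∧ A ≤ normalizer (K : Set Γ) ∧
      ¬ K ≤ normalizer ((Y ⊔ O : Subgroup Γ) : Set Γ)}) ⟨H, SH, le_rfl, AH, hn⟩
  have PO := le_norm_inf (PH.trans o1.2) (le_normalizer (H := P))
  have AO := le_norm_inf o2 AP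
  have nn' : ¬ P ≤ P ⊓ normalizer ((Y ⊔ O ⊓ P : Subgroup Γ) : Set Γ) := fun hc => nn (by
    have := le_norm_sup (hc.trans inf_le_right) (PH.trans o1.2)
    rwa [sup_assoc, sup_eq_right.2 (inf_le_left : O ⊓ P ≤ O)] at this)
  have min : ∀ K : Subgroup Γ, S ≤ K → K < P → A ≤ normalizer (K : Set Γ) →
      K ≤ P ⊓ normalizer ((Y ⊔ O ⊓ P : Subgroup Γ) : Set Γ) := fun K a b c => by
    refine le_inf b.le ?_
    rw [← dedekind YO (hy.le.trans SP)]
    exact le_norm_inf (by_contra fun hc => b.not_ge (hm ⟨a, b.le.trans PH, c, hc⟩ b.le))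
      (le_norm_of_le b.le)
  have core : ∀ D : Subgroup Γ, D ≤ S → P ≤ normalizer ((D ⊔ O ⊓ P : Subgroup Γ) : Set Γ) →
      D ≤ pCoreOf 2 P := fun D a b => core_aux (e.syl.mono SP (PH.trans HG)) e.AS AP inf_le_right PO
    AO (le_inf inf_le_right (le_norm_of_le le_sup_right)) nn' min a b
  haveI := hs
  refine mp n2 dih Γ G A S Y P (O ⊓ P) _ e hy ⟨PH.trans HG, SP, AP,
    solvable_of_solvable_injective (inclusion_injective PH), inf_le_right, PO, AO,
    odd_iff_cop.2 ((odd_iff_cop.1 o3).coprime_dvd_left (card_dvd_of_le inf_le_left)), ?_, core, rfl,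
    nn', min⟩
  set L := cosetpre O (pCoreOf 2 (quo H O)) with hL
  have LH : L ≤ H := (H63.cosetpre_le_iff o1).2 (pCoreOf_le _)
  have HL : H ≤ normalizer (L : Set Γ) := H63.le_norm_cosetpre o1.2 (le_norm_pCoreOf _)
  have l1 : L = S ⊓ L ⊔ O := by
    refine le_antisymm ?_ (sup_le inf_le_right (H63.le_cosetpre _))
    rw [sup_comm]
    refine ((e.syl.mono SH HG).inf_normal LH HL).le_sup_of_pMod (LH.trans o1.2) fun x hx => ?_
    obtain ⟨k, hk⟩ := isPGroup_iff.1 (pCoreOf_isPGroup _) _ (H63.mem_cosetpre.1 hx).2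
    exact ⟨k, (H63.coset_eq_one_iff (o1.2 (LH (pow_mem hx _)))).1
      (by rw [H63.coset_pow (o1.2 (LH hx)), hk])⟩
  have l2 : L ⊓ P = S ⊓ L ⊔ O ⊓ P := by
    conv_lhs => rw [l1]
    exact dedekind (inf_le_right.trans (LH.trans o1.2)) (inf_le_left.trans SP)
  have l3 := core (S ⊓ L) inf_le_left (l2 ▸ le_norm_inf (PH.trans HL) le_normalizer)
  intro x hx
  have l4 : coset O x ∈ centralizer (pCoreOf 2 (quo H O) : Set _) := by
    have := H63.quo_cent (S ⊓ L) O (H63.coset_mem_quo (o1.2 (PH hx.1)) (cent_anti l3 hx.2))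
    rwa [← H63.sup_quo_right (inf_le_right.trans (LH.trans o1.2)), ← l1, hL, H63.cosetpre_quo] at this
  exact sup_le_sup_right l3 _ (l2.le ⟨H63.mem_cosetpre.2 ⟨o1.2 (PH hx.1),
    hch ⟨H63.coset_mem_quo (o1.2 (PH hx.1)) (PH hx.1), l4⟩⟩, hx.1⟩)

theorem yM : H53.FM.YStmt.{u} := fun Γ _ _ G A S e h0 =>
  (ya Γ G A S e h0).imp fun _ hy => ⟨yd_of_ya e hy, hy.AY⟩

end Cfsg.Agent.FPK
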