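import Cfsg.Agent.H35.L3Defs
import Cfsg.Agent.H85.Basic
import Cfsg.Agent.H52.Quasisimple
import Cfsg.Agent.H73.Descent

/-! The model of `L₃(q)`, `q` even: symmetries and frames. -/

set_option autoImplicit false
set_option linter.unusedSectionVars false

namespace Cfsg.Agent.H85.L3K

open Cfsg Cfsg.Agent.H63 Cfsg.Agent.H63.SL Cfsg.Agent.H35.L3 Subgroup
open Cfsg.Agent.H8 (IsSylowIn)
open scoped commutatorElement

universe u v

section Ring

variable {A : Type v} [CommRing A] {G : Type u} [Group G] {x y : Fin 3 → Fin 3 → A → G}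

theorem x_zero (s : St3 x) {i j : Fin 3} (h : i ≠ j) : x i j 0 = 1 := by
  have := s.add i j h 0 0
  rw [add_zero] at this
  exact (mul_eq_left.1 this.symm)

theorem add_self (s : St3 x) (a : A) : a + a = 0 := by rw [← two_mul, s.two, zero_mul]

theorem x_sq (s : St3 x) {i j : Fin 3} (h : i ≠ j) (a : A) : x i j a * x i j a = 1 := by
  rw [← s.add i j h, add_self s, x_zero s h]

theorem x_inv (s : St3 x) {i j : Fin 3} (h : i ≠ j) (a : A) : (x i j a)⁻¹ = x i j a :=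
  inv_eq_of_mul_eq_one_right (x_sq s h a)

theorem mem_All {i j : Fin 3} (h : i ≠ j) (a : A) : x i j a ∈ All x := subset_closure ⟨i, j, h, a, rfl⟩

theorem mem_Row {i j : Fin 3} (h : i ≠ j) (a : A) : x i j a ∈ Row x i := subset_closure ⟨j, h, a, rfl⟩

theorem mem_Col {i j : Fin 3} (h : i ≠ j) (a : A) : x i j a ∈ Col x j := subset_closure ⟨i, h, a, rfl⟩

theorem mem_X3 (i j : Fin 3) (a : A) : x i j a ∈ X3 x i j := subset_closure ⟨a, rfl⟩

theorem a_mem (a : A) : x 0 1 a ∈ U3 x := mem_sup_left (mem_Row (by decide) a)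
theorem b_mem (a : A) : x 1 2 a ∈ U3 x := mem_sup_right (mem_Col (by decide) a)
theorem c_mem (a : A) : x 0 2 a ∈ U3 x := mem_sup_left (mem_Row (by decide) a)

/-- `y` is the conjugate of `x` by `g`. -/
def Tr (g : G) (x y : Fin 3 → Fin 3 → A → G) : Prop :=
  ∀ i j, i ≠ j → ∀ a, y i j a = g * x i j a * g⁻¹

theorem Tr.symm {g : G} (h : Tr g x y) : Tr g⁻¹ y x := fun i j hij a => by
  rw [h i j hij]; group

theorem Tr.st {g : G} (h : Tr g x y) (s : St3 x) : St3 y where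
  two := s.two
  add i j hij a b := by rw [h i j hij, h i j hij, h i j hij, s.add i j hij]; group
  rel i j k h1 h2 h3 a b := by
    rw [h i j h1, h j k h2, h i k h3, ← s.rel i j k h1 h2 h3, conjugate_commutatorElement]
  row i j k h1 h2 a b := by
    rw [h i j h1, h i k h2]; exact (s.row i j k h1 h2 a b).map (MulAut.conj g)
  col i j k h1 h2 a b := by
    rw [h i k h1, h j k h2]; exact (s.col i j k h1 h2 a b).map (MulAut.conj g)
  inj i j hij a e := s.inj i j hij a (by rw [h i j hij] at e; simpa using e)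

theorem Tr.row {g : G} (h : Tr g x y) (i : Fin 3) : Row y i = cj g (Row x i) := by
  rw [Row, Row, cj, MonoidHom.map_closure]
  congr 1
  ext w
  constructor
  · rintro ⟨j, hj, a, rfl⟩; exact ⟨_, ⟨j, hj, a, rfl⟩, (h i j hj a).symm⟩
  · rintro ⟨_, ⟨j, hj, a, rfl⟩, rfl⟩; exact ⟨j, hj, a, (h i j hj a).symm⟩

theorem Tr.col {g : G} (h : Tr g x y) (i : Fin 3) : Col y i = cj g (Col x i) := by
  rw [Col, Col, cj, MonoidHom.map_closure]
  congr 1
  ext w
  constructor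
  · rintro ⟨j, hj, a, rfl⟩; exact ⟨_, ⟨j, hj, a, rfl⟩, (h j i hj a).symm⟩
  · rintro ⟨_, ⟨j, hj, a, rfl⟩, rfl⟩; exact ⟨j, hj, a, (h j i hj a).symm⟩

theorem Tr.all {g : G} (h : Tr g x y) : All y = cj g (All x) := by
  rw [All, All, cj, MonoidHom.map_closure]
  congr 1
  ext w
  constructor
  · rintro ⟨i, j, hj, a, rfl⟩; exact ⟨_, ⟨i, j, hj, a, rfl⟩, (h i j hj a).symm⟩
  · rintro ⟨_, ⟨i, j, hj, a, rfl⟩, rfl⟩; exact ⟨i, j, hj, a, (h i j hj a).symm⟩

theorem Tr.u3 {g : G} (h : Tr g x y) : U3 y = cj g (U3 x) := by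
  rw [U3, U3, Y3, Y3, cj_sup, h.row, h.col]

theorem rev_ne {i j : Fin 3} (h : i ≠ j) : j.rev ≠ i.rev := fun e => h (Fin.rev_injective e).symm

theorem fl_false : fl x false = x := rfl

theorem fl_true (i j : Fin 3) : fl x true i j = x j.rev i.rev := rfl

theorem fl_fl (ε ε' : Bool) : fl (fl x ε) ε' = fl x (xor ε ε') := by
  cases ε <;> cases ε' <;> funext i j <;> simp [fl]

theorem Tr.fl {g : G} (h : Tr g x y) (ε : Bool) : Tr g (fl x ε) (fl y ε) := by
  cases ε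
  · exact h
  · exact fun i j hij a => h _ _ (rev_ne hij) a

theorem Tr.fr {g f : G} {ε : Bool} {φ : A ≃+* A} (h : Tr g x y) (hf : Fr3 x f ε φ) :
    Fr3 y (g * f * g⁻¹) ε φ := by
  obtain ⟨d, hd⟩ := hf
  refine ⟨d, fun i j hij a => ?_⟩
  rw [h.fl ε i j hij, h i j hij, ← hd i j hij]
  group

theorem st_fl (s : St3 x) : St3 (fl x true) where
  two := s.two
  add i j h a b := s.add _ _ (rev_ne h) a b
  rel i j k h1 h2 h3 a b := by
    rw [fl_true, fl_true, fl_true, ← commutatorElement_inv,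
      s.rel _ _ _ (rev_ne h2) (rev_ne h1) (rev_ne h3), x_inv s (rev_ne h3), mul_comm]
  row i j k h1 h2 a b := s.col _ _ _ (rev_ne h1) (rev_ne h2) a b
  col i j k h1 h2 a b := s.row _ _ _ (rev_ne h1) (rev_ne h2) a b
  inj i j h a e := s.inj _ _ (rev_ne h) a e

theorem row_fl (i : Fin 3) : Row (fl x true) i = Col x i.rev := by
  rw [Row, Col]
  congr 1
  ext w
  constructor
  · rintro ⟨j, hj, a, rfl⟩; exact ⟨j.rev, rev_ne hj, a, rfl⟩
  · rintro ⟨j, hj, a, rfl⟩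
    exact ⟨j.rev, fun e => hj (by rw [e, Fin.rev_rev]), a, by rw [fl_true, Fin.rev_rev]⟩

theorem col_fl (i : Fin 3) : Col (fl x true) i = Row x i.rev := by
  have := row_fl (x := fl x true) i.rev
  rw [fl_fl, Fin.rev_rev] at this
  exact this.symm

theorem all_fl : All (fl x true) = All x := by
  rw [All, All]
  congr 1
  ext w
  constructor
  · rintro ⟨i, j, hj, a, rfl⟩; exact ⟨j.rev, i.rev, rev_ne hj, a, rfl⟩
  · rintro ⟨i, j, hj, a, rfl⟩
    exact ⟨j.rev, i.rev, rev_ne hj, a, by rw [fl_true, Fin.rev_rev, Fin.rev_rev]⟩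

theorem u3_fl : U3 (fl x true) = U3 x := by
  rw [U3, U3, Y3, Y3, row_fl, col_fl, sup_comm]; rfl

theorem all_fl' (ε : Bool) : All (fl x ε) = All x := by
  cases ε
  · rfl
  · exact all_fl

theorem u3_fl' (ε : Bool) : U3 (fl x ε) = U3 x := by
  cases ε
  · rfl
  · exact u3_fl

theorem fr_fl {f : G} {ε : Bool} {φ : A ≃+* A} (hf : Fr3 x f ε φ) : Fr3 (fl x true) f ε φ := by
  obtain ⟨d, hd⟩ := hf
  refine ⟨fun i => (d i.rev)⁻¹, fun i j hij a => ?_⟩
  rw [fl_true, hd _ _ (rev_ne hij), fl_fl, Bool.xor_comm, ← fl_fl, fl_true, inv_inv,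
    mul_comm (d j.rev : A)]

theorem row_perm (π : Equiv.Perm (Fin 3)) (i : Fin 3) :
    Row (fun i j => x (π i) (π j)) i = Row x (π i) := by
  rw [Row, Row]
  congr 1
  ext w
  constructor
  · rintro ⟨j, hj, a, rfl⟩; exact ⟨π j, π.injective.ne hj, a, rfl⟩
  · rintro ⟨j, hj, a, rfl⟩
    obtain ⟨j, rfl⟩ := π.surjective j
    exact ⟨j, fun e => hj (by rw [e]), a, rfl⟩

theorem col_perm (π : Equiv.Perm (Fin 3)) (i : Fin 3) :
    Col (fun i j => x (π i) (π j)) i = Col x (π i) := by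
  rw [Col, Col]
  congr 1
  ext w
  constructor
  · rintro ⟨j, hj, a, rfl⟩; exact ⟨π j, π.injective.ne hj, a, rfl⟩
  · rintro ⟨j, hj, a, rfl⟩
    obtain ⟨j, rfl⟩ := π.surjective j
    exact ⟨j, fun e => hj (by rw [e]), a, rfl⟩

/-! ### Frames -/

theorem fr_mul {f f' : G} {ε ε' : Bool} {φ φ' : A ≃+* A} (h : Fr3 x f ε φ) (h' : Fr3 x f' ε' φ') :
    Fr3 x (f * f') (xor ε ε') (φ * φ') := by
  obtain ⟨d, hd⟩ := h
  obtain ⟨d', hd'⟩ := h'
  have e : ∀ w : G, f * f' * w * (f * f')⁻¹ = f * (f' * w * f'⁻¹) * f⁻¹ := fun w => by group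
  cases ε'
  · refine ⟨fun i => d i * Units.map φ.toMonoidHom (d' i), fun i j hij a => ?_⟩
    rw [e, hd' i j hij, fl_false, hd i j hij, Bool.xor_false]
    congr 1
    simp only [map_mul, RingAut.mul_apply, Units.val_mul, mul_inv_rev, ← map_inv, Units.coe_map]
    change _ = _ * φ _ * (φ _ * _) * _
    ring
  · refine ⟨fun i => (d i.rev)⁻¹ * Units.map φ.toMonoidHom (d' i), fun i j hij a => ?_⟩
    rw [e, hd' i j hij, fl_true, hd _ _ (rev_ne hij), ← fl_fl, fl_true]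
    congr 1
    simp only [map_mul, RingAut.mul_apply, Units.val_mul, mul_inv_rev, ← map_inv, Units.coe_map,
      inv_inv]
    change _ = _ * φ _ * (φ _ * _) * _
    ring

theorem fr_inv {f : G} {ε : Bool} {φ : A ≃+* A} (h : Fr3 x f ε φ) : Fr3 x f⁻¹ ε φ⁻¹ := by
  obtain ⟨d, hd⟩ := h
  have e : ∀ w w' : G, f * w * f⁻¹ = w' → f⁻¹ * w' * f⁻¹⁻¹ = w := fun w w' h => by
    rw [← h]; group
  cases ε
  · refine ⟨fun i => Units.map φ.symm.toMonoidHom (d i)⁻¹, fun i j hij a => e _ _ ?_⟩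
    rw [fl_false, hd i j hij, fl_false]
    congr 1
    simp only [map_mul, ← map_inv, Units.coe_map, inv_inv, RingAut.inv_apply]
    change _ * (φ (φ.symm _) * φ (φ.symm _) * _) = _
    simp only [RingEquiv.apply_symm_apply]
    linear_combination (a * d j * ((d j)⁻¹ : Aˣ)) * (d i).mul_inv + a * (d j).mul_inv
  · refine ⟨fun i => Units.map φ.symm.toMonoidHom (d i.rev), fun i j hij a => e _ _ ?_⟩
    rw [fl_true, hd _ _ (rev_ne hij), fl_true, Fin.rev_rev, Fin.rev_rev]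
    congr 1
    simp only [map_mul, ← map_inv, Units.coe_map, RingAut.inv_apply]
    change _ * (φ (φ.symm _) * φ (φ.symm _) * _) = _
    simp only [RingEquiv.apply_symm_apply]
    linear_combination (a * d j.rev * ((d j.rev)⁻¹ : Aˣ)) * (d i.rev).mul_inv +
      a * (d j.rev).mul_inv

theorem fr_tor {h : G} {d : Fin 3 → Aˣ} (hd : Tor x h d) : Fr3 x h false 1 := ⟨d, hd⟩

theorem tor_of_fr {f : G} (h : Fr3 x f false 1) : ∃ d, Tor x f d := h

theorem tor_pow {h : G} {d : Fin 3 → Aˣ} (hd : Tor x h d) (n : ℕ) : Tor x (h ^ n) (d ^ n) := by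
  induction n with
  | zero => intro i j _ a; simp
  | succ n ih =>
    intro i j hij a
    rw [show h ^ (n + 1) * x i j a * (h ^ (n + 1))⁻¹ = h * (h ^ n * x i j a * (h ^ n)⁻¹) * h⁻¹ by
      group, ih i j hij, hd i j hij]
    congr 1
    simp only [Pi.pow_apply, pow_succ, mul_inv_rev, Units.val_mul]
    ring

theorem cent_of (g : G) (h : ∀ i j, i ≠ j → ∀ a, g * x i j a * g⁻¹ = x i j a) : g ∈ C[All x] := by
  rw [All, centralizer_closure, mem_centralizer_iff]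
  rintro _ ⟨i, j, hij, a, rfl⟩
  exact (mul_inv_eq_iff_eq_mul.1 (h i j hij a)).symm

theorem cj_of_cent {H : Subgroup G} {k w : G} (hk : k ∈ C[H]) (hw : w ∈ H) : k * w * k⁻¹ = w :=
  mul_inv_eq_iff_eq_mul.2 (hk w hw).symm

theorem fr_cent {k : G} (hk : k ∈ C[All x]) : Fr3 x k false 1 :=
  ⟨1, fun i j hij a => by rw [cj_of_cent hk (mem_All hij a)]; simp [fl]⟩

theorem cent_of_tor {f h : G} {d d' : Fin 3 → Aˣ} (hf : Tor x f d) (hh : Tor x h d')
    (e : ∀ i j, d i * (d j)⁻¹ = d' i * (d' j)⁻¹) : h⁻¹ * f ∈ C[All x] :=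
  cent_of _ fun i j hij a => by
    rw [show h⁻¹ * f * x i j a * (h⁻¹ * f)⁻¹ = h⁻¹ * (f * x i j a * f⁻¹) * h by group, hf i j hij,
      ← Units.val_mul, e, Units.val_mul, ← hh i j hij]
    group

variable [Finite G]

theorem fr_NL {f : G} {ε : Bool} {φ : A ≃+* A} (h : Fr3 x f ε φ) : f ∈ N[All x] := by
  obtain ⟨d, hd⟩ := h
  refine mem_normalizer_of_cj_le ?_
  conv_lhs => rw [All, cj, MonoidHom.map_closure]
  rw [closure_le]
  rintro _ ⟨_, ⟨i, j, hij, a, rfl⟩, rfl⟩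
  change f * x i j a * f⁻¹ ∈ All x
  rw [hd i j hij, ← all_fl' ε]
  exact mem_All hij _

theorem fr_NU {f : G} {ε : Bool} {φ : A ≃+* A} (h : Fr3 x f ε φ) : f ∈ N[U3 x] := by
  obtain ⟨d, hd⟩ := h
  refine mem_normalizer_of_cj_le ?_
  conv_lhs => rw [U3, Y3, cj_sup, Row, Col, cj, cj, MonoidHom.map_closure, MonoidHom.map_closure]
  rw [sup_le_iff, closure_le, closure_le, ← u3_fl' ε]
  constructor
  · rintro _ ⟨_, ⟨j, hij, a, rfl⟩, rfl⟩
    change f * x 0 j a * f⁻¹ ∈ U3 (fl x ε)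
    rw [hd 0 j hij]
    exact mem_sup_left (mem_Row hij _)
  · rintro _ ⟨_, ⟨j, hij, a, rfl⟩, rfl⟩
    change f * x j 2 a * f⁻¹ ∈ U3 (fl x ε)
    rw [hd j 2 hij]
    exact mem_sup_right (mem_Col hij _)

end Ring

section Field

variable {F : Type v} [Field F] {G : Type u} [Group G] [Finite G] {L : Subgroup G}
  {x y : Fin 3 → Fin 3 → F → G}

theorem m_tr {g : G} (m : M3 L x) (h : Tr g x y) : M3 (cj g L) y where
  st := h.st m.st
  four := m.four
  gen := by rw [h.all, m.gen]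
  qs := (H52.isQuasisimple_map_iff_of_injective (MulAut.conj g).injective).2 m.qs
  zodd z hz := by
    rw [← cj_centralizer, ← cj_inf] at hz
    have := m.zodd _ (mem_cj.1 hz)
    rwa [show g⁻¹ * z * g = MulAut.conj g⁻¹ z by simp, MulEquiv.orderOf_eq] at this
  syl := by rw [h.u3]; exact m.syl.map _
  ti l hl c c' hc e := by
    rw [h.u3, ← cj_normalizer, mem_cj]
    refine m.ti _ (mem_cj.1 hl) c c' hc ?_
    rw [h 0 2 (by decide), h 0 2 (by decide)] at e
    calc _ = g⁻¹ * (l * (g * x 0 2 c * g⁻¹) * l⁻¹) * g := by group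
      _ = _ := by rw [e]; group
  bor l hl hU := by
    rw [h.u3, ← cj_normalizer, mem_cj] at hU
    obtain ⟨w, hw, hf⟩ := m.bor _ (mem_cj.1 hl) hU
    refine ⟨g * w * g⁻¹, h.u3 ▸ conj_mem_cj hw, ?_⟩
    have := h.fr hf
    rwa [show g * (w * (g⁻¹ * l * g)) * g⁻¹ = g * w * g⁻¹ * l by group] at this
  nU l hl hU := by
    rw [h.u3, ← cj_normalizer, mem_cj] at hU
    rw [← cj_normalizer, mem_cj] at hl
    obtain ⟨w, hw, ε, φ, hf⟩ := m.nU _ hl hU
    refine ⟨g * w * g⁻¹, h.u3 ▸ conj_mem_cj hw, ε, φ, ?_⟩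
    have := h.fr hf
    rwa [show g * (w * (g⁻¹ * l * g)) * g⁻¹ = g * w * g⁻¹ * l by group] at this

theorem m_flip (m : M3 L x) : M3 L (fl x true) where
  st := st_fl m.st
  four := m.four
  gen := by rw [all_fl, m.gen]
  qs := m.qs
  zodd := m.zodd
  syl := by rw [u3_fl]; exact m.syl
  ti l hl c c' hc e := by rw [u3_fl]; exact m.ti l hl c c' hc e
  bor l hl hU := by
    rw [u3_fl] at hU ⊢
    obtain ⟨w, hw, hf⟩ := m.bor l hl hU
    exact ⟨w, hw, fr_fl hf⟩
  nU l hl hU := by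
    rw [u3_fl] at hU ⊢
    obtain ⟨w, hw, ε, φ, hf⟩ := m.nU l hl hU
    exact ⟨w, hw, ε, φ, fr_fl hf⟩

theorem m_perm (P : Pin3 x) (m : M3 L x) (π : Equiv.Perm (Fin 3)) :
    M3 L fun i j => x (π i) (π j) := by
  obtain ⟨n, hn, h⟩ := P.wey π
  have := m_tr (g := n) (y := fun i j => x (π i) (π j)) m fun i j hij a => (h i j hij a).symm
  rwa [cj_eq_of_mem (m.gen ▸ hn)] at this

end Field

end Cfsg.Agent.H85.L3K
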