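import Cfsg.Agent.H48.M2Defs
import Cfsg.Agent.H49.MonL7

/-! The centralizer of an ark. -/

set_option autoImplicit false

namespace Cfsg.Agent.H48.M2.PF

open Cfsg Subgroup QuadraticMap Module Cfsg.Agent.H30 Cfsg.Agent.H49

variable {G : Type*} [Group G] [Finite G] {Q Q' E : Subgroup G} {z b z' b' : G}

theorem eA (h : Ten Q E z b) :
    Q ⊓ centralizer ((E ⊓ Q : Subgroup G) : Set G) = Q ⊓ centralizer (E : Set G) := by
  obtain ⟨q, φ, -, -, -, hA, -⟩ := h.exists_hom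
  exact le_antisymm (le_inf inf_le_left hA) (inf_le_inf_left _ (centralizer_le inf_le_left))

theorem cA (h : Ten Q E z b) : Nat.card ↥(Q ⊓ centralizer (E : Set G)) = 2 ^ 17 := by
  have := h.hQ.card_mul_card_centralizer_of_mem (U := E ⊓ Q) inf_le_right ⟨h.zE, h.hQ.mem⟩
  rw [eA h, h.c1, h.cQ] at this
  omega

theorem dA (h : Ten Q E z b) : ∀ x ∈ Q, (∀ y ∈ Q ⊓ centralizer (E : Set G), y * x = x * y) →
    x ∈ E ⊓ Q := fun x hx a =>
  (h.hQ.centralizer_centralizer inf_le_right ⟨h.zE, h.hQ.mem⟩).le ⟨hx, eA h ▸ a⟩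

theorem d2 (h : Ten Q E z b) :
    Q ⊓ centralizer ((Q ⊓ centralizer (E : Set G) : Subgroup G) : Set G) = E ⊓ Q :=
  le_antisymm (fun x hx => dA h x hx.1 hx.2) fun x hx => ⟨hx.2, fun _ hy => (hy.2 x hx.1).symm⟩

theorem cQ (h : Ten Q E z b) : ∀ k ∈ centralizer (E : Set G), ∀ x ∈ Q ⊓ centralizer (E : Set G),
    k * x * k⁻¹ ∈ Q ⊓ centralizer (E : Set G) := fun k hk _ hx =>
  ⟨h.hQ.conj_mem (hk z h.zE).symm hx.1, Subgroup.mul_mem _ (Subgroup.mul_mem _ hk hx.2) (Subgroup.inv_mem _ hk)⟩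

theorem AB (h : Ten Q E z b) (h' : Ten Q' E z' b') (zP : z ∉ Q') :
    (Q ⊓ centralizer (E : Set G)) ⊓ (Q' ⊓ centralizer (E : Set G)) ≤ E ⊓ Q :=
  fun x hx => dA h x hx.1.1 fun y hy => by
    by_contra a
    have := (cQ h' y hy.2 x hx.2).1
    rw [h.hQ.conj_of_ne hy.1 hx.1.1 a] at this
    exact zP (by simpa only [inv_mul_cancel_left] using Q'.mul_mem (Q'.inv_mem hx.2.1) this)

theorem dec (h : Ten Q E z b) (h' : Ten Q' E z' b') (zP : z ∉ Q') :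
    ∀ x ∈ centralizer (E : Set G), ∃ a ∈ Q ⊓ centralizer (E : Set G),
      ∃ a' ∈ Q' ⊓ centralizer (E : Set G), a * a' = x := by
  obtain ⟨q, φ, nd, hk, hH, -, hN⟩ := h.exists_hom
  have ab := AB h h' zP
  have c1 := cA h
  have c2 := cA h'
  have cP := cQ h'
  set C := centralizer (E : Set G) with hC
  have CN : C ≤ normalizer (E : Set G) := centralizer_le_normalizer _
  have nB : Q ⊓ C ≤ normalizer ((Q' ⊓ C : Subgroup G) : Set G) := fun k hk =>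
    mem_normalizer_of_conj_mem (cP k hk.2)
  have cS := H3.card_sup_mul_card_inf_of_le_normalizer nB
  have SC : (Q ⊓ C) ⊔ (Q' ⊓ C) ≤ C := sup_le inf_le_right inf_le_right
  have c8 : Nat.card ↥((Q ⊓ C) ⊓ (Q' ⊓ C)) ≤ 2 ^ 8 := by
    obtain ⟨k, e⟩ := card_dvd_of_le ab
    have : k ≠ 1 := fun e' => zP ((eq_of_le_of_card_ge ab (by rw [e, e', mul_one])).ge
      ⟨h.zE, h.hQ.mem⟩).2.1
    rw [h.c1] at e
    have : k ≠ 0 := by rintro rfl; omega
    have := Nat.mul_le_mul_left (Nat.card ↥((Q ⊓ C) ⊓ (Q' ⊓ C))) (show 2 ≤ k by omega)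
    omega
  rw [c1, c2] at cS
  have c26 : 2 ^ 26 ≤ Nat.card ↥((Q ⊓ C) ⊔ (Q' ⊓ C)) := by
    have := Nat.mul_le_mul_left (Nat.card ↥((Q ⊓ C) ⊔ (Q' ⊓ C))) c8
    omega
  have ck : Nat.card φ.ker = Nat.card C := by
    rw [hk, Nat.card_congr (subgroupOfEquivOfLe CN).toEquiv]
  obtain ⟨-, -, cC⟩ := orth_count nd (by simp) hH (c26.trans (card_le_of_le SC)) (by
    rw [← ck, ← index_ker, φ.ker.card_mul_index]; exact hN)
  have eC : (Q ⊓ C) ⊔ (Q' ⊓ C) = C := eq_of_le_of_card_ge SC (by omega)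
  exact fun x hx => (mem_sup_of_le_normalizer' nB).1 (eC.ge hx)

theorem cm (h : Ten Q E z b) (h' : Ten Q' E z' b') (zP : z ∉ Q') :
    ∀ x ∈ centralizer (E : Set G), ∀ y ∈ centralizer (E : Set G), x * y * x⁻¹ * y⁻¹ ∈ E := by
  have CN : centralizer (E : Set G) ≤ normalizer (E : Set G) := centralizer_le_normalizer _
  have hsq : ∀ x ∈ centralizer (E : Set G), x * x ∈ E := fun x hx => by
    obtain ⟨a, ha, a', ha', rfl⟩ := dec h h' zP x hx
    have cmm : a * a' * a⁻¹ * a'⁻¹ ∈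
        (Q ⊓ centralizer (E : Set G)) ⊓ (Q' ⊓ centralizer (E : Set G)) :=
      mem_inf.2 ⟨by simpa only [mul_assoc] using mul_mem ha (cQ h a' ha'.2 _ (inv_mem ha)),
        mul_mem (cQ h' a ha.2 _ ha') (inv_mem ha')⟩
    have h1 : a * a ∈ E := zpowers_le.2 h.zE (h.hQ.sq_mem ha.1)
    have h2 : a' * a' ∈ E := zpowers_le.2 h'.zE (h'.hQ.sq_mem ha'.1)
    have := mul_mem (mul_mem (AB h h' zP cmm).1
      (conj_mem_of_mem_normalizer (CN ha'.2) h1)) h2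
    rwa [show a * a' * a⁻¹ * a'⁻¹ * (a' * (a * a) * a'⁻¹) * (a' * a') = a * a' * (a * a') by group]
      at this
  exact fun x hx y hy => commutator_mem_of_sq CN hsq hx hy

theorem ix (h : Ten Q E z b) : ∀ x ∈ Q ⊔ E, ∀ y ∈ Q ⊔ E, x ∉ Q → y ∉ Q → x * y ∈ Q := by
  intro x hx y hy a c
  obtain ⟨q, hq, e, he, rfl⟩ := (mem_sup_of_le_normalizer' h.QN).1 hx
  obtain ⟨q', hq', e', he', rfl⟩ := (mem_sup_of_le_normalizer' h.QN).1 hy
  have := mul_mem (mul_mem hq (h.hQ.conj_mem (h.cm he h.zE) hq'))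
    (h.mul_mem_Q he he' (fun k => a (mul_mem hq k)) fun k => c (mul_mem hq' k))
  rwa [show q * (e * q' * e⁻¹) * (e * e') = q * e * (q' * e') by group] at this

theorem tr (h : Ten Q E z b) (h' : Ten Q' E z' b') (zP : z' ∉ Q) :
    Q' ⊓ centralizer (E : Set G) ⊓ (Q ⊔ E) ≤ E := by
  rintro p ⟨hp, hs⟩
  obtain ⟨q, hq, e, he, rfl⟩ := (mem_sup_of_le_normalizer' h.QN).1 hs
  refine (dA h' _ hp.1 fun y hy => ?_).1
  by_contra a
  have h1 := h'.hQ.conj_of_ne hy.1 hp.1 a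
  have h2 : y * q * y⁻¹ ∈ Q := h.hQ.conj_mem (hy.2 z h.zE).symm hq
  have h3 : y * q * y⁻¹ = q * z' := by
    have h4 : e * y = y * e := hy.2 e he
    have h5 : e * z' = z' * e := h.cm he h'.zE
    calc y * q * y⁻¹ = y * (q * e) * (y * e)⁻¹ * (e * e⁻¹) := by group
      _ = y * (q * e) * y⁻¹ * e⁻¹ := by rw [← h4]; group
      _ = q * (e * z') * e⁻¹ := by rw [h1]; group
      _ = _ := by rw [h5]; group
  rw [h3] at h2
  exact zP (by simpa only [inv_mul_cancel_left] using Q.mul_mem (Q.inv_mem hq) h2)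

end Cfsg.Agent.H48.M2.PF

namespace Cfsg.Agent.H48.M2

open Cfsg Subgroup Cfsg.Agent.H48 Cfsg.Agent.H48.Rec Cfsg.Agent.H49 Cfsg.Agent.H95.Par
open Cfsg.Agent.H97.Gr (DD ZZ)
open Cfsg.Agent.H97.Yt (M)

theorem pf_of (st : StStmt) (ta : TaStmt) : PfStmt := by
  intro A hA
  have T : ∀ u ∈ A, u ∈ ZZ → ∃ b, Ten (Qz u) A u b := fun u hu hz =>
    let ⟨b, _, _, s⟩ := st A hA u hu hz
    ⟨b, s.ten⟩
  have ex : ∃ w ∈ A, w ∈ ZZ := by
    obtain ⟨u, y, t, rfl⟩ := hA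
    exact ⟨u, (ta u y t).2.2.2.1, (ta u y t).1⟩
  have ex' : ∀ w ∈ A, w ∈ ZZ → ∃ w' ∈ A, w' ∈ ZZ ∧ w' ∉ Qz w := fun w hw hz => by
    obtain ⟨b, t⟩ := T w hw hz
    obtain ⟨n, hn, c⟩ := t.ex
    exact ⟨_, conj_mem_of_mem_normalizer hn hw, ZZ_cj n hz, c⟩
  obtain ⟨w, hw, hz⟩ := id ex
  obtain ⟨w', hw', hz', np⟩ := ex' w hw hz
  obtain ⟨b, t⟩ := T w hw hz
  obtain ⟨b', t'⟩ := T w' hw' hz'
  exact
    { el := t.sq
      card := t.card
      cm := PF.cm t' t np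
      c9 := fun u hu hz => let ⟨_, t⟩ := T u hu hz; t.c1
      c17 := fun u hu hz => let ⟨_, t⟩ := T u hu hz; PF.cA t
      d1 := fun u hu hz => let ⟨_, t⟩ := T u hu hz; PF.eA t
      d2 := fun u hu hz => let ⟨_, t⟩ := T u hu hz; PF.d2 t
      ix := fun u hu hz => let ⟨_, t⟩ := T u hu hz; PF.ix t
      pd := fun w hw hz w' hw' hz' np p hp => by
        obtain ⟨b, t⟩ := T w hw hz
        obtain ⟨b', t'⟩ := T w' hw' hz'
        obtain ⟨a, ha, a', ha', e⟩ := PF.dec t t' (fun e => np (sym hz' hz e)) p hp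
        exact ⟨a, ha, a', ha', 1, one_mem _, by rw [mul_one, e]⟩
      tr := fun w hw hz w' hw' hz' np => by
        obtain ⟨b, t⟩ := T w hw hz
        obtain ⟨b', t'⟩ := T w' hw' hz'
        exact PF.tr t t' np
      ex := ex
      ex' := ex' }

end Cfsg.Agent.H48.M2
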