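import Mathlib

/-! Four-groups of `PSL₂(F)` in odd characteristic are self-centralising. -/

set_option autoImplicit false

namespace Cfsg.Agent.H85.PslV4

open Matrix

variable {F : Type} [Field F]

local notation "M2" => Matrix (Fin 2) (Fin 2) F
local notation "S2" => Matrix.SpecialLinearGroup (Fin 2) F
local notation "P2" => Matrix.ProjectiveSpecialLinearGroup (Fin 2) F

theorem mk_eq (X Y : S2) : (QuotientGroup.mk X : P2) = QuotientGroup.mk Y ↔
    Y.1 = X.1 ∨ Y.1 = -X.1 := by
  have hX : X.1 * (X⁻¹ * Y).1 = Y.1 := congrArg Subtype.val (mul_inv_cancel_left X Y)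
  have hY : (X⁻¹).1 * X.1 = 1 := congrArg Subtype.val (inv_mul_cancel X)
  have hZ : (X⁻¹ * Y).1 = (X⁻¹).1 * Y.1 := rfl
  rw [QuotientGroup.eq, Matrix.SpecialLinearGroup.mem_center_iff]
  constructor
  · rintro ⟨r, hr, e⟩
    have e' : Matrix.scalar (Fin 2) r = (X⁻¹ * Y).1 := e
    rw [← e'] at hX
    rw [Fintype.card_fin, sq, mul_self_eq_one_iff] at hr
    rcases hr with rfl | rfl
    · left; rw [← hX, map_one, mul_one]
    · right; rw [← hX, map_neg, map_one, mul_neg, mul_one]
  · rintro (e | e)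
    · refine ⟨1, one_pow _, show _ = (X⁻¹ * Y).1 from ?_⟩
      rw [map_one, hZ, e, hY]
    · refine ⟨-1, by simp, show _ = (X⁻¹ * Y).1 from ?_⟩
      rw [map_neg, map_one, hZ, e, mul_neg, hY]

theorem tr0 (h2 : (2 : F) ≠ 0) {A : M2} (d : A.det = 1) (h : A * A = 1 ∨ A * A = -1)
    (n1 : A ≠ 1) (n2 : A ≠ -1) : A 1 1 = -A 0 0 := by
  rw [det_fin_two] at d
  by_contra hn
  have ht : A 0 0 + A 1 1 ≠ 0 := fun e => hn (by linear_combination e)
  have e : ∀ i j, i ≠ j → (A * A) i j = 0 := fun i j hij => by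
    rcases h with h | h <;> simp [h, hij]
  have e1 := e 0 1 (by decide)
  have e2 := e 1 0 (by decide)
  simp only [mul_apply, Fin.sum_univ_two] at e1 e2
  have b : A 0 1 = 0 := (mul_eq_zero.1 (show A 0 1 * (A 0 0 + A 1 1) = 0 by
    linear_combination e1)).resolve_right ht
  have c : A 1 0 = 0 := (mul_eq_zero.1 (show A 1 0 * (A 0 0 + A 1 1) = 0 by
    linear_combination e2)).resolve_right ht
  rcases h with h | h
  · have e3 := congrFun (congrFun h 0) 0
    simp only [mul_apply, Fin.sum_univ_two, one_apply_eq] at e3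
    rw [b] at d e3
    rcases mul_self_eq_one_iff.1 (show A 0 0 * A 0 0 = 1 by linear_combination e3) with a | a
    · have : A 1 1 = 1 := by rw [a] at d; linear_combination d
      exact n1 (by ext i j; fin_cases i <;> fin_cases j <;> simp [a, b, c, this])
    · have : A 1 1 = -1 := by rw [a] at d; linear_combination -d
      exact n2 (by ext i j; fin_cases i <;> fin_cases j <;> simp [a, b, c, this])
  · have e3 := congrFun (congrFun h 0) 0
    have e4 := congrFun (congrFun h 1) 1
    simp only [mul_apply, Fin.sum_univ_two, Matrix.neg_apply, one_apply_eq] at e3 e4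
    exact ht (pow_eq_zero_iff (n := 2) (by norm_num) |>.1 (by linear_combination e3 + e4 + 2 * d))

theorem lin (h2 : (2 : F) ≠ 0) {A X : M2} (d : A.det = 1) (t : A 1 1 = -A 0 0)
    (h : A * X = X * A) : ∃ α β : F, X = α • (1 : M2) + β • A := by
  rw [det_fin_two, t] at d
  have e1 := congrFun (congrFun h 0) 0
  have e2 := congrFun (congrFun h 0) 1
  have e3 := congrFun (congrFun h 1) 0
  simp only [mul_apply, Fin.sum_univ_two, t] at e1 e2 e3
  refine ⟨(X 0 0 + X 1 1) / 2, -((X 0 0 - X 1 1) * A 0 0 + X 0 1 * A 1 0 + X 1 0 * A 0 1) / 2, ?_⟩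
  ext i j
  fin_cases i <;> fin_cases j <;> simp [t] <;> field_simp
  · linear_combination (-(X 0 0 - X 1 1)) * d + A 1 0 * e2 + A 0 0 * e1
  · linear_combination (-2 * X 0 1) * d - A 0 0 * e2 + A 0 1 * e1
  · linear_combination (-2 * X 1 0) * d + A 0 0 * e3 - A 1 0 * e1
  · linear_combination (X 0 0 - X 1 1) * d - A 1 0 * e2 - A 0 0 * e1

theorem pm_of {A X : M2} {β : F} (dA : A.det = 1) (dX : X.det = 1) (e : X = β • A) :
    X = A ∨ X = -A := by
  rw [e, det_smul, dA, Fintype.card_fin, mul_one, sq, mul_self_eq_one_iff] at dX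
  rcases dX with h | h <;> simp [e, h]

theorem scal (h2 : (2 : F) ≠ 0) {A B X : M2} (dA : A.det = 1) (dB : B.det = 1) (dX : X.det = 1)
    (t : A 1 1 = -A 0 0) (hab : B * A = -(A * B)) (ha : A * X = X * A) (hb : B * X = X * B) :
    X = 1 ∨ X = -1 := by
  obtain ⟨α, β, e⟩ := lin h2 dA t ha
  have h1 : (2 * β) • (A * B) = 0 := by
    rw [e, mul_add, add_mul, mul_smul_comm, mul_smul_comm, smul_mul_assoc, smul_mul_assoc, mul_one,
      one_mul, hab, add_right_inj, smul_neg, neg_eq_iff_add_eq_zero] at hb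
    rw [two_mul, add_smul, hb]
  have h3 : A * B ≠ 0 := fun k => by
    have := congrArg det k
    simp [dA, dB] at this
  have h4 : β = 0 := (mul_eq_zero.1 ((smul_eq_zero.1 h1).resolve_right h3)).resolve_left h2
  exact pm_of det_one dX (by rw [e, h4, zero_smul, add_zero])

theorem fact1 (h2 : (2 : F) ≠ 0) (a b : P2) (ha : a * a = 1) (hb : b * b = 1) (a1 : a ≠ 1)
    (b1 : b ≠ 1) (ab : a ≠ b) (c : Commute a b) :
    ∀ l, Commute a l → Commute b l → l = 1 ∨ l = a ∨ l = b ∨ l = a * b := by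
  intro l hal hbl
  have hab : a * b * (a * b) = 1 := by
    rw [mul_assoc, ← mul_assoc b, c.symm.eq, mul_assoc, hb, mul_one, ha]
  induction a using QuotientGroup.induction_on with | _ A => ?_
  induction b using QuotientGroup.induction_on with | _ B => ?_
  induction l using QuotientGroup.induction_on with | _ L => ?_
  have one : ∀ X : S2, (QuotientGroup.mk X : P2) = 1 ↔ X.1 = 1 ∨ X.1 = -1 := fun X =>
    eq_comm.trans (mk_eq 1 X)
  have tr : ∀ X : S2, (QuotientGroup.mk X : P2) * QuotientGroup.mk X = 1 →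
      (QuotientGroup.mk X : P2) ≠ 1 → X.1 1 1 = -X.1 0 0 := fun X h n =>
    tr0 h2 X.2 ((one (X * X)).1 h) (fun e => n ((one X).2 (.inl e))) fun e => n ((one X).2 (.inr e))
  have tA := tr A ha a1
  have tB := tr B hb b1
  have hba : B.1 * A.1 = -(A.1 * B.1) := by
    refine ((mk_eq (A * B) (B * A)).1 c.eq).resolve_left fun e => ab ((mk_eq A B).2 ?_)
    obtain ⟨α, β, k⟩ := lin h2 A.2 tA (X := B.1) (Eq.symm e)
    have h0 : α = 0 := by
      rw [k] at tB
      simp [tA] at tB
      exact (mul_eq_zero.1 (show 2 * α = 0 by linear_combination tB)).resolve_left h2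
    exact pm_of A.2 B.2 (by rw [k, h0, zero_smul, zero_add])
  have key : ∀ X : S2, A.1 * X.1 = X.1 * A.1 → B.1 * X.1 = X.1 * B.1 →
      (QuotientGroup.mk X : P2) = 1 := fun X h1 h3 =>
    (one X).2 (scal h2 A.2 B.2 X.2 tA hba h1 h3)
  have fin : ∀ X : S2, (QuotientGroup.mk X : P2) * QuotientGroup.mk X = 1 →
      A.1 * (L.1 * X.1) = L.1 * X.1 * A.1 → B.1 * (L.1 * X.1) = L.1 * X.1 * B.1 →
      (QuotientGroup.mk L : P2) = QuotientGroup.mk X := fun X h h1 h3 =>
    mul_right_cancel (b := (QuotientGroup.mk X : P2)) ((key (L * X) h1 h3).trans h.symm)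
  have h3 : ∀ Y : M2, B.1 * (A.1 * Y) = -(A.1 * (B.1 * Y)) := fun Y => by
    rw [← mul_assoc, hba, neg_mul, mul_assoc]
  rcases (mk_eq (L * A) (A * L)).1 hal.symm.eq with e | e <;>
    rcases (mk_eq (L * B) (B * L)).1 hbl.symm.eq with e' | e'
  · exact .inl (key L e e')
  all_goals
    change A.1 * L.1 = _ at e
    change B.1 * L.1 = _ at e'
    simp only [show (L * A).1 = L.1 * A.1 from rfl, show (L * B).1 = L.1 * B.1 from rfl] at e e'
  · exact .inr (.inl (fin A ha (by rw [← mul_assoc, e]) (by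
      rw [← mul_assoc, e']; simp [mul_assoc, hba])))
  · exact .inr (.inr (.inl (fin B hb (by rw [← mul_assoc, e]; simp [mul_assoc, hba]) (by
      rw [← mul_assoc, e']))))
  · refine .inr (.inr (.inr (fin (A * B) hab ?_ ?_))) <;>
      rw [show (A * B).1 = A.1 * B.1 from rfl, ← mul_assoc]
    · rw [e]; simp [mul_assoc, hba]
    · rw [e']; simp [mul_assoc, h3]

end Cfsg.Agent.H85.PslV4
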