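import Cfsg.Agent.H85.T3QcxA

/-!
# QCX: isomorphic data give isomorphic quadrangles
-/

set_option autoImplicit false

namespace Cfsg.Agent.H85.T3Qcx

open Cfsg.Agent.H35 Cfsg.Agent.Lead.T3 Equiv

universe u

variable {I W : Type} [Group W] {X : Cox I W} {C C' : Type u}

theorem ss (X : Cox I W) (i : I) (w : W) : X.s i * (X.s i * w) = w := by
  rw [← mul_assoc, X.s_mul_s, one_mul]

theorem m_symm (X : Cox I W) (a b : I) : X.m b a = X.m a b := by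
  unfold Cox.m
  rw [← orderOf_inv]; simp

theorem mem_rt {v w : W} {i : I} :
    w ∈ X.rt v i ↔ X.len (v⁻¹ * w) < X.len (X.s i * (v⁻¹ * w)) := Iff.rfl

/-- Lengths in a dihedral group of order eight. -/
structure L4 (X : Cox I W) (a b : I) : Prop where
  m : X.m a b = 4
  l1 : X.len (X.s a) = 1
  l1' : X.len (X.s b) = 1
  l2 : X.len (X.s a * X.s b) = 2
  l2' : X.len (X.s b * X.s a) = 2
  l3 : X.len (X.s a * (X.s b * X.s a)) = 3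
  l3' : X.len (X.s b * (X.s a * X.s b)) = 3
  l4 : X.len (X.s a * (X.s b * (X.s a * X.s b))) = 4
  r : X.s b * (X.s a * (X.s b * X.s a)) = X.s a * (X.s b * (X.s a * X.s b))

theorem L4.symm {a b : I} (h : L4 X a b) : L4 X b a :=
  ⟨(m_symm X a b).trans h.m, h.l1', h.l1, h.l2', h.l2, h.l3', h.l3, h.r ▸ h.l4, h.r.symm⟩

theorem ne_of_m {a b : I} (h : X.m a b = 4) : a ≠ b := by
  rintro rfl
  simp [Cox.m, X.s_mul_s] at h

variable [Finite W]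

theorem l4_of (hc : CxStmt) {a b : I} (h : X.m a b = 4) : L4 X a b := by
  have h' := (m_symm X a b).trans h
  have k := ((hc X).2.2.2.2.2.2.2 a b (ne_of_m h)).1
  have k' := ((hc X).2.2.2.2.2.2.2 b a (ne_of_m h')).1
  rw [h] at k
  rw [h'] at k'
  refine ⟨h, X.exch.len_s a, X.exch.len_s b, by simpa [InvGen.altw] using k 2 (by omega),
    by simpa [InvGen.altw] using k' 2 (by omega), by simpa [InvGen.altw] using k 3 (by omega),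
    by simpa [InvGen.altw] using k' 3 (by omega), by simpa [InvGen.altw] using k 4 (by omega), ?_⟩
  have e : (X.s a * X.s b) ^ 4 = 1 := h ▸ pow_orderOf_eq_one _
  have := (InvGen.prod_altw_eq_iff X.s a b (X.s_mul_s a) (X.s_mul_s b) 4).2 e
  simpa [InvGen.altw] using this.symm

theorem L4.e1 (hr : RtStmt) {a b : I} (h : L4 X a b) :
    X.rt (X.s a * X.s b * X.s a) b = X.rt 1 b := by
  refine (hr X).2.2.2.1 _ _ _ _ ?_ ?_
  · have := congrArg (fun w => w * (X.s a * (X.s b * X.s a))) h.r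
    simpa [Cox.rf, mul_assoc, ss, X.s_mul_s] using this
  · simp [mem_rt, mul_assoc, h.r, h.l3, h.l4]

theorem L4.e2 (hr : RtStmt) {a b : I} (h : L4 X a b) :
    X.rt (X.s b) a = X.rt (X.s a * X.s b) a := by
  refine (hr X).2.2.2.1 _ _ _ _ ?_ ?_
  · have := congrArg (fun w => w * X.s a) h.r
    simpa [Cox.rf, mul_assoc, ss, X.s_mul_s] using this.symm
  · simp [mem_rt, mul_assoc, h.l3', h.l4]

theorem L4.cases (hr : RtStmt) {a b : I} (h : L4 X a b) {n : ℕ} (hn : n ≤ 4) {i : I}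
    (hi : i = a ∨ i = b)
    (hl : X.len (X.wp (InvGen.altw a b n)) < X.len (X.wp (InvGen.altw a b n) * X.s i)) :
    X.rt (X.wp (InvGen.altw a b n)) i = X.rt 1 a ∨ X.rt (X.wp (InvGen.altw a b n)) i = X.rt (X.s a) b ∨
      X.rt (X.wp (InvGen.altw a b n)) i = X.rt (X.s a * X.s b) a ∨
      X.rt (X.wp (InvGen.altw a b n)) i = X.rt 1 b := by
  have e := h.e1 hr
  have e2 := congrArg (fun w => X.len (w * X.s a)) h.r
  simp only [mul_assoc, X.s_mul_s, mul_one, h.l3'] at e e2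
  interval_cases n <;> rcases hi with rfl | rfl <;>
    simp [InvGen.altw, mul_assoc, X.s_mul_s, h.l1, h.l2, h.l3, h.l4, e, ← e2] at hl ⊢

variable {B : Bld X C} {B' : Bld X C'} {σ : W → C} {σ' : W → C'} {J : Set I}

omit [Finite W] in
theorem L4.fix1 {a b : I} (h : L4 X a b) :
    (1 : W) ∈ X.rt 1 a ∧ 1 ∈ X.rt (X.s a) b ∧ 1 ∈ X.rt (X.s a * X.s b) a ∧ (1 : W) ∈ X.rt 1 b := by
  simp [mem_rt, mul_assoc, h.l1, h.l1', h.l2', h.l3]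

theorem down [Finite C] (h1 : Ba1Stmt.{u}) (hσ : B.Apt σ) {g : Perm C} (hg : g ∈ B.Aut J (σ 1))
    (g1 : g (σ 1) = σ 1) {w : W} (hw : w ∈ X.WJ J) {i : I} (hi : i ∈ J)
    (hl : X.len (w * X.s i) = X.len w + 1) (e : g (σ (w * X.s i)) = σ (w * X.s i)) :
    g (σ w) = σ w := by
  have k1 := hg.2 _ (apt_mem hσ (one_mem _)) _ (apt_mem hσ hw)
  have k2 := hg.2 _ (apt_mem hσ hw) _ (apt_mem hσ (mul_mem hw (s_mem hi)))
  rw [g1] at k1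
  rw [e] at k2
  refine ((h1 B).2.2.2.2.2.2.2.2.1 (σ 1) (σ (w * X.s i)) _ _ k1 k2 ?_)
  rw [k1, k2, hσ, hσ, hσ]
  simp [hl, X.exch.len_s]

theorem chain [Finite C] (hr : RtStmt) (h1 : Ba1Stmt.{u}) (hf : FreeStmt.{u}) (hσ : B.Apt σ)
    {a b : I} (h : L4 X a b) (ha : a ∈ J) (hb : b ∈ J) {v1 v2 v3 v4 : Perm C}
    (m1 : v1 ∈ B.R σ J 1 a) (m2 : v2 ∈ B.R σ J (X.s a) b) (m3 : v3 ∈ B.R σ J (X.s a * X.s b) a)
    (m4 : v4 ∈ B.R σ J 1 b) {n : ℕ} (hn : n ≤ 4) :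
    (v1 * v2 * v3 * v4) (σ (X.wp (InvGen.altw a b n))) = σ (X.wp (InvGen.altw a b n)) ↔
      (0 < n → v1 = 1) ∧ (1 < n → v2 = 1) ∧ (2 < n → v3 = 1) ∧ (3 < n → v4 = 1) := by
  have fr := (hf B σ J hσ).1
  have sa := s_mem (X := X) ha
  have sb := s_mem (X := X) hb
  have ja : ∃ j ∈ J, 3 ≤ X.m a j := ⟨b, hb, by rw [h.m]; omega⟩
  have jb : ∃ j ∈ J, 3 ≤ X.m b j := ⟨a, ha, by rw [h.symm.m]; omega⟩
  obtain ⟨o1, o2, o3, o4⟩ := h.fix1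
  have a0 := m1.2.1 _ (one_mem _) o1
  have b0 := m2.2.1 _ (one_mem _) o2
  have c0 := m3.2.1 _ (one_mem _) o3
  have d0 := m4.2.1 _ (one_mem _) o4
  have b1 := m2.2.1 _ sa (by simp [mem_rt, X.s_mul_s, h.l1'])
  have c1 := m3.2.1 _ sa (by simp [mem_rt, mul_assoc, X.s_mul_s, h.l1', h.l2])
  have d1 := m4.2.1 _ sa (by simp [mem_rt, h.l1, h.l2'])
  have c2 := m3.2.1 _ (mul_mem sa sb) (by simp [mem_rt, mul_assoc, X.s_mul_s, ss, h.l1])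
  have d2 := m4.2.1 _ (mul_mem sa sb) (by simp [mem_rt, h.l2, h.l3'])
  have d3 := m4.2.1 _ (mul_mem (mul_mem sa sb) sa) (by simp [mem_rt, mul_assoc, h.r, h.l3, h.l4])
  have au : v1 * v2 * v3 * v4 ∈ B.Aut J (σ 1) := mul_mem (mul_mem (mul_mem m1.1 m2.1) m3.1) m4.1
  have u0 : (v1 * v2 * v3 * v4) (σ 1) = σ 1 := by simp [a0, b0, c0, d0]
  have f1 : (v1 * v2 * v3 * v4) (σ (X.s a)) = σ (X.s a) → v1 = 1 := fun e =>
    fr 1 (one_mem _) a ha ja v1 m1 _ (by simpa using apt_pan hσ 1 a) (by simpa [b1, c1, d1] using e)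
  have f2 : (v1 * v2 * v3 * v4) (σ (X.s a * X.s b)) = σ (X.s a * X.s b) → v1 = 1 ∧ v2 = 1 := fun e => by
    have k := f1 (down h1 hσ au u0 sa hb (by rw [h.l1, h.l2]) e)
    exact ⟨k, fr _ sa b hb jb v2 m2 _ (apt_pan hσ _ b) (by simpa [k, c2, d2] using e)⟩
  have f3 : (v1 * v2 * v3 * v4) (σ (X.s a * X.s b * X.s a)) = σ (X.s a * X.s b * X.s a) →
      v1 = 1 ∧ v2 = 1 ∧ v3 = 1 := fun e => by
    have k := f2 (down h1 hσ au u0 (mul_mem sa sb) ha (by rw [mul_assoc, h.l3, h.l2]) e)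
    exact ⟨k.1, k.2, fr _ (mul_mem sa sb) a ha ja v3 m3 _ (apt_pan hσ _ a)
      (by simpa [k.1, k.2, d3] using e)⟩
  have f4 : (v1 * v2 * v3 * v4) (σ (X.s a * X.s b * X.s a * X.s b)) =
      σ (X.s a * X.s b * X.s a * X.s b) → v1 = 1 ∧ v2 = 1 ∧ v3 = 1 ∧ v4 = 1 := fun e => by
    have k := f3 (down h1 hσ au u0 (mul_mem (mul_mem sa sb) sa) hb
      (by simp only [mul_assoc, h.l3, h.l4]) e)
    refine ⟨k.1, k.2.1, k.2.2, fr _ (mul_mem (mul_mem sa sb) sa) b hb jb v4 ?_ _ (apt_pan hσ _ b)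
      (by simpa [k.1, k.2.1, k.2.2] using e)⟩
    rwa [Bld.R, h.e1 hr]
  simp only [mul_assoc (X.s a)] at d3 f3 f4
  interval_cases n
  · simpa [InvGen.altw] using u0
  · simp only [InvGen.altw, InvGen.wp_cons, InvGen.wp_nil, mul_one]
    exact ⟨fun e => by simp [f1 e], fun e => by simp [e.1 (by omega), b1, c1, d1]⟩
  · simp only [InvGen.altw, InvGen.wp_cons, InvGen.wp_nil, mul_one]
    exact ⟨fun e => by simp [f2 e], fun e => by simp [e.1 (by omega), e.2.1 (by omega), c2, d2]⟩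
  · simp only [InvGen.altw, InvGen.wp_cons, InvGen.wp_nil, mul_one]
    exact ⟨fun e => by simp [f3 e],
      fun e => by simp [e.1 (by omega), e.2.1 (by omega), e.2.2.1 (by omega), d3]⟩
  · simp only [InvGen.altw, InvGen.wp_cons, InvGen.wp_nil, mul_one, ← mul_assoc (X.s b)]
    exact ⟨fun e => by simp [f4 e], fun e => by
      simp [e.1 (by omega), e.2.1 (by omega), e.2.2.1 (by omega), e.2.2.2 (by omega)]⟩

/-- The action of a group generated by elements covering the four root groups. -/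
theorem ac_of (hc : CxStmt) (hr : RtStmt) (hσ : B.Apt σ) {j k : I} (hm : X.m j k = 4)
    (mou : B.Mou {j, k} (σ 1)) {Δ : Type*} [Group Δ] (ρ : Δ →* Perm C)
    (h0 : ∀ u, ρ u ∈ B.R σ {j, k} 1 j ⊔ B.R σ {j, k} (X.s j) k ⊔ B.R σ {j, k} (X.s j * X.s k) j ⊔
      B.R σ {j, k} 1 k) (h1 : B.R σ {j, k} 1 j ≤ ρ.range) (h2 : B.R σ {j, k} (X.s j) k ≤ ρ.range)
    (h3 : B.R σ {j, k} (X.s j * X.s k) j ≤ ρ.range) (h4 : B.R σ {j, k} 1 k ≤ ρ.range) :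
    Ac B σ {j, k} ρ := by
  have h := l4_of hc hm
  obtain ⟨o1, o2, o3, o4⟩ := h.fix1
  have k1 : ∀ v i, (1 : W) ∈ X.rt v i →
      B.R σ {j, k} v i ≤ B.Aut {j, k} (σ 1) ⊓ MulAction.stabilizer (Perm C) (σ 1) :=
    fun v i o g hg => ⟨hg.1, hg.2.1 _ (one_mem _) o⟩
  have k2 := fun u => sup_le (sup_le (sup_le (k1 _ _ o1) (k1 _ _ o2)) (k1 _ _ o3)) (k1 _ _ o4) (h0 u)
  refine ⟨hσ, fun u => (k2 u).1, fun u => (k2 u).2, fun w hw i hi hl y hy => ?_⟩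
  obtain ⟨g, hg, e⟩ := mou σ hσ (apt_mem hσ (one_mem _)) w hw i hi _ (apt_pan hσ w i) y hy
  have k3 : B.R σ {j, k} w i ≤ ρ.range := by
    obtain ⟨n, hn, rfl | rfl⟩ := ((hc X).2.2.2.2.2.2.2 j k (ne_of_m hm)).2.2 w hw
    · rcases h.cases hr (hm ▸ hn) hi hl with e | e | e | e <;> rwa [Bld.R, e]
    · rcases h.symm.cases hr (hm ▸ hn) (Or.symm hi) hl with e | e | e | e
      · rwa [Bld.R, e]
      · rwa [Bld.R, e, h.e2 hr]
      · rwa [Bld.R, e, ← h.symm.e2 hr]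
      · rwa [Bld.R, e]
  obtain ⟨u, rfl⟩ := k3 hg
  exact ⟨u, hg.2.1 w hw ((hr X).1 w i), e⟩

theorem qcxStmt (hc : CxStmt) (hr : RtStmt) (h1 : Ba1Stmt.{u}) (h3 : Ba3Stmt.{u})
    (hf : FreeStmt.{u}) : QcxStmt.{u} := by
  intro I W _ _ X C C' _ _ B B' σ σ' j k F _ κ μ d d' f c g hσ hσ' ⟨hm, mou, x1, x3, a, q, hκ⟩
    ⟨_, mou', x1', x3', a', q', hμ⟩ c0 e1 e2 e3 e4 e5 g1 g2
  have h := l4_of hc hm
  have r : Rel4 d x1 x3 a (B.R σ {j, k} 1 k).subtype :=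
    ⟨q.add1, q.add3, q.c12, q.c23, q.c34, q.r13, q.r24, q.r14⟩
  have r' : Rel4 d x1' (fun t => x3' (c * t)) (a'.comp f.toMonoidHom)
      ((B'.R σ' {j, k} 1 k).subtype.comp f.toMonoidHom) :=
    ⟨q'.add1, fun s t => by rw [mul_add, q'.add3], fun s y => q'.c12 s _, fun y t => q'.c23 _ _,
      fun t y => q'.c34 _ _, fun s t => by
        rw [q'.r13, e1, mul_left_comm, e5]; rfl,
      fun y y' => by rw [← e4]; exact q'.r24 (f y) (f y'), fun s y => by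
        have := q'.r14 s (f y)
        rw [← e3, e2, mul_left_comm] at this
        exact this⟩
  have rr := r.prod r'
  have m1 := fun s => (q.mem1 _).2 ⟨s, rfl⟩
  have m2 : ∀ y, a y ∈ B.R σ {j, k} (X.s j) k := fun y => q.mem2 ▸ ⟨y, rfl⟩
  have m3 := fun s => (q.mem3 _).2 ⟨s, rfl⟩
  have m1' := fun s => (q'.mem1 _).2 ⟨s, rfl⟩
  have m2' : ∀ y, a' y ∈ B'.R σ' {j, k} (X.s j) k := fun y => q'.mem2 ▸ ⟨y, rfl⟩
  have m3' := fun s => (q'.mem3 _).2 ⟨s, rfl⟩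
  obtain ⟨D, hD⟩ : ∃ D, D = DD (fun s => (x1 s, x1' s)) (fun s => (x3 s, x3' (c * s)))
    (a.prod (a'.comp f.toMonoidHom))
    ((B.R σ {j, k} 1 k).subtype.prod ((B'.R σ' {j, k} 1 k).subtype.comp f.toMonoidHom)) := ⟨_, rfl⟩
  have n1 : ∀ u : D, ∃ s y t, ∃ y' : B.R σ {j, k} 1 k, u.1.1 = x1 s * a y * x3 t * y' ∧
      u.1.2 = x1' s * a' (f y) * x3' (c * t) * f y' := fun u => by
    obtain ⟨s, y, t, y', e⟩ := rr.nf (hD.le u.2)
    exact ⟨s, y, t, y', congrArg Prod.fst e, congrArg Prod.snd e⟩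
  have n2 : ∀ u : D, ∃ s y t, ∃ y' : B.R σ {j, k} 1 k, u.1.1 = y' * x3 t * a y * x1 s ∧
      u.1.2 = f y' * x3' (c * t) * a' (f y) * x1' s := fun u => by
    obtain ⟨s, y, t, y', e⟩ := rr.nf' (hD.le u.2)
    exact ⟨s, y, t, y', congrArg Prod.fst e, congrArg Prod.snd e⟩
  have d1 : ∀ s, (x1 s, x1' s) ∈ D := fun s => hD ▸ Subgroup.subset_closure (.inl ⟨s, rfl⟩)
  have d2 : ∀ y, (a y, a' (f y)) ∈ D := fun s => hD ▸ Subgroup.subset_closure (.inr (.inl ⟨s, rfl⟩))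
  have d3 : ∀ s, (x3 s, x3' (c * s)) ∈ D := fun s =>
    hD ▸ Subgroup.subset_closure (.inr (.inr (.inl ⟨s, rfl⟩)))
  have d4 : ∀ y : B.R σ {j, k} 1 k, (y.1, (f y).1) ∈ D := fun s =>
    hD ▸ Subgroup.subset_closure (.inr (.inr (.inr ⟨s, rfl⟩)))
  have nfm : ∀ {Γ : Type u} [Group Γ] {U1 U2 U3 U4 : Subgroup Γ} {p1 p2 p3 p4 : Γ}, p1 ∈ U1 → p2 ∈ U2 →
      p3 ∈ U3 → p4 ∈ U4 → p1 * p2 * p3 * p4 ∈ U1 ⊔ U2 ⊔ U3 ⊔ U4 := fun k1 k2 k3 k4 =>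
    Subgroup.mul_mem_sup (Subgroup.mul_mem_sup (Subgroup.mul_mem_sup k1 k2) k3) k4
  have A : Ac B σ {j, k} ((MonoidHom.fst _ _).comp D.subtype) := ac_of hc hr hσ hm mou _
    (fun u => by
      obtain ⟨s, y, t, y', e, -⟩ := n1 u
      change u.1.1 ∈ _
      exact e ▸ nfm (m1 s) (m2 y) (m3 t) y'.2)
    (fun p hp => by obtain ⟨s, rfl⟩ := (q.mem1 p).1 hp; exact ⟨⟨_, d1 s⟩, rfl⟩)
    (fun p hp => by obtain ⟨s, rfl⟩ := q.mem2.ge hp; exact ⟨⟨_, d2 s⟩, rfl⟩)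
    (fun p hp => by obtain ⟨s, rfl⟩ := (q.mem3 p).1 hp; exact ⟨⟨_, d3 s⟩, rfl⟩)
    (fun p hp => ⟨⟨_, d4 ⟨p, hp⟩⟩, rfl⟩)
  have A' : Ac B' σ' {j, k} ((MonoidHom.snd _ _).comp D.subtype) := ac_of hc hr hσ' hm mou' _
    (fun u => by
      obtain ⟨s, y, t, y', -, e⟩ := n1 u
      change u.1.2 ∈ _
      exact e ▸ nfm (m1' s) (m2' _) (m3' _) (f y').2)
    (fun p hp => by obtain ⟨s, rfl⟩ := (q'.mem1 p).1 hp; exact ⟨⟨_, d1 s⟩, rfl⟩)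
    (fun p hp => by
      obtain ⟨s, rfl⟩ := q'.mem2.ge hp
      obtain ⟨s, rfl⟩ := f.surjective s
      exact ⟨⟨_, d2 s⟩, rfl⟩)
    (fun p hp => by
      obtain ⟨s, rfl⟩ := (q'.mem3 p).1 hp
      exact ⟨⟨_, d3 (c⁻¹ * s)⟩, congrArg x3' (mul_inv_cancel_left₀ c0 s)⟩)
    (fun p hp => by
      obtain ⟨s, e⟩ := f.surjective ⟨p, hp⟩
      exact ⟨⟨_, d4 s⟩, congrArg Subtype.val e⟩)
  have i1 : ∀ s, x1 s = 1 ↔ x1' s = 1 := fun s => by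
    rw [← zero_of_add q.add1, ← zero_of_add q'.add1, q.inj1.eq_iff, q'.inj1.eq_iff]
  have i2 : ∀ y, a y = 1 ↔ a' (f y) = 1 := fun y => by
    rw [map_eq_one_iff a q.inj2, map_eq_one_iff a' q'.inj2, map_eq_one_iff f f.injective]
  have i3 : ∀ s, x3 s = 1 ↔ x3' (c * s) = 1 := fun s => by
    rw [← zero_of_add q.add3, ← zero_of_add q'.add3, q.inj3.eq_iff, q'.inj3.eq_iff, mul_eq_zero,
      or_iff_right c0]
  have i4 : ∀ y : B.R σ {j, k} 1 k, y.1 = 1 ↔ (f y).1 = 1 := fun y => by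
    rw [OneMemClass.coe_eq_one, OneMemClass.coe_eq_one, map_eq_one_iff f f.injective]
  have hj : j ∈ ({j, k} : Set I) := .inl rfl
  have hk : k ∈ ({j, k} : Set I) := .inr rfl
  obtain ⟨φ, p1, p2⟩ := exists_iso h3 A A' fun u w hw => by
    change u.1.1 _ = _ ↔ u.1.2 _ = _
    obtain ⟨n, hn, rfl | rfl⟩ := ((hc X).2.2.2.2.2.2.2 j k (ne_of_m hm)).2.2 w hw
    · obtain ⟨s, y, t, y', k1, k2⟩ := n1 u
      rw [k1, k2, chain hr h1 hf hσ h hj hk (m1 s) (m2 y) (m3 t) y'.2 (hm ▸ hn),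
        chain hr h1 hf hσ' h hj hk (m1' s) (m2' _) (m3' _) (f y').2 (hm ▸ hn), i1, i2, i3, i4]
    · obtain ⟨s, y, t, y', k1, k2⟩ := n2 u
      rw [k1, k2, chain hr h1 hf hσ h.symm hk hj y'.2 (by rw [Bld.R, h.e2 hr]; exact m3 t)
          (by rw [Bld.R, ← h.symm.e2 hr]; exact m2 y) (m1 s) (hm ▸ hn),
        chain hr h1 hf hσ' h.symm hk hj (f y').2 (by rw [Bld.R, h.e2 hr]; exact m3' _)
          (by rw [Bld.R, ← h.symm.e2 hr]; exact m2' _) (m1' s) (hm ▸ hn), i1, i2, i3, i4]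
  refine ⟨φ, p1, fun w hw => by simpa using p2 1 w hw, fun i hi x hx => ?_⟩
  rcases hi with rfl | rfl
  · obtain ⟨p, hp, e⟩ := mou σ hσ (apt_mem hσ (one_mem _)) 1 (one_mem _) i hj _ (apt_pan hσ 1 i) x hx
    obtain ⟨p', hp', e'⟩ := mou' σ' hσ' (apt_mem hσ' (one_mem _)) 1 (one_mem _) i hj _
      (apt_pan hσ' 1 i) _ (g1 x hx).1
    obtain ⟨s, rfl⟩ := (q.mem1 p).1 hp
    obtain ⟨s', rfl⟩ := (q'.mem1 p').1 hp'
    rw [one_mul] at e e'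
    have k := (g1 x hx).2
    rw [← e', hμ, ← e, hκ] at k
    rw [← e', ← e, k]
    exact p2 ⟨_, d1 s⟩ _ (s_mem hj)
  · obtain ⟨p, hp, e⟩ := mou σ hσ (apt_mem hσ (one_mem _)) 1 (one_mem _) i hk _ (apt_pan hσ 1 i) x hx
    rw [one_mul] at e
    rw [← e, g2 ⟨p, hp⟩]
    exact p2 ⟨_, d4 ⟨p, hp⟩⟩ _ (s_mem hk)

end Cfsg.Agent.H85.T3Qcx
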