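import Cfsg.Agent.Lead.T3Defs

/-!
# Two actions of one group on two residues give an isomorphism
-/

set_option autoImplicit false

namespace Cfsg.Agent.H85.T3Qcx

open Cfsg.Agent.H35 Cfsg.Agent.Lead.T3 Equiv

universe u

variable {I W : Type} [Group W] {X : Cox I W} {C C' : Type u} {Δ : Type*} [Group Δ]

theorem δ_self (B : Bld X C) (x : C) : B.δ x x = 1 := (B.eq_one x x).2 rfl

theorem apt_mem {B : Bld X C} {σ : W → C} (h : B.Apt σ) {J : Set I} {w : W} (hw : w ∈ X.WJ J) :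
    σ w ∈ B.res J (σ 1) := by
  change B.δ _ _ ∈ X.WJ J
  rwa [h, inv_one, one_mul]

theorem apt_pan {B : Bld X C} {σ : W → C} (h : B.Apt σ) (w : W) (i : I) :
    σ (w * X.s i) ∈ B.pan (σ w) i := by
  change B.δ _ _ = _
  rw [h, inv_mul_cancel_left]

theorem s_mem {J : Set I} {i : I} (hi : i ∈ J) : X.s i ∈ X.WJ J := InvGen.s_mem_closure hi

theorem pan_symm {B : Bld X C} {x y : C} {i : I} (h : y ∈ B.pan x i) : x ∈ B.pan y i := by
  change B.δ _ _ = _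
  rw [B.symm, show B.δ x y = X.s i from h, InvGen.inv_s]

theorem pan_res {B : Bld X C} {J : Set I} {c x y : C} {i : I} (hi : i ∈ J) (hx : x ∈ B.res J c)
    (h : y ∈ B.pan x i) : y ∈ B.res J c := by
  change B.δ _ _ ∈ X.WJ J
  rw [B.symm]
  have hx' : B.δ x c ∈ X.WJ J := by rw [B.symm]; exact inv_mem hx
  rcases B.step i y x c (pan_symm h) with e | e <;> rw [e]
  · exact inv_mem (mul_mem (s_mem hi) hx')
  · exact inv_mem hx'

theorem pan_tri {B : Bld X C} {x y z : C} {i : I} (h : y ∈ B.pan x i) (h' : z ∈ B.pan x i) :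
    z = y ∨ z ∈ B.pan y i := by
  rcases B.step i y x z (pan_symm h) with e | e
  · rw [show B.δ x z = X.s i from h', X.s_mul_s, B.eq_one] at e
    exact .inl e.symm
  · exact .inr (e.trans h')

theorem aut_mem {B : Bld X C} {J : Set I} {c x : C} {g : Perm C} (hg : g ∈ B.Aut J c)
    (hx : x ∈ B.res J c) : g x ∈ B.res J c := by
  by_contra hn
  exact hn ((g.injective (hg.1 _ hn)).symm ▸ hx)

/-- An action fixing the base chamber and transitive on the chambers at a given distance. -/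
structure Ac (B : Bld X C) (σ : W → C) (J : Set I) (ρ : Δ →* Perm C) : Prop where
  apt : B.Apt σ
  iso : ∀ u, ρ u ∈ B.Aut J (σ 1)
  fix : ∀ u, ρ u (σ 1) = σ 1
  lift : ∀ w ∈ X.WJ J, ∀ i ∈ J, X.len w < X.len (w * X.s i) → ∀ y ∈ B.pan (σ w) i,
    ∃ u, ρ u (σ w) = σ w ∧ ρ u (σ (w * X.s i)) = y

variable {B : Bld X C} {B' : Bld X C'} {σ : W → C} {σ' : W → C'} {J : Set I} {ρ : Δ →* Perm C}
  {ρ' : Δ →* Perm C'}

theorem Ac.δ (a : Ac B σ J ρ) (u : Δ) {v w : W} (hv : v ∈ X.WJ J) (hw : w ∈ X.WJ J) :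
    B.δ (ρ u (σ v)) (ρ u (σ w)) = v⁻¹ * w := by
  rw [(a.iso u).2 _ (apt_mem a.apt hv) _ (apt_mem a.apt hw), a.apt]

theorem Ac.wd (a : Ac B σ J ρ)
    (st : ∀ u, ∀ w ∈ X.WJ J, ρ u (σ w) = σ w ↔ ρ' u (σ' w) = σ' w) {u v : Δ} {w w' : W}
    (hw : w ∈ X.WJ J) (hw' : w' ∈ X.WJ J) (e : ρ u (σ w) = ρ v (σ w')) :
    ρ' u (σ' w) = ρ' v (σ' w') := by
  have k1 := a.δ u (one_mem _) hw
  have k2 := a.δ v (one_mem _) hw'
  rw [a.fix] at k1 k2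
  rw [e, k2, inv_one, one_mul, one_mul] at k1
  subst k1
  have := (st (v⁻¹ * u) w' hw).1 (by rw [map_mul, map_inv, Perm.mul_apply, e, Perm.inv_eq_iff_eq])
  rwa [map_mul, map_inv, Perm.mul_apply, Perm.inv_eq_iff_eq] at this

theorem Ac.pan0 (a : Ac B σ J ρ) (a' : Ac B' σ' J ρ')
    (st : ∀ u, ∀ w ∈ X.WJ J, ρ u (σ w) = σ w ↔ ρ' u (σ' w) = σ' w) {w : W} (hw : w ∈ X.WJ J)
    {i : I} (hi : i ∈ J) {y : C} (hy : y ∈ B.pan (σ w) i) :
    ∃ v, ∃ w' ∈ X.WJ J, y = ρ v (σ w') ∧ ρ' v (σ' w') ∈ B'.pan (σ' w) i := by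
  have up : ∀ w ∈ X.WJ J, X.len w < X.len (w * X.s i) → ∀ y ∈ B.pan (σ w) i,
      ∃ v, y = ρ v (σ (w * X.s i)) ∧ ρ' v (σ' (w * X.s i)) ∈ B'.pan (σ' w) i := by
    intro w hw hl y hy
    obtain ⟨v, h1, h2⟩ := a.lift w hw i hi hl y hy
    refine ⟨v, h2.symm, ?_⟩
    have := a'.δ v hw (mul_mem hw (s_mem hi))
    rwa [(st v w hw).1 h1, inv_mul_cancel_left] at this
  have hw1 := mul_mem hw (s_mem hi)
  rcases X.exch.len_mul_s i w with h | h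
  · obtain ⟨v, h1, h2⟩ := up w hw (by omega) y hy
    exact ⟨v, _, hw1, h1, h2⟩
  rcases pan_tri (apt_pan a.apt w i) hy with rfl | k
  · exact ⟨1, _, hw1, by simp, by simpa using apt_pan a'.apt w i⟩
  have e : w * X.s i * X.s i = w := by rw [mul_assoc, X.s_mul_s, mul_one]
  obtain ⟨v, h1, h2⟩ := up _ hw1 (by rw [e]; omega) y k
  rw [e] at h1 h2
  refine ⟨v, w, hw, h1, (pan_tri (pan_symm (apt_pan a'.apt w i)) h2).resolve_left fun k2 => ?_⟩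
  have k3 : B.δ (σ w) y = X.s i := hy
  rw [h1, (st v w hw).2 k2, δ_self] at k3
  exact X.exch.s_ne_one i k3.symm

theorem Ac.pan (a : Ac B σ J ρ) (a' : Ac B' σ' J ρ')
    (st : ∀ u, ∀ w ∈ X.WJ J, ρ u (σ w) = σ w ↔ ρ' u (σ' w) = σ' w) (u : Δ) {w : W} (hw : w ∈ X.WJ J)
    {i : I} (hi : i ∈ J) {y : C} (hy : y ∈ B.pan (ρ u (σ w)) i) :
    ∃ v, ∃ w' ∈ X.WJ J, y = ρ v (σ w') ∧ ρ' v (σ' w') ∈ B'.pan (ρ' u (σ' w)) i := by
  have h1 := aut_mem (a.iso u) (apt_mem a.apt hw)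
  have h2 := (a.iso u⁻¹).2 _ h1 _ (pan_res hi h1 hy)
  rw [show B.δ (ρ u (σ w)) y = X.s i from hy, map_inv, show (ρ u)⁻¹ (ρ u (σ w)) = σ w by simp] at h2
  obtain ⟨v, w', k1, k2, k3⟩ := a.pan0 a' st hw hi h2
  refine ⟨u * v, w', k1, by rw [map_mul, Perm.mul_apply, ← k2]; simp, ?_⟩
  change B'.δ _ _ = _
  rw [map_mul, Perm.mul_apply, (a'.iso u).2 _ (apt_mem a'.apt hw) _
    (aut_mem (a'.iso v) (apt_mem a'.apt k1))]
  exact k3

theorem Ac.total (a : Ac B σ J ρ) {x : C} (hx : x ∈ B.res J (σ 1)) :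
    ∃ v, ∃ w ∈ X.WJ J, x = ρ v (σ w) := by
  obtain ⟨l, hl, e⟩ := X.mem_closure_iff.1 (show B.δ x (σ 1) ∈ X.WJ J by rw [B.symm]; exact inv_mem hx)
  clear hx
  induction l generalizing x with
  | nil => exact ⟨1, 1, one_mem _, by simpa using (B.eq_one _ _).1 e.symm⟩
  | cons i l ih =>
    obtain ⟨y, h1, h2⟩ := B.ex i x (σ 1)
    rw [← e, InvGen.wp_cons, ← mul_assoc, X.s_mul_s, one_mul] at h2
    obtain ⟨v, w, hw, rfl⟩ := ih (fun j hj => hl j (List.mem_cons_of_mem _ hj)) h2.symm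
    obtain ⟨v', w', k1, k2, -⟩ := a.pan a (fun _ _ _ => Iff.rfl) v hw (hl i List.mem_cons_self) h1
    exact ⟨v', w', k1, k2⟩

theorem exists_iso [Finite W] [Finite C] [Finite C'] (h3 : Ba3Stmt.{u}) (a : Ac B σ J ρ)
    (a' : Ac B' σ' J ρ') (st : ∀ u, ∀ w ∈ X.WJ J, ρ u (σ w) = σ w ↔ ρ' u (σ' w) = σ' w) :
    ∃ φ : C → C', B.IsoOn B' φ J (σ 1) ∧ ∀ u, ∀ w ∈ X.WJ J, φ (ρ u (σ w)) = ρ' u (σ' w) := by
  classical
  have k : ∀ x, ∃ x', ∀ u, ∀ w ∈ X.WJ J, x = ρ u (σ w) → x' = ρ' u (σ' w) := fun x => by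
    by_cases h : ∃ u, ∃ w ∈ X.WJ J, x = ρ u (σ w)
    · obtain ⟨u, w, hw, rfl⟩ := h
      exact ⟨_, fun v w' hw' e => a.wd st hw hw' e⟩
    · exact ⟨σ' 1, fun u w hw e => absurd ⟨u, w, hw, e⟩ h⟩
  choose φ hφ using k
  refine ⟨φ, ((h3 B B').1 J (σ 1) φ fun x hx i hi y hy => ?_).2 fun x hx i hi y hy => ?_,
    fun u w hw => hφ _ u w hw rfl⟩
  · obtain ⟨u, w, hw, rfl⟩ := a.total hx
    obtain ⟨v, w', k1, rfl, k3⟩ := a.pan a' st u hw hi hy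
    rwa [hφ _ u w hw rfl, hφ _ v w' k1 rfl]
  · obtain ⟨u, w, hw, rfl⟩ := a.total hx
    rw [hφ _ u w hw rfl] at hy
    obtain ⟨v, w', k1, rfl, k3⟩ := a'.pan a (fun u w hw => (st u w hw).symm) u hw hi hy
    exact ⟨_, k3, hφ _ v w' k1 rfl⟩

/-! ### Normal forms -/

/-- The relations of a window, without the subgroups. -/
structure Rel4 {F : Type} [Field F] {Y : Type u} [Group Y] {Γ : Type*} [Group Γ] (d : QD F Y)
    (x1 x3 : F → Γ) (a e : Y →* Γ) : Prop where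
  add1 : ∀ s t, x1 (s + t) = x1 s * x1 t
  add3 : ∀ s t, x3 (s + t) = x3 s * x3 t
  c12 : ∀ s y, x1 s * a y = a y * x1 s
  c23 : ∀ y t, a y * x3 t = x3 t * a y
  c34 : ∀ t y, x3 t * e y = e y * x3 t
  r13 : ∀ s t, x1 s * x3 t * (x1 s)⁻¹ = a (d.z (d.σ s * t)) * x3 t
  r24 : ∀ y y', e y * a y' * (e y)⁻¹ = a y' * x3 (d.Bf y y')
  r14 : ∀ s y, x1 s * e y * (x1 s)⁻¹ = a (d.sm s y) * x3 (s * d.Q y) * e y

section NF

variable {F : Type} [Field F] {Y : Type u} [Group Y] {Γ Γ' : Type*} [Group Γ] [Group Γ']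
  {d : QD F Y} {x1 x3 : F → Γ} {a e : Y →* Γ}

theorem zero_of_add {x : F → Γ} (h : ∀ s t, x (s + t) = x s * x t) : x 0 = 1 := by
  simpa using h 0 0

theorem inv_of_add {x : F → Γ} (h : ∀ s t, x (s + t) = x s * x t) (s : F) : (x s)⁻¹ = x (-s) :=
  inv_eq_of_mul_eq_one_right (by rw [← h, add_neg_cancel, zero_of_add h])

theorem Rel4.prod {x1' x3' : F → Γ'} {a' e' : Y →* Γ'} (r : Rel4 d x1 x3 a e)
    (r' : Rel4 d x1' x3' a' e') :
    Rel4 d (fun s => (x1 s, x1' s)) (fun s => (x3 s, x3' s)) (a.prod a') (e.prod e') :=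
  ⟨fun s t => Prod.ext (r.add1 s t) (r'.add1 s t), fun s t => Prod.ext (r.add3 s t) (r'.add3 s t),
    fun s t => Prod.ext (r.c12 s t) (r'.c12 s t), fun s t => Prod.ext (r.c23 s t) (r'.c23 s t),
    fun s t => Prod.ext (r.c34 s t) (r'.c34 s t), fun s t => Prod.ext (r.r13 s t) (r'.r13 s t),
    fun s t => Prod.ext (r.r24 s t) (r'.r24 s t), fun s t => Prod.ext (r.r14 s t) (r'.r14 s t)⟩

/-- The group generated by the four root groups. -/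
def DD (x1 x3 : F → Γ) (a e : Y →* Γ) : Subgroup Γ :=
  Subgroup.closure {g | (∃ s, g = x1 s) ∨ (∃ y, g = a y) ∨ (∃ s, g = x3 s) ∨ ∃ y, g = e y}

theorem Rel4.step (r : Rel4 d x1 x3 a e) {g h : Γ}
    (hg : (∃ s, g = x1 s) ∨ (∃ y, g = a y) ∨ (∃ s, g = x3 s) ∨ ∃ y, g = e y)
    (hh : ∃ s y t y', h = x1 s * a y * x3 t * e y') : ∃ s y t y', g * h = x1 s * a y * x3 t * e y' := by
  obtain ⟨s, y, t, y', rfl⟩ := hh
  rcases hg with ⟨p, rfl⟩ | ⟨p, rfl⟩ | ⟨p, rfl⟩ | ⟨p, rfl⟩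
  · exact ⟨p + s, y, t, y', by rw [r.add1]; group⟩
  · refine ⟨s, p * y, t, y', ?_⟩
    rw [map_mul, ← mul_assoc (x1 s), r.c12 s p]; group
  · have h1 := r.r13 (-s) p
    rw [← inv_of_add r.add1] at h1
    refine ⟨s, d.z (d.σ (-s) * p) * y, p + t, y', ?_⟩
    calc _ = x1 s * ((x1 s)⁻¹ * x3 p * (x1 s)⁻¹⁻¹) * a y * x3 t * e y' := by group
      _ = x1 s * a (d.z (d.σ (-s) * p)) * (x3 p * a y) * x3 t * e y' := by rw [h1]; group
      _ = _ := by rw [← r.c23, map_mul, r.add3]; group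
  · have h1 := r.r14 (-s) p
    rw [← inv_of_add r.add1] at h1
    refine ⟨s, d.sm (-s) p * y, -s * d.Q p + d.Bf p y + t, p * y', ?_⟩
    calc _ = x1 s * ((x1 s)⁻¹ * e p * (x1 s)⁻¹⁻¹) * a y * x3 t * e y' := by group
      _ = x1 s * a (d.sm (-s) p) * x3 (-s * d.Q p) * (e p * a y * (e p)⁻¹) * (e p * x3 t) * e y' := by
        rw [h1]; group
      _ = x1 s * a (d.sm (-s) p) * (x3 (-s * d.Q p) * a y) * x3 (d.Bf p y) * x3 t * e p * e y' := by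
        rw [r.r24, ← r.c34]; group
      _ = _ := by rw [← r.c23, map_mul, map_mul, r.add3, r.add3]; group

theorem Rel4.nf (r : Rel4 d x1 x3 a e) {g : Γ} (hg : g ∈ DD x1 x3 a e) :
    ∃ s y t y', g = x1 s * a y * x3 t * e y' := by
  induction hg using Subgroup.closure_induction_left with
  | one => exact ⟨0, 1, 0, 1, by simp [zero_of_add r.add1, zero_of_add r.add3]⟩
  | mul_left g hg h _ ih => exact r.step hg ih
  | inv_mul_cancel g hg h _ ih =>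
    refine r.step ?_ ih
    rcases hg with ⟨p, rfl⟩ | ⟨p, rfl⟩ | ⟨p, rfl⟩ | ⟨p, rfl⟩
    · exact .inl ⟨_, inv_of_add r.add1 p⟩
    · exact .inr (.inl ⟨_, (map_inv a p).symm⟩)
    · exact .inr (.inr (.inl ⟨_, inv_of_add r.add3 p⟩))
    · exact .inr (.inr (.inr ⟨_, (map_inv e p).symm⟩))

theorem Rel4.nf' (r : Rel4 d x1 x3 a e) {g : Γ} (hg : g ∈ DD x1 x3 a e) :
    ∃ s y t y', g = e y' * x3 t * a y * x1 s := by
  obtain ⟨s, y, t, y', h⟩ := r.nf (inv_mem hg)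
  refine ⟨-s, y⁻¹, -t, y'⁻¹, ?_⟩
  rw [← inv_of_add r.add1, ← inv_of_add r.add3, map_inv, map_inv, ← inv_inv g, h]
  group

end NF

end Cfsg.Agent.H85.T3Qcx
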